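import Cfsg.Agent.Lib.Zassenhaus.Rep
import Cfsg.Agent.Lib.Transfer.Fusion

/-!
Fixed-point-free groups with few elements of order three are solvable.
-/

set_option autoImplicit false

namespace Cfsg.Agent.Zassenhaus

open Subgroup
open scoped Pointwise commutatorElement

variable {G : Type*} [Group G] [Finite G]

theorem isSolvable_of_normal {N : Subgroup G} [N.Normal] (hN : Group.IsSolvable N)
    (hQ : Group.IsSolvable (G ⧸ N)) : Group.IsSolvable G :=
  (Group.isSolvable_iff_subgroup_quotient N).mpr ⟨hN, hQ⟩

theorem threeSet_ncard_le (H : Subgroup G) : (threeSet H).ncard ≤ (threeSet G).ncard :=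
  Set.ncard_le_ncard_of_injOn Subtype.val
    (fun y hy => ⟨fun e => hy.1 (Subtype.ext e), congrArg Subtype.val hy.2⟩)
    Subtype.val_injective.injOn (Set.toFinite _)

/-- the subgroups of order three -/
def threeSubgroups (G : Type*) [Group G] : Set (Subgroup G) := {C | Nat.card C = 3}

theorem ncard_threeSubgroups : 2 * (threeSubgroups G).ncard ≤ (threeSet G).ncard := by
  classical
  haveI := Fact.mk Nat.prime_three
  haveI : Fintype (threeSubgroups G) := Fintype.ofFinite _
  have hone : ∀ C : threeSubgroups G, Set.ncard ((C.1 : Set G) \ {1}) = 2 := fun C => by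
    have h3 : Set.ncard (C.1 : Set G) = 3 := (Nat.card_coe_set_eq _).symm.trans C.2
    rw [Set.ncard_diff_singleton_of_mem C.1.one_mem, h3]
  have hsub : ∀ C : threeSubgroups G, ((C.1 : Set G) \ {1}) ⊆ threeSet G := by
    rintro C x ⟨hx, hx1⟩
    refine ⟨hx1, ?_⟩
    have := pow_card_eq_one' (x := (⟨x, hx⟩ : C.1))
    rw [C.2] at this
    exact congrArg Subtype.val this
  have hdis : Pairwise fun C C' : threeSubgroups G =>
      Disjoint ((C.1 : Set G) \ {1}) ((C'.1 : Set G) \ {1}) := by
    intro C C' hne
    rw [Set.disjoint_left]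
    rintro x ⟨hx, hx1⟩ ⟨hx', -⟩
    refine hne (Subtype.ext ?_)
    have key : ∀ D : threeSubgroups G, x ∈ D.1 → zpowers x = D.1 := fun D hD => by
      refine eq_of_le_of_card_ge (zpowers_le.mpr hD) ?_
      rw [Nat.card_zpowers, D.2, orderOf_eq_prime (hsub D ⟨hD, hx1⟩).2 hx1]
    exact (key C hx).symm.trans (key C' hx')
  calc 2 * (threeSubgroups G).ncard = ∑ C : threeSubgroups G, ((C.1 : Set G) \ {1}).ncard := by
        rw [Finset.sum_congr rfl fun C _ => hone C, Finset.sum_const, Finset.card_univ, smul_eq_mul,
          ← Nat.card_eq_fintype_card, Nat.card_coe_set_eq, mul_comm]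
    _ = (⋃ C : threeSubgroups G, ((C.1 : Set G) \ {1})).ncard := by
        rw [Set.ncard_iUnion_of_finite (fun C => Set.toFinite _) hdis, finsum_eq_sum_of_fintype]
    _ ≤ (threeSet G).ncard := Set.ncard_le_ncard (Set.iUnion_subset hsub)

theorem perm_fin_four_isSolvable : Group.IsSolvable (Equiv.Perm (Fin 4)) := by
  haveI : Group.IsSolvable (alternatingGroup (Fin 4)) := by
    have h4 : Nat.card (Fin 4) = 4 := by simp
    haveI := alternatingGroup.normal_kleinFour h4
    haveI := alternatingGroup.kleinFour_isKleinFour h4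
    haveI : Group.IsSolvable (alternatingGroup.kleinFour (Fin 4)) :=
      Group.isSolvable_of_comm fun a b => mul_comm_of_exponent_two IsKleinFour.exponent_two a b
    haveI : Group.IsSolvable (alternatingGroup (Fin 4) ⧸ alternatingGroup.kleinFour (Fin 4)) := by
      refine Group.isSolvable_of_comm fun a b => ?_
      induction a using QuotientGroup.induction_on with | H a =>
      induction b using QuotientGroup.induction_on with | H b =>
      rw [← QuotientGroup.mk_mul, ← QuotientGroup.mk_mul, QuotientGroup.eq,
        alternatingGroup.kleinFour_eq_commutator h4,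
        show (a * b)⁻¹ * (b * a) = ⁅b⁻¹, a⁻¹⁆ by rw [commutatorElement_def]; group]
      exact commutator_mem_commutator (mem_top _) (mem_top _)
    exact (Group.isSolvable_iff_subgroup_quotient (alternatingGroup.kleinFour (Fin 4))).mpr
      ⟨inferInstance, inferInstance⟩
  exact Group.isSolvable_of_ker_le_range (alternatingGroup (Fin 4)).subtype Equiv.Perm.sign
    (by rw [Subgroup.range_subtype]; exact le_of_eq rfl)

theorem perm_isSolvable {α : Type*} [Finite α] (h : Nat.card α ≤ 4) :
    Group.IsSolvable (Equiv.Perm α) := by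
  classical
  haveI := Fintype.ofFinite α
  obtain ⟨f⟩ := Function.Embedding.nonempty_of_card_le (α := α) (β := Fin 4)
    (by rw [Fintype.card_fin, ← Nat.card_eq_fintype_card]; exact h)
  haveI := perm_fin_four_isSolvable
  exact Group.isSolvable_of_isSolvable_injective (f := Equiv.Perm.viaEmbeddingHom f)
    (Equiv.Perm.viaEmbeddingHom_injective f)

theorem quotient_solvable_of_index_le_two (N : Subgroup G) [N.Normal] (h : N.index ≤ 2) :
    Group.IsSolvable (G ⧸ N) := by
  rcases (show Nat.card (G ⧸ N) = 1 ∨ Nat.card (G ⧸ N) = 2 by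
    rw [← N.index_eq_card]
    have := N.index_ne_zero_of_finite
    omega) with h1 | h2
  · haveI := (Nat.card_eq_one_iff_unique.mp h1).1
    exact Group.isSolvable_of_comm fun a b => Subsingleton.elim _ _
  · haveI := Fact.mk Nat.prime_two
    haveI := isCyclic_of_prime_card h2
    letI := IsCyclic.commGroup (α := G ⧸ N)
    exact Group.isSolvable_of_comm mul_comm

/-- fixed-point-free groups with at most eight elements of order three are solvable -/
theorem isSolvable_of_three_le : ∀ (n : ℕ) {G : Type*} [Group G] [Finite G], Nat.card G = n → FC G →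
    (threeSet G).ncard ≤ 8 → Group.IsSolvable G := by
  intro n
  induction n using Nat.strong_induction_on with
  | _ n ih =>
  intro G _ _ hn hFC h8
  subst hn
  classical
  have proper : ∀ H : Subgroup G, H ≠ ⊤ → Group.IsSolvable H := fun H hH =>
    ih (Nat.card H) (lt_of_le_of_ne (Nat.le_of_dvd Nat.card_pos H.card_subgroup_dvd_card)
      (fun e => hH (H.eq_top_of_card_eq e))) rfl (hFC.subgroup H) ((threeSet_ncard_le H).trans h8)
  by_contra hns
  haveI := Fact.mk Nat.prime_three
  haveI := Fact.mk Nat.prime_two
  -- `G` is perfect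
  have hperf : commutator G = ⊤ := by
    by_contra hne
    exact hns (isSolvable_of_normal (proper _ hne) (Group.isSolvable_of_comm
      fun a b : Abelianization G => mul_comm a b))
  -- subgroups of order three are normal
  have hnormal : ∀ C : Subgroup G, Nat.card C = 3 → C.Normal := by
    let S := threeSubgroups G
    have hS : Nat.card S ≤ 4 := by
      have := ncard_threeSubgroups (G := G)
      rw [Nat.card_coe_set_eq]
      show (threeSubgroups G).ncard ≤ 4
      omega
    have hmem : ∀ (g : G) (C : Subgroup G), C ∈ S → MulAut.conj g • C ∈ S := fun g C hC =>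
      ((Nat.card_congr (equivSMul (MulAut.conj g) C).toEquiv).symm.trans hC :)
    let act : G →* Equiv.Perm S := MonoidHom.mk'
      (fun g =>
        { toFun := fun C => ⟨MulAut.conj g • C.1, hmem g _ C.2⟩
          invFun := fun C => ⟨MulAut.conj g⁻¹ • C.1, hmem g⁻¹ _ C.2⟩
          left_inv := fun C => Subtype.ext (by
            show MulAut.conj g⁻¹ • MulAut.conj g • C.1 = C.1
            rw [smul_smul, ← map_mul, inv_mul_cancel, map_one, one_smul])
          right_inv := fun C => Subtype.ext (by
            show MulAut.conj g • MulAut.conj g⁻¹ • C.1 = C.1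
            rw [smul_smul, ← map_mul, mul_inv_cancel, map_one, one_smul]) })
      (fun g h => Equiv.ext fun C => Subtype.ext (by
        show MulAut.conj (g * h) • C.1 = MulAut.conj g • MulAut.conj h • C.1
        rw [smul_smul, map_mul]))
    by_cases hker : act.ker = ⊤
    · intro C hC
      refine ⟨fun c hc g => ?_⟩
      have h1 := congrArg Subtype.val (Equiv.ext_iff.mp
        (show act g = 1 from MonoidHom.mem_ker.mp (hker ▸ mem_top g)) ⟨C, hC⟩)
      change MulAut.conj g • C = C at h1
      rw [← h1, ← MulAut.conj_apply, ← MulAut.smul_def]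
      exact smul_mem_pointwise_smul _ _ _ hc
    · refine absurd (isSolvable_of_normal (proper _ hker) ?_) hns
      haveI := perm_isSolvable hS
      exact Group.isSolvable_of_isSolvable_injective (QuotientGroup.kerLift_injective act)
  -- no element of order three
  have h3 : ¬ 3 ∣ Nat.card G := by
    intro h3
    obtain ⟨x, hx⟩ := exists_prime_orderOf_dvd_card' (G := G) 3 h3
    have hx1 : x ≠ 1 := fun e => by rw [e, orderOf_one] at hx; omega
    have hx3 : x ^ 3 = 1 := hx ▸ pow_orderOf_eq_one x
    haveI hCn := hnormal (zpowers x) (by rw [Nat.card_zpowers, hx])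
    haveI : IsCyclic (zpowers x) := inferInstance
    let f : G →* MulAut (zpowers x) := MulAut.conjNormal
    have hcard : Nat.card (MulAut (zpowers x)) = 2 := by
      rw [IsCyclic.card_mulAut, Nat.card_zpowers, hx, Nat.totient_prime Nat.prime_three]
    have hf : f.ker = ⊤ := by
      by_contra hne
      refine hns (isSolvable_of_normal (proper _ hne) (quotient_solvable_of_index_le_two _ ?_))
      rw [Subgroup.index_ker]
      exact hcard ▸ Subgroup.card_le_card_group _
    have hcent : x ∈ Subgroup.center G := mem_center_iff.mpr fun g => by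
      have h1 := congrArg Subtype.val (DFunLike.congr_fun (MonoidHom.mem_ker.mp (hf ▸ mem_top g))
        (⟨x, mem_zpowers x⟩ : zpowers x))
      simp only [f, MulAut.conjNormal_apply, MulAut.one_apply] at h1
      exact mul_inv_eq_iff_eq_mul.mp h1
    obtain ⟨P, hP⟩ := (IsPGroup.of_card (n := 1) (p := 3)
      (show Nat.card (zpowers x) = 3 ^ 1 by rw [Nat.card_zpowers, hx, pow_one])).exists_le_sylow
    have hxP : x ∈ (P : Subgroup G) := hP (mem_zpowers x)
    haveI : IsCyclic P := hFC.isCyclic_sylow (by norm_num) P
    letI : CommGroup P := IsCyclic.commGroup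
    have e := MonoidHom.transfer_eq_pow (H := (P : Subgroup G)) (MonoidHom.id P) x fun k g₀ _ => by
      rw [mem_center_iff.mp (pow_mem hcent k) g₀⁻¹, inv_mul_cancel_right]
    have htop : (MonoidHom.transfer (MonoidHom.id P)).ker = ⊤ :=
      top_le_iff.mp (hperf ▸ Abelianization.commutator_subset_ker _)
    rw [MonoidHom.mem_ker.mp (htop ▸ mem_top x)] at e
    have h1 : x ^ (P : Subgroup G).index = 1 := (congrArg Subtype.val e).symm
    have h3' := orderOf_dvd_of_pow_eq_one h1
    rw [hx] at h3'
    exact P.not_dvd_index h3'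
  -- normal 2-complement
  obtain ⟨P, N, hN, hc⟩ := Transfer.hasNormalPComplement_of_frobenius (G := G) (p := 2) fun D hD g hg hg2 => by
    let φ : MulAut D := D.normalizerMonoidHom ⟨g, hg⟩
    have hφ : φ = 1 := mulAut_eq_one hD ((hFC.subgroup D).two_group hD) φ (by
      have hd : orderOf φ ∣ orderOf g := by
        refine (orderOf_map_dvd D.normalizerMonoidHom _).trans ?_
        rw [Subgroup.orderOf_mk]
      refine Nat.Coprime.coprime_dvd_left hd ?_
      have : (orderOf g).Coprime 3 := ((Nat.Prime.coprime_iff_not_dvd Nat.prime_three).mpr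
        fun h => h3 (h.trans (orderOf_dvd_natCard g))).symm
      exact Nat.Coprime.mul_right hg2 this)
    refine mem_centralizer_iff.mpr fun d hd => ?_
    have h1 := congrArg Subtype.val (DFunLike.congr_fun hφ ⟨d, hd⟩)
    change g * d * g⁻¹ = d at h1
    exact (mul_inv_eq_iff_eq_mul.mp h1).symm
  haveI := hN
  have hodd : ∀ {p : ℕ} [Fact p.Prime] (Q : Sylow p N), IsCyclic Q := by
    intro p hp Q
    rcases eq_or_ne p 2 with rfl | hp2
    · have hbot : (Q : Subgroup N) = ⊥ := by
        obtain ⟨k, hk⟩ := Q.2.exists_card_eq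
        refine eq_bot_of_card_eq _ ?_
        rcases Nat.eq_zero_or_pos k with rfl | hk0
        · rw [hk, pow_zero]
        · exfalso
          have h2N : 2 ∣ Nat.card N := by
            refine dvd_trans ?_ (card_subgroup_dvd_card (Q : Subgroup N))
            rw [hk]; exact dvd_pow_self 2 hk0.ne'
          rw [← Subgroup.IsComplement'.index_eq_card hc] at h2N
          exact P.not_dvd_index h2N
      exact ((MulEquiv.subgroupCongr hbot).isCyclic).mpr inferInstance
    · exact (hFC.subgroup N).isCyclic_sylow hp2 Q
  haveI : IsZGroup N := ⟨fun p hp Q => haveI := Fact.mk hp; hodd Q⟩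
  have hQ : Group.IsSolvable (G ⧸ N) := by
    haveI : Group.IsNilpotent (G ⧸ N) := (IsPGroup.of_surjective (G := P) P.2
      ((QuotientGroup.mk' N).comp (P : Subgroup G).subtype) (by
        intro z
        obtain ⟨g, rfl⟩ := QuotientGroup.mk'_surjective N z
        obtain ⟨⟨u, v⟩, rfl⟩ := hc.2 g
        exact ⟨v, by simp [(QuotientGroup.eq_one_iff _).mpr u.2]⟩)).isNilpotent
    infer_instance
  exact hns (isSolvable_of_normal inferInstance hQ)

theorem FC.exists_embed (h : FC G) (hns : ¬ Group.IsSolvable G) :
    ∃ θ : SL25 →* G, Function.Injective θ ∧ ∀ y : G, y ^ 3 = 1 → y ∈ θ.range :=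
  h.three_or_embed.resolve_left fun h8 => hns (isSolvable_of_three_le _ rfl h h8)

end Cfsg.Agent.Zassenhaus
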