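import Cfsg.Agent.Lib.Zassenhaus.Nonsolvable

/-!
Structure of nonsolvable fixed-point-free groups.
-/

set_option autoImplicit false

namespace Cfsg.Agent.Zassenhaus

open Subgroup
open scoped Pointwise commutatorElement

theorem card_SL25 : Nat.card SL25 = 120 := by
  rw [← Nat.card_eq_of_bijective _ matOf_bijective, Nat.card_eq_fintype_card, Fintype.card_fin]

theorem exists_order_four : ∃ M : SL25, M ^ 4 = 1 ∧ M ^ 2 ≠ 1 := by
  obtain ⟨n, h1, h2⟩ : ∃ n : Fin 120, ePow (entries n) 4 = (1, 0, 0, 1) ∧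
      ePow (entries n) 2 ≠ (1, 0, 0, 1) := by decide +kernel
  exact ⟨matOf n, by rwa [eq_one_iff_ent, ent_pow, ent_matOf],
    by rwa [ne_eq, eq_one_iff_ent, ent_pow, ent_matOf]⟩

theorem exists_order_five : ∃ M : SL25, M ≠ 1 ∧ M ^ 5 = 1 := by
  obtain ⟨n, h1, h2⟩ : ∃ n : Fin 120, entries n ≠ (1, 0, 0, 1) ∧
      ePow (entries n) 5 = (1, 0, 0, 1) := by decide +kernel
  exact ⟨matOf n, by rwa [ne_eq, eq_one_iff_ent, ent_matOf],
    by rwa [eq_one_iff_ent, ent_pow, ent_matOf]⟩

variable {G : Type*} [Group G] [Finite G]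

/-- two commuting elements of odd prime order generate the same subgroup -/
theorem FC.zpowers_eq (h : FC G) {p : ℕ} [hp : Fact p.Prime] (hp2 : p ≠ 2) {a b : G}
    (ha : orderOf a = p) (hb : orderOf b = p) (hab : Commute a b) : zpowers a = zpowers b := by
  have hS : IsPGroup p (closure {a, b} : Subgroup G) := by
    haveI : IsMulCommutative (closure {a, b} : Subgroup G) := isMulCommutative_closure (by
      rintro x (rfl | rfl) y (rfl | rfl)
      exacts [rfl, hab.eq, hab.eq.symm, rfl])
    intro u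
    refine ⟨1, ?_⟩
    rw [pow_one]
    have key : ∀ v : G, v ∈ closure ({a, b} : Set G) → v ^ p = 1 := by
      intro v hv
      induction hv using closure_induction with
      | mem x hx =>
        rcases hx with rfl | rfl
        · exact ha ▸ pow_orderOf_eq_one x
        · exact hb ▸ pow_orderOf_eq_one x
      | one => exact one_pow _
      | mul x y hx hy ex ey =>
        have hc : Commute x y := congrArg Subtype.val
          (mul_comm' (⟨x, hx⟩ : (closure ({a, b} : Set G) : Subgroup G)) ⟨y, hy⟩)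
        rw [hc.mul_pow, ex, ey, mul_one]
      | inv x hx ex => rw [inv_pow, ex, inv_one]
    exact Subtype.ext (key u u.2)
  obtain ⟨P, hP⟩ := hS.exists_le_sylow
  haveI := h.isCyclic_sylow hp2 P
  have haP : zpowers a ≤ (P : Subgroup G) := zpowers_le.mpr (hP (subset_closure (Set.mem_insert _ _)))
  have hbP : zpowers b ≤ (P : Subgroup G) :=
    zpowers_le.mpr (hP (subset_closure (Set.mem_insert_of_mem _ rfl)))
  have e := Basics.cyclic_subgroup_eq_of_card_eq (S := (P : Subgroup G))
    (A := (zpowers a).subgroupOf P) (B := (zpowers b).subgroupOf P) (by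
      rw [Nat.card_congr (subgroupOfEquivOfLe haP).toEquiv,
        Nat.card_congr (subgroupOfEquivOfLe hbP).toEquiv, Nat.card_zpowers, Nat.card_zpowers, ha, hb])
  have e' := subgroupOf_inj.mp e
  rwa [inf_of_le_left haP, inf_of_le_left hbP] at e'

/-- structure of nonsolvable fixed-point-free groups -/
theorem FC.structure_of_nonsolvable (h : FC G) (hns : ¬ Group.IsSolvable G) :
    ∃ (θ : SL25 →* G) (M : Subgroup G), Function.Injective θ ∧ θ.range.Normal ∧ M.Normal ∧
      (θ.range ⊔ M).index ≤ 2 ∧ θ.range ⊓ M = ⊥ ∧ (∀ s ∈ θ.range, ∀ x ∈ M, s * x = x * s) ∧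
      IsZGroup M ∧ (Nat.card M).Coprime 30 := by
  classical
  obtain ⟨θ, hθ, hT⟩ := h.exists_embed hns
  have hgen : θ.range = closure {θ genA, θ genB} := by
    rw [MonoidHom.range_eq_map, ← closure_gen, MonoidHom.map_closure, Set.image_pair]
  obtain ⟨⟨-, ha3⟩, ⟨-, hb3⟩, -, -⟩ := isPair_gen
  have hconj : ∀ (g : G) (u : SL25), u ^ 3 = 1 → g * θ u * g⁻¹ ∈ θ.range := fun g u hu =>
    hT _ (by rw [conj_pow, ← map_pow, hu, map_one, mul_one, mul_inv_cancel])
  set N := θ.range with hN
  haveI hNn : N.Normal := ⟨fun x hx g => by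
    have hle : N.map (MulAut.conj g).toMonoidHom ≤ N := by
      nth_rewrite 1 [hgen]
      rw [MonoidHom.map_closure, closure_le]
      rintro _ ⟨y, (rfl | rfl), rfl⟩
      exacts [hconj g _ ha3, hconj g _ hb3]
    exact hle ⟨x, hx, rfl⟩⟩
  set C := centralizer (N : Set G) with hC
  haveI : C.Normal := inferInstance
  -- the index of the centralizer
  have hCidx : C.index ≤ 120 := by
    have ex : ∀ g : G, ∃ p : SL25 × SL25, IsPair p ∧
        θ p.1 = g * θ genA * g⁻¹ ∧ θ p.2 = g * θ genB * g⁻¹ := by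
      intro g
      obtain ⟨u, hu⟩ := hconj g _ ha3
      obtain ⟨v, hv⟩ := hconj g _ hb3
      refine ⟨(u, v), ?_, hu, hv⟩
      obtain ⟨⟨a1, a3⟩, ⟨b1, b3⟩, ab1, ab10⟩ := isPair_gen
      have h1 : ∀ w : SL25, w ≠ 1 → g * θ w * g⁻¹ ≠ 1 := fun w hw e =>
        hw (hθ ((conj_eq_one_iff.mp e).trans (map_one θ).symm))
      have huv : θ (u * v) = g * θ (genA * genB) * g⁻¹ := by
        rw [map_mul, hu, hv, map_mul]; group
      refine ⟨⟨fun e => h1 _ a1 (hu.symm.trans ((congrArg θ e).trans (map_one θ))), hθ ?_⟩,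
        ⟨fun e => h1 _ b1 (hv.symm.trans ((congrArg θ e).trans (map_one θ))), hθ ?_⟩,
        fun e => h1 _ ab1 (huv.symm.trans ((congrArg θ e).trans (map_one θ))), hθ ?_⟩
      · rw [map_pow, hu, conj_pow, ← map_pow, a3, map_one, mul_one, mul_inv_cancel]
      · rw [map_pow, hv, conj_pow, ← map_pow, b3, map_one, mul_one, mul_inv_cancel]
      · rw [map_pow, huv, conj_pow, ← map_pow, ab10, map_one, mul_one, mul_inv_cancel]
    choose Φ hΦ1 hΦa hΦb using ex
    rw [index_eq_card]
    refine (Nat.card_le_card_of_injective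
      (fun q : G ⧸ C => (⟨Φ q.out, hΦ1 _⟩ : {p : SL25 × SL25 | IsPair p})) ?_).trans
      ((Nat.card_coe_set_eq _).le.trans card_pairs)
    intro q q' e
    have e' : Φ q.out = Φ q'.out := congrArg Subtype.val e
    refine (QuotientGroup.out_eq' q).symm.trans ((QuotientGroup.eq.mpr ?_).trans (QuotientGroup.out_eq' q'))
    have key : centralizer {θ genA, θ genB} ≤ C := by
      rw [hC, le_centralizer_iff]
      exact hgen.le.trans ((closure_le _).mpr fun y hy =>
        mem_centralizer_iff.mpr fun u hu => (mem_centralizer_iff.mp hu y hy).symm)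
    refine key (mem_centralizer_iff.mpr ?_)
    rintro y (rfl | rfl)
    · have := (hΦa q.out).symm.trans ((congrArg (fun p => θ p.1) e').trans (hΦa q'.out))
      calc θ genA * (q.out⁻¹ * q'.out) = q.out⁻¹ * (q.out * θ genA * q.out⁻¹) * q'.out := by group
        _ = _ := by rw [this]; group
    · have := (hΦb q.out).symm.trans ((congrArg (fun p => θ p.2) e').trans (hΦb q'.out))
      calc θ genB * (q.out⁻¹ * q'.out) = q.out⁻¹ * (q.out * θ genB * q.out⁻¹) * q'.out := by group
        _ = _ := by rw [this]; group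
  have hNC : Nat.card ↥(N ⊓ C) ≤ 2 := by
    refine le_trans ?_ card_centre
    have hle : N ⊓ C ≤ (center SL25).map θ := by
      rintro _ ⟨⟨u, rfl⟩, hu⟩
      refine ⟨u, mem_center_iff.mpr fun w => hθ ?_, rfl⟩
      rw [map_mul, map_mul]
      exact mem_centralizer_iff.mp hu (θ w) ⟨w, rfl⟩
    exact (Nat.le_of_dvd Nat.card_pos (card_dvd_of_le hle)).trans
      (Subgroup.card_map_of_injective hθ).le
  have hcardN : Nat.card N = 120 := by
    rw [hN, ← card_SL25]; exact (Nat.card_congr (MonoidHom.ofInjective hθ).toEquiv).symm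
  have hidx : (N ⊔ C).index ≤ 2 := by
    have h1 : C.relIndex (N ⊔ C) * (N ⊔ C).index = C.index := relIndex_mul_index le_sup_right
    have h2 : C.relIndex (N ⊔ C) = (N ⊓ C).relIndex N := by
      rw [inf_relIndex_left]
      exact relIndex_sup_right N C
    have h3 : (N ⊓ C).relIndex N * Nat.card ↥(N ⊓ C) = 120 := by
      rw [← hcardN, mul_comm, ← relIndex_bot_left, ← relIndex_bot_left N, relIndex_mul_relIndex _ _ _ bot_le inf_le_left]
    have h4 : 60 ≤ C.relIndex (N ⊔ C) := by
      rw [h2]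
      nlinarith [hNC, Nat.card_pos (α := ↥(N ⊓ C))]
    nlinarith
  -- the involution
  obtain ⟨i0, hi4, hi2⟩ := exists_order_four
  set i := θ i0 with hidef
  set z := i * i with hz
  have hz1 : z ≠ 1 := fun e => hi2 (hθ (by rw [pow_two, map_mul, map_one, ← hidef]; exact e))
  have hz2 : z ^ 2 = 1 := by
    rw [hz, ← pow_two, ← pow_mul, hidef, ← map_pow, hi4, map_one]
  have hiN : i ∈ N := ⟨i0, rfl⟩
  have hsmall : ∀ x ∈ N ⊓ C, x ^ 2 = 1 := by
    intro x hx
    rw [← orderOf_dvd_iff_pow_eq_one, ← Subgroup.orderOf_mk x hx]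
    refine (_root_.orderOf_dvd_natCard _).trans ?_
    rcases (show Nat.card ↥(N ⊓ C) = 1 ∨ Nat.card ↥(N ⊓ C) = 2 by
      have := Nat.card_pos (α := ↥(N ⊓ C)); omega) with e | e <;> rw [e]
    norm_num
  have htwo : ∀ x ∈ C, ∀ j : ℕ, x ^ 2 ^ j = 1 → x = 1 ∨ x = z := by
    intro x hx j
    induction j generalizing x with
    | zero => intro e; exact Or.inl (by simpa using e)
    | succ j ih =>
      intro e
      rw [pow_succ', pow_mul] at e
      rcases ih (x ^ 2) (pow_mem hx 2) e with e2 | e2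
      · by_cases hx1 : x = 1
        · exact Or.inl hx1
        · exact Or.inr (h.invol_unique hx1 e2 hz1 hz2)
      · exfalso
        have hxi : Commute i x := mem_centralizer_iff.mp hx i hiN
        have hsq : (i * x⁻¹) ^ 2 = 1 := by
          rw [hxi.inv_right.mul_pow, inv_pow, e2, pow_two, ← hz, mul_inv_cancel]
        have hiC : i ∈ C := by
          by_cases h1 : i * x⁻¹ = 1
          · rw [mul_inv_eq_one.mp h1]; exact hx
          · have := h.invol_unique h1 hsq hz1 hz2
            rw [mul_inv_eq_iff_eq_mul.mp this]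
            refine mul_mem ?_ hx
            rw [← e2]; exact pow_mem hx 2
        exact hz1 (by rw [hz, ← pow_two]; exact hsmall i (mem_inf.mpr ⟨hiN, hiC⟩))
  haveI := Fact.mk Nat.prime_two
  have hP : ∀ P : Sylow 2 C, ∀ u : C, u ∈ (P : Subgroup C) → (u : G) = 1 ∨ (u : G) = z := fun P u hu => by
    obtain ⟨j, hj⟩ := P.2 ⟨u, hu⟩
    exact htwo u u.2 j (congrArg (fun w : (P : Subgroup C) => ((w : C) : G)) hj)
  have hzc : ∀ g : G, Commute z g := h.invol_commute hz2
  haveI hCZ : IsZGroup C := ⟨fun p hp P => by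
    haveI := Fact.mk hp
    by_cases hp2 : p = 2
    · subst hp2
      have hcard : Nat.card (P : Subgroup C) ≤ 2 := by
        refine (Nat.card_le_card_of_injective
          (fun u : (P : Subgroup C) => (⟨((u : C) : G), hP P u u.2⟩ : ({1, z} : Set G)))
          (fun u v e => Subtype.ext (Subtype.ext (congrArg Subtype.val e :)))).trans ?_
        exact (Nat.card_coe_set_eq _).le.trans ((Set.ncard_insert_le _ _).trans (by simp))
      refine isCyclic_of_card_dvd_prime (p := 2) ?_
      have := Nat.card_pos (α := (P : Subgroup C))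
      rcases (show Nat.card (P : Subgroup C) = 1 ∨ Nat.card (P : Subgroup C) = 2 by omega) with e | e <;>
        rw [e]
      norm_num
    · exact (h.subgroup C).isCyclic_sylow hp2 P⟩
  -- the odd part
  obtain ⟨P⟩ := (inferInstance : Nonempty (Sylow 2 C))
  have hPc : normalizer ((P : Subgroup C) : Set C) ≤ centralizer ((P : Subgroup C) : Set C) := by
    intro g _
    refine mem_centralizer_iff.mpr fun u hu => ?_
    rcases hP P u hu with e | e
    · rw [show u = 1 from Subtype.ext e, one_mul, mul_one]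
    · exact Subtype.ext (show (u : G) * g = g * u by rw [e]; exact (hzc g).eq)
  set f := MonoidHom.transferSylow P hPc with hf
  have hcompl := MonoidHom.ker_transferSylow_isComplement' P hPc
  have hPodd : ∀ u : C, Odd (orderOf u) → f u = 1 := by
    intro u hu
    obtain ⟨j, hj⟩ := P.2 (f u)
    rw [← orderOf_eq_one_iff]
    exact Nat.eq_one_of_dvd_coprimes ((Nat.coprime_two_left.mpr hu).pow_left j)
      (orderOf_dvd_of_pow_eq_one hj) (orderOf_map_dvd f u)
  have hKodd : ∀ u : C, u ∈ f.ker → Odd (orderOf u) := by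
    intro u hu
    rw [← Nat.not_even_iff_odd, even_iff_two_dvd]
    intro hd
    have := hd.trans (Subgroup.orderOf_dvd_natCard _ hu)
    rw [← hcompl.index_eq_card] at this
    exact P.not_dvd_index this
  set M := f.ker.map C.subtype with hM
  have hMC : M ≤ C := by rintro _ ⟨u, -, rfl⟩; exact u.2
  haveI hMn : M.Normal := ⟨by
    rintro _ ⟨u, hu, rfl⟩ g
    have hm : g * (u : G) * g⁻¹ ∈ C := Normal.conj_mem inferInstance _ u.2 g
    refine ⟨⟨_, hm⟩, MonoidHom.mem_ker.mpr (hPodd _ ?_), rfl⟩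
    rw [Subgroup.orderOf_mk, ← MulAut.conj_apply, MulEquiv.orderOf_eq, Subgroup.orderOf_coe]
    exact hKodd u hu⟩
  have hMe : f.ker ≃* M := equivMapOfInjective _ _ C.subtype_injective
  have hModd : ∀ x ∈ M, Odd (orderOf x) := by
    rintro _ ⟨u, hu, rfl⟩
    rw [Subgroup.coe_subtype, Subgroup.orderOf_coe]
    exact hKodd u hu
  have hCle : C ≤ N ⊔ M := by
    intro x hx
    obtain ⟨⟨u, v⟩, huv⟩ := hcompl.2 ⟨x, hx⟩
    have e : x = ((u : C) : G) * ((v : C) : G) := (congrArg Subtype.val huv).symm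
    rw [e]
    refine mul_mem (mem_sup_right ⟨u, u.2, rfl⟩) (mem_sup_left ?_)
    rcases hP P v v.2 with e | e <;> rw [e]
    exacts [one_mem _, mul_mem hiN hiN]
  haveI : IsZGroup f.ker := IsZGroup.of_injective (f := f.ker.subtype) f.ker.subtype_injective
  refine ⟨θ, M, hθ, hNn, hMn, ?_, ?_, fun s hs x hx => mem_centralizer_iff.mp (hMC hx) s hs,
    IsZGroup.of_injective (f := hMe.symm.toMonoidHom) hMe.symm.injective, ?_⟩
  · have e : N ⊔ M = N ⊔ C := le_antisymm (sup_le_sup_left hMC _) (sup_le le_sup_left hCle)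
    rw [← hN, e]; exact hidx
  · rw [eq_bot_iff]
    rintro x ⟨hx1, hx2⟩
    rw [mem_bot, ← orderOf_eq_one_iff]
    exact Nat.eq_one_of_dvd_coprimes (Nat.coprime_two_left.mpr (hModd x hx2))
      (orderOf_dvd_of_pow_eq_one (hsmall x (mem_inf.mpr ⟨hx1, hMC hx2⟩))) dvd_rfl
  · refine Nat.coprime_of_dvd fun p hp hpM hp30 => ?_
    haveI := Fact.mk hp
    obtain ⟨⟨x, hxM⟩, hx⟩ := exists_prime_orderOf_dvd_card' (G := M) p hpM
    rw [Subgroup.orderOf_mk] at hx
    have hxodd := hModd x hxM
    rw [hx] at hxodd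
    have hp5 : p = 3 ∨ p = 5 := by
      have hmem : p ∈ (30 : ℕ).primeFactors := Nat.mem_primeFactors.mpr ⟨hp, hp30, by norm_num⟩
      rw [show (30 : ℕ).primeFactors = {2, 3, 5} by decide +kernel] at hmem
      simp only [Finset.mem_insert, Finset.mem_singleton] at hmem
      rcases hmem with rfl | rfl | rfl
      · exact absurd hxodd (by decide)
      · exact Or.inl rfl
      · exact Or.inr rfl
    have hx1 : x ≠ 1 := fun e => hp.one_lt.ne (by rw [← hx, e, orderOf_one])
    have hxN : x ∈ N := by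
      rcases hp5 with rfl | rfl
      · exact hT x (hx ▸ pow_orderOf_eq_one x)
      · obtain ⟨w, hw1, hw5⟩ := exists_order_five
        have hwo : orderOf (θ w) = 5 := by
          rw [orderOf_injective θ hθ]; exact orderOf_eq_prime hw5 hw1
        have := h.zpowers_eq (p := 5) (by norm_num) hwo hx
          (mem_centralizer_iff.mp (hMC hxM) _ ⟨w, rfl⟩)
        have hxw : x ∈ zpowers (θ w) := this ▸ mem_zpowers x
        exact zpowers_le.mpr (show θ w ∈ N from ⟨w, rfl⟩) hxw
    have := orderOf_dvd_of_pow_eq_one (hsmall x (mem_inf.mpr ⟨hxN, hMC hxM⟩))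
    rw [hx] at this
    have := Nat.le_of_dvd (by norm_num) this
    omega

end Cfsg.Agent.Zassenhaus
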