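import Mathlib

/-!
Automorphisms of order prime to six of cyclic or quaternion 2-groups are trivial.
-/

set_option autoImplicit false

namespace Cfsg.Agent.Zassenhaus

open QuaternionGroup

variable {D : Type*} [Group D] [Finite D]

/-- an automorphism of odd order of a 2-group which stabilises a cyclic subgroup of index at most two -/
theorem eq_one_of_stable (hD : IsPGroup 2 D) {C : Subgroup D} [IsCyclic C]
    (hC : ∀ x y : D, x ∉ C → y ∉ C → x⁻¹ * y ∈ C) (φ : MulAut D) (hφ : Odd (orderOf φ))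
    (hCφ : C.map (φ : D →* D) = C) : φ = 1 := by
  have hmem : ∀ x, φ x ∈ C ↔ x ∈ C := fun x => by
    conv_lhs => rw [← hCφ]
    exact Subgroup.mem_map_iff_mem φ.injective
  let ψ : MulAut C :=
    { toFun := fun c => ⟨φ c, (hmem c).mpr c.2⟩
      invFun := fun c => ⟨φ.symm c, (hmem _).mp (by rw [φ.apply_symm_apply]; exact c.2)⟩
      left_inv := fun c => Subtype.ext (φ.symm_apply_apply _)
      right_inv := fun c => Subtype.ext (φ.apply_symm_apply _)
      map_mul' := fun a b => Subtype.ext (map_mul φ _ _) }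
  have hpow : ∀ (m : ℕ) (c : C), ((ψ ^ m) c : D) = (φ ^ m) c := by
    intro m
    induction m with
    | zero => intro c; rfl
    | succ m ih => intro c; rw [pow_succ, pow_succ, MulAut.mul_apply, MulAut.mul_apply]; exact ih _
  have hψdvd : orderOf ψ ∣ orderOf φ := orderOf_dvd_of_pow_eq_one
    (MulEquiv.ext fun c => Subtype.ext (by rw [hpow, pow_orderOf_eq_one]; rfl))
  obtain ⟨k, hk⟩ := (hD.to_subgroup C).exists_card_eq
  have hψ2 : orderOf ψ ∣ 2 ^ k := by
    refine (orderOf_dvd_natCard ψ).trans ?_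
    rw [IsCyclic.card_mulAut, hk]
    rcases Nat.eq_zero_or_pos k with rfl | hk0
    · simp
    · rw [Nat.totient_prime_pow Nat.prime_two hk0]
      simpa using pow_dvd_pow 2 (Nat.sub_le k 1)
  have hψ1 : ψ = 1 := orderOf_eq_one_iff.mp (Nat.eq_one_of_dvd_coprimes
    ((Nat.coprime_two_left.mpr hφ).pow_left k) hψ2 hψdvd)
  have fixC : ∀ c ∈ C, φ c = c := fun c hc =>
    congrArg Subtype.val (DFunLike.congr_fun hψ1 ⟨c, hc⟩)
  refine MulEquiv.ext fun x => ?_
  by_cases hx : x ∈ C
  · exact fixC x hx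
  have hd : x⁻¹ * φ x ∈ C := hC x _ hx (fun h => hx ((hmem x).mp h))
  set c := x⁻¹ * φ x with hc
  have step : ∀ m : ℕ, (φ ^ m) x = x * c ^ m := by
    intro m
    induction m with
    | zero => simp
    | succ m ih =>
      rw [pow_succ', MulAut.mul_apply, ih, map_mul, map_pow, fixC c hd, pow_succ', ← mul_assoc, hc,
        mul_inv_cancel_left]
  have h1 := step (orderOf φ)
  rw [pow_orderOf_eq_one, MulAut.one_apply, left_eq_mul] at h1
  obtain ⟨j, hj⟩ := hD c
  have : orderOf c = 1 := Nat.eq_one_of_dvd_coprimes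
    ((Nat.coprime_two_left.mpr hφ).pow_left j) (orderOf_dvd_of_pow_eq_one hj)
    (orderOf_dvd_of_pow_eq_one h1)
  rw [orderOf_eq_one_iff, hc, inv_mul_eq_one] at this
  exact this.symm

/-- automorphisms of order prime to six -/
theorem mulAut_eq_one (hD : IsPGroup 2 D)
    (hc : IsCyclic D ∨ ∃ n : ℕ, Nonempty (D ≃* QuaternionGroup (2 ^ n))) (φ : MulAut D)
    (hφ : (orderOf φ).Coprime 6) : φ = 1 := by
  have hodd : Odd (orderOf φ) := Nat.coprime_two_left.mp (Nat.Coprime.coprime_dvd_right (by norm_num) hφ).symm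
  rcases hc with hc | ⟨n, ⟨e⟩⟩
  · haveI : IsCyclic (⊤ : Subgroup D) := Subgroup.topEquiv.isCyclic.mpr hc
    exact eq_one_of_stable hD (C := ⊤) (fun x y hx _ => absurd (Subgroup.mem_top x) hx) φ hodd
      (Subgroup.map_top_of_surjective _ φ.surjective)
  classical
  -- the subgroups of index two
  set a₁ := e.symm (a 1) with ha₁
  set x₀ := e.symm (xa 0) with hx₀
  have gen : Subgroup.closure ({a₁, x₀} : Set D) = ⊤ := by
    refine eq_top_iff.mpr fun z _ => ?_
    have hz : ∀ i, e.symm (a i) ∈ Subgroup.closure ({a₁, x₀} : Set D) := fun i => by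
      haveI : NeZero (2 * 2 ^ n) := ⟨by positivity⟩
      rw [← ZMod.natCast_zmod_val i, ← a_one_pow, map_pow]
      exact pow_mem (Subgroup.subset_closure (Set.mem_insert _ _)) _
    rw [← e.symm_apply_apply z]
    cases e z with
    | a i => exact hz i
    | xa i =>
      rw [show (xa i : QuaternionGroup (2 ^ n)) = xa 0 * a i by rw [xa_mul_a, zero_add], map_mul]
      exact mul_mem (Subgroup.subset_closure (Set.mem_insert_of_mem _ rfl)) (hz i)
  let S := {H : Subgroup D // H.index = 2}
  let code : S → Bool × Bool := fun H => (decide (a₁ ∈ H.1), decide (x₀ ∈ H.1))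
  have code_inj : Function.Injective code := by
    rintro ⟨H, hH⟩ ⟨H', hH'⟩ h
    simp only [code, Prod.mk.injEq, decide_eq_decide] at h
    let E : Subgroup D :=
      { carrier := {z | z ∈ H ↔ z ∈ H'}
        one_mem' := by simp [one_mem]
        mul_mem' := fun {u v} (hu : u ∈ H ↔ u ∈ H') (hv : v ∈ H ↔ v ∈ H') => by
          show u * v ∈ H ↔ u * v ∈ H'
          rw [Subgroup.mul_mem_iff_of_index_two hH, Subgroup.mul_mem_iff_of_index_two hH', hu, hv]
        inv_mem' := fun {u} (hu : u ∈ H ↔ u ∈ H') => by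
          show u⁻¹ ∈ H ↔ u⁻¹ ∈ H'
          rw [inv_mem_iff, inv_mem_iff, hu] }
    have htop : (⊤ : Subgroup D) ≤ E := by
      rw [← gen, Subgroup.closure_le]
      rintro z (rfl | rfl)
      exacts [h.1, h.2]
    exact Subtype.ext (Subgroup.ext fun z => htop (Subgroup.mem_top z))
  have hidx : ∀ (ψ : MulAut D) (H : Subgroup D), (H.map (ψ : D →* D)).index = H.index := fun ψ H =>
    Subgroup.index_map_equiv H ψ
  have hcard : Nat.card S ≤ 4 := (Nat.card_le_card_of_injective code code_inj).trans (by simp)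
  let act : MulAut D →* Equiv.Perm S := MonoidHom.mk'
    (fun ψ =>
      { toFun := fun H => ⟨H.1.map (ψ : D →* D), (hidx ψ _).trans H.2⟩
        invFun := fun H => ⟨H.1.map (ψ.symm : D →* D), (hidx ψ.symm _).trans H.2⟩
        left_inv := fun H => Subtype.ext (by
          show (H.1.map _).map _ = H.1
          rw [Subgroup.map_map]
          convert Subgroup.map_id H.1
          ext x; simp)
        right_inv := fun H => Subtype.ext (by
          show (H.1.map _).map _ = H.1
          rw [Subgroup.map_map]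
          convert Subgroup.map_id H.1
          ext x; simp) })
    (fun u v => Equiv.ext fun H => Subtype.ext (by
      show H.1.map _ = (H.1.map _).map _
      rw [Subgroup.map_map]; rfl))
  have hdvd : orderOf (act φ) ∣ 24 := by
    refine (orderOf_dvd_natCard _).trans ?_
    rw [Nat.card_perm]
    exact (Nat.factorial_dvd_factorial hcard).trans (by decide)
  have hact : act φ = 1 := orderOf_eq_one_iff.mp (Nat.eq_one_of_dvd_coprimes
    (show Nat.Coprime 24 (orderOf φ) by
      exact (Nat.Coprime.coprime_dvd_left (by norm_num : 24 ∣ 6 ^ 3) (hφ.symm.pow_left 3)))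
    hdvd (orderOf_map_dvd act φ))
  let C : Subgroup D := Subgroup.zpowers a₁
  have hCx : ∀ z, z ∈ C ↔ ∃ i, e z = a i := fun z => by
    constructor
    · intro hz
      obtain ⟨m, rfl⟩ := Subgroup.mem_zpowers_iff.mp hz
      have : ∀ m : ℕ, e (a₁ ^ m) = a m := fun m => by
        rw [map_pow, ha₁, e.apply_symm_apply, a_one_pow]
      rcases Int.eq_nat_or_neg m with ⟨u, rfl | rfl⟩
      · exact ⟨u, by rw [zpow_natCast, this]⟩
      · exact ⟨-(u : ZMod _), by rw [zpow_neg, zpow_natCast, map_inv, this]; rfl⟩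
    · rintro ⟨i, hi⟩
      haveI : NeZero (2 * 2 ^ n) := ⟨by positivity⟩
      rw [← ZMod.natCast_zmod_val i, ← a_one_pow, ← e.eq_symm_apply, map_pow] at hi
      exact hi ▸ Subgroup.pow_mem _ (Subgroup.mem_zpowers _) _
  have hC2 : ∀ x y : D, x ∉ C → y ∉ C → x⁻¹ * y ∈ C := by
    intro x y hx hy
    rw [hCx] at hx hy ⊢
    rcases hex : e x with i | i
    · exact absurd ⟨i, hex⟩ hx
    rcases hey : e y with j | j
    · exact absurd ⟨j, hey⟩ hy
    exact ⟨_, by rw [map_mul, map_inv, hex, hey]; rfl⟩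
  have hCi : C.index = 2 := by
    rw [Subgroup.index_eq_two_iff]
    refine ⟨x₀, fun b => ?_⟩
    rw [hCx, hCx]
    rcases hb : e b with i | i
    · refine Or.inr ⟨⟨i, rfl⟩, fun ⟨j, hj⟩ => ?_⟩
      rw [map_mul, hb, hx₀, e.apply_symm_apply] at hj
      cases hj
    · refine Or.inl ⟨⟨_, by rw [map_mul, hb, hx₀, e.apply_symm_apply]; rfl⟩, fun ⟨j, hj⟩ => ?_⟩
      cases hj
  refine eq_one_of_stable hD hC2 φ hodd ?_
  exact congrArg Subtype.val (DFunLike.congr_fun hact ⟨C, hCi⟩)

end Cfsg.Agent.Zassenhaus
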