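import Cfsg.Agent.Lib.Zassenhaus.TwoDim

/-!
The pair lemma: two noncommuting elements of order three of a fixed-point-free group.
-/

set_option autoImplicit false
set_option maxHeartbeats 800000

namespace Cfsg.Agent.Zassenhaus

open Module

section Algebra

variable {G : Type*} [Group G] {A : Type*} [Ring A] [Nontrivial A] {k : Type*} [Field k] [Algebra k A]
  {ρ : G →* A}

theorem tau_options [Finite G] (hf : IsFpf ρ) {x y : G} (hw2 : (x * y) ^ 2 ≠ 1)
    (hw : (x * y) ^ 4 = 1 ∨ (x * y) ^ 6 = 1 ∨ (x * y) ^ 8 = 1 ∨ (x * y) ^ 10 = 1) :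
    tau ρ x y = 0 ∨ tau ρ x y = 1 ∨ tau ρ x y = -1 ∨ tau ρ x y * tau ρ x y = 2 ∨
    (tau ρ x y * tau ρ x y + tau ρ x y - 1 = 0 ∧ (5 : k) ≠ 0) ∨
    (tau ρ x y * tau ρ x y - tau ρ x y - 1 = 0 ∧ (5 : k) ≠ 0) := by
  set g := x * y with hg
  have hg1 : g ≠ 1 := fun e => hw2 (by rw [e, one_pow])
  have five : g ^ 10 = 1 → (5 : k) ≠ 0 := by
    intro h10
    have hd : orderOf g ∣ 10 := orderOf_dvd_of_pow_eq_one h10
    have h5 : 5 ∣ orderOf g := by
      have hd2 : ¬ orderOf g ∣ 2 := fun h => hw2 (orderOf_dvd_iff_pow_eq_one.mp h)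
      have hle : orderOf g ≤ 10 := Nat.le_of_dvd (by norm_num) hd
      have hpos := orderOf_pos g
      interval_cases horder : orderOf g <;> omega
    have h := hf.natCast_ne_zero (k := k) (h5.trans (orderOf_dvd_natCard g))
    rwa [Nat.cast_ofNat] at h
  have hwv : ρ g * ρ g⁻¹ = 1 := by rw [← map_mul, mul_inv_cancel, map_one]
  have hvw : ρ g⁻¹ * ρ g = 1 := by rw [← map_mul, inv_mul_cancel, map_one]
  have hunit : IsUnit (ρ g + 1) := by
    have h2 := hf (g ^ 2) hw2
    rw [map_pow] at h2
    have e1 : ρ g ^ 2 - 1 = (ρ g + 1) * (ρ g - 1) := by noncomm_ring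
    rw [e1] at h2
    exact (Commute.isUnit_mul_iff (by show _ = _; noncomm_ring)).mp h2 |>.1
  show ρ g + ρ g⁻¹ = 0 ∨ ρ g + ρ g⁻¹ = 1 ∨ ρ g + ρ g⁻¹ = -1 ∨ (ρ g + ρ g⁻¹) * (ρ g + ρ g⁻¹) = 2 ∨
    ((ρ g + ρ g⁻¹) * (ρ g + ρ g⁻¹) + (ρ g + ρ g⁻¹) - 1 = 0 ∧ _) ∨
    ((ρ g + ρ g⁻¹) * (ρ g + ρ g⁻¹) - (ρ g + ρ g⁻¹) - 1 = 0 ∧ _)
  have quad : ∀ m : ℕ, g ^ m ≠ 1 → (g ^ m) ^ 2 = 1 → ρ g ^ m = -1 := fun m h1 h2 => by
    rw [← map_pow]; exact hf.eq_neg_one h1 h2
  set W := ρ g
  set V := ρ g⁻¹
  by_cases h4 : g ^ 4 = 1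
  · left
    have hm : W * W = -1 := by rw [← pow_two]; exact quad 2 hw2 (by rw [← pow_mul]; exact h4)
    calc W + V = W + (-(W * W)) * V := by rw [hm, neg_neg, one_mul]
      _ = W - W * (W * V) := by noncomm_ring
      _ = 0 := by rw [hwv, mul_one, sub_self]
  rcases hw with h | h | h | h
  · exact absurd h h4
  · by_cases h3 : g ^ 3 = 1
    · right; right; left
      have hm : W * W = -W - 1 := hf.three hg1 h3
      calc W + V = W + V * 1 := by rw [mul_one]
        _ = W + V * (-(W * W) - W) := by rw [hm]; congr 2; abel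
        _ = W - V * W * W - V * W := by noncomm_ring
        _ = -1 := by rw [hvw]; noncomm_ring
    · right; left
      have hm : W ^ 3 = -1 := quad 3 h3 (by rw [← pow_mul]; exact h)
      have h0 : (W + 1) * (W * W - W + 1) = 0 := by
        calc (W + 1) * (W * W - W + 1) = W ^ 3 + 1 := by noncomm_ring
          _ = 0 := by rw [hm, neg_add_cancel]
      have hz := hunit.mul_right_eq_zero.mp h0
      calc W + V = (V * W) * W + V := by rw [hvw, one_mul]
        _ = V * (W * W - W + 1) + V * W := by noncomm_ring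
        _ = 1 := by rw [hz, hvw, mul_zero, zero_add]
  · right; right; right; left
    have hm : W ^ 4 = -1 := quad 4 h4 (by rw [← pow_mul]; exact h)
    have e1 : V * V * W ^ 4 = W * W := by
      calc V * V * W ^ 4 = V * (V * W) * (W * W * W) := by noncomm_ring
        _ = (V * W) * (W * W) := by
          rw [hvw, mul_one, show V * (W * W * W) = (V * W) * (W * W) by noncomm_ring, hvw]
        _ = W * W := by rw [hvw, one_mul]
    calc (W + V) * (W + V) = W * W + W * V + V * W + V * V := by noncomm_ring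
      _ = W * W + 1 + 1 + V * V := by rw [hwv, hvw]
      _ = V * V * W ^ 4 + V * V + 2 := by rw [e1, ← one_add_one_eq_two]; abel
      _ = 2 := by rw [hm, mul_neg, mul_one, neg_add_cancel, zero_add]
  · by_cases h5 : g ^ 5 = 1
    · right; right; right; right; left
      refine ⟨?_, five h⟩
      have hs := hf.geom_sum hg1 h5
      simp only [Finset.sum_range_succ, Finset.sum_range_zero, pow_zero, pow_one, zero_add] at hs
      calc (W + V) * (W + V) + (W + V) - 1
          = W * W + W * V + V * W + V * V + W + V - 1 := by noncomm_ring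
        _ = V * V + V + 1 + W + W * W := by rw [hwv, hvw]; noncomm_ring
        _ = V * V + V * (V * W) + V * (V * W) * W + V * (V * W) * (W * W) + V * (V * W) * (W * W * W) := by
            rw [hvw, mul_one]
            rw [show V * (W * W) = (V * W) * W by noncomm_ring, show V * (W * W * W) = (V * W) * (W * W) by noncomm_ring, hvw]
            noncomm_ring
        _ = V * V * (1 + W + W ^ 2 + W ^ 3 + W ^ 4) := by noncomm_ring
        _ = 0 := by rw [hs, mul_zero]
    · right; right; right; right; right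
      refine ⟨?_, five h⟩
      have hm : W ^ 5 = -1 := quad 5 h5 (by rw [← pow_mul]; exact h)
      have h0 : (W + 1) * (W ^ 4 - W ^ 3 + W ^ 2 - W + 1) = 0 := by
        calc (W + 1) * (W ^ 4 - W ^ 3 + W ^ 2 - W + 1) = W ^ 5 + 1 := by noncomm_ring
          _ = 0 := by rw [hm, neg_add_cancel]
      have hz := hunit.mul_right_eq_zero.mp h0
      calc (W + V) * (W + V) - (W + V) - 1
          = W * W + W * V + V * W + V * V - W - V - 1 := by noncomm_ring
        _ = V * V - V + 1 - W + W * W := by rw [hwv, hvw]; noncomm_ring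
        _ = V * V - V * (V * W) + V * (V * W) * W - V * (V * W) * (W * W) + V * (V * W) * (W * W * W) := by
            rw [hvw, mul_one]
            rw [show V * (W * W) = (V * W) * W by noncomm_ring, show V * (W * W * W) = (V * W) * (W * W) by noncomm_ring, hvw]
            noncomm_ring
        _ = V * V * (W ^ 4 - W ^ 3 + W ^ 2 - W + 1) := by noncomm_ring
        _ = 0 := by rw [hz, mul_zero]

end Algebra

end Cfsg.Agent.Zassenhaus

namespace Cfsg.Agent.Zassenhaus

open Module

section Linear

variable {G : Type*} [Group G] [Finite G] {k : Type*} [Field k] [IsAlgClosed k]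
  {V : Type*} [AddCommGroup V] [Module k V] [FiniteDimensional k V] {ρ : G →* Module.End k V}

theorem apply_eq_one_of_fixed (hf : IsFpf ρ) {g : G} {v : V} (hv : v ≠ 0) (h : ρ g v = v) : g = 1 :=
  eq_one_of_fixed (f := ρ) hf hv h

theorem pow_double_eq_one (hf : IsFpf ρ) {x y : G} (hx1 : x ≠ 1) (hy1 : y ≠ 1) (hx3 : x ^ 3 = 1)
    (hy3 : y ^ 3 = 1) (hne : ¬ Commute x y) {t : k} {v : V} (hv : v ≠ 0) {ω : k}
    (hxv : ρ x v = ω • v) (htv : tau ρ x y v = t • v) :
    2 ∣ Nat.card G ∧ ∃ a : ℕ, 1 ≤ a ∧ a ≤ 5 ∧ (x * y) ^ (2 * a) = 1 := by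
  have hx := hf.three hx1 hx3
  have hy := hf.three hy1 hy3
  set K := Subgroup.closure ({x, y} : Set G) with hK
  set U : Submodule k V := Submodule.span k {v, ρ y v} with hU
  have hmv : v ∈ U := Submodule.subset_span (Set.mem_insert _ _)
  have hmy : ρ y v ∈ U := Submodule.subset_span (Set.mem_insert_of_mem _ rfl)
  have hxy : ρ x (ρ y v) ∈ U := by
    have e : ρ x * ρ y = tau ρ x y - ρ y * ρ x - ρ x - ρ y - 1 := by
      rw [tau_eq ρ hx hy hx3 hy3]; abel
    rw [← Module.End.mul_apply, e]
    simp only [LinearMap.sub_apply, Module.End.mul_apply, Module.End.one_apply, hxv, htv, map_smul]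
    exact U.sub_mem (U.sub_mem (U.sub_mem (U.sub_mem (U.smul_mem _ hmv) (U.smul_mem _ hmy))
      (U.smul_mem _ hmv)) hmy) hmv
  have hyy : ρ y (ρ y v) ∈ U := by
    rw [← Module.End.mul_apply, hy]
    simp only [LinearMap.sub_apply, LinearMap.neg_apply, Module.End.one_apply]
    exact U.sub_mem (U.neg_mem hmy) hmv
  let S : Subgroup G :=
    { carrier := {g | ∀ u ∈ U, ρ g u ∈ U}
      one_mem' := fun u hu => by rw [map_one]; exact hu
      mul_mem' := fun {a b} ha hb u hu => by rw [map_mul]; exact ha _ (hb u hu)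
      inv_mem' := fun {a} ha u hu => by
        have hpow : ∀ m : ℕ, ∀ u ∈ U, ρ (a ^ m) u ∈ U := fun m => by
          induction m with
          | zero => intro u hu; rw [pow_zero, map_one]; exact hu
          | succ m ih => intro u hu; rw [pow_succ', map_mul]; exact ha _ (ih u hu)
        rw [show a⁻¹ = a ^ (orderOf a - 1) from inv_eq_of_mul_eq_one_right (by
          rw [← pow_succ', Nat.sub_add_cancel (orderOf_pos a), pow_orderOf_eq_one])]
        exact hpow _ u hu }
  have hKS : K ≤ S := by
    refine (Subgroup.closure_le _).mpr ?_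
    have aux : ∀ g : G, ρ g v ∈ U → ρ g (ρ y v) ∈ U → g ∈ S := by
      intro g h1 h2 u hu
      obtain ⟨a, b, rfl⟩ := Submodule.mem_span_pair.mp hu
      rw [map_add, map_smul, map_smul]
      exact U.add_mem (U.smul_mem _ h1) (U.smul_mem _ h2)
    rintro g (rfl | rfl)
    · exact aux _ (hxv ▸ U.smul_mem _ hmv) hxy
    · exact aux _ hmy hyy
  have hli : LinearIndependent k ![v, ρ y v] := by
    rw [LinearIndependent.pair_iff' hv]
    intro c hc
    refine hne ?_
    have hfix : ρ ((y * x)⁻¹ * (x * y)) v = v := by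
      have e : ρ (x * y) v = ρ (y * x) v := by
        rw [map_mul, map_mul, Module.End.mul_apply, Module.End.mul_apply, ← hc, hxv, map_smul,
          map_smul, hxv, ← hc, smul_smul, smul_smul, mul_comm]
      rw [map_mul, Module.End.mul_apply, e, ← Module.End.mul_apply, ← map_mul, inv_mul_cancel,
        map_one, Module.End.one_apply]
    exact (inv_mul_eq_one.mp (apply_eq_one_of_fixed hf hv hfix)).symm
  have hdim : finrank k U = 2 := by
    rw [hU, ← Matrix.range_cons_cons_empty v (ρ y v) ![],
      finrank_span_eq_card hli, Fintype.card_fin]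
  let f : K →* Module.End k U :=
    { toFun := fun g => (ρ g).restrict (hKS g.2)
      map_one' := LinearMap.ext fun u => Subtype.ext (by simp [LinearMap.restrict_apply])
      map_mul' := fun a b => LinearMap.ext fun u => Subtype.ext (by
        simp [LinearMap.restrict_apply]) }
  have hfapp : ∀ (g : K) (u : U), ((f g u : U) : V) = ρ g u := fun g u => rfl
  have hff : IsFpf f := by
    intro g hg
    rw [LinearMap.isUnit_iff_ker_eq_bot, LinearMap.ker_eq_bot']
    intro u hu
    have h1 : ρ g (u : V) = u := by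
      have := congrArg Subtype.val hu
      simpa [LinearMap.sub_apply, hfapp, sub_eq_zero] using this
    by_contra hne'
    exact hg (Subtype.ext (apply_eq_one_of_fixed hf
      (fun e => hne' (Subtype.ext e)) h1))
  haveI : Nontrivial U := Module.nontrivial_of_finrank_eq_succ hdim
  set xK : K := ⟨x, Subgroup.subset_closure (Set.mem_insert _ _)⟩
  set yK : K := ⟨y, Subgroup.subset_closure (Set.mem_insert_of_mem _ rfl)⟩
  have hgen : Subgroup.closure ({xK, yK} : Set K) = ⊤ := by
    have h := Subgroup.closure_closure_coe_preimage (k := ({x, y} : Set G))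
    convert h using 2
    ext g
    simp [xK, yK, Subtype.ext_iff]
  have hx3K : xK ^ 3 = 1 := Subtype.ext hx3
  have hy3K : yK ^ 3 = 1 := Subtype.ext hy3
  obtain ⟨heven, hall⟩ := twoDim_core hff hdim xK yK hgen hx3K hy3K
    (fun h => hne (congrArg Subtype.val h.eq))
  refine ⟨heven.trans (Subgroup.card_subgroup_dvd_card K), ?_⟩
  obtain ⟨a, ha1, ha5, c, hc⟩ := hall (xK * yK)
  -- the determinant is one
  have det_one : ∀ g : K, g ^ 3 = 1 → g ≠ 1 → ¬ IsScalar f g → LinearMap.det (f g) = 1 := by
    intro g hg3 hg1 hns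
    obtain ⟨v', w', a', b', hli', ha', hb'⟩ := exists_two_eigen hff hdim g
    let bb := basisOfLinearIndependentOfCardEqFinrank hli' (by simp [hdim])
    have hbb : ∀ i, bb i = ![v', w'] i := fun i => by simp [bb]
    have hab : a' ≠ b' := fun e => hns ⟨a', bb.ext fun i => by
      fin_cases i <;> simp [hbb, ha', hb', e]⟩
    have hmat : LinearMap.toMatrix bb bb (f g) = Matrix.diagonal ![a', b'] := by
      ext i j
      rw [LinearMap.toMatrix_apply]
      fin_cases j <;> fin_cases i <;> simp [hbb, ha', hb', Matrix.diagonal] <;>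
        simp [show v' = bb 0 from (hbb 0).symm, show w' = bb 1 from (hbb 1).symm]
    rw [← LinearMap.det_toMatrix bb, hmat, Matrix.det_diagonal, Fin.prod_univ_two]
    show a' * b' = 1
    have root : ∀ (u : U) (e : k), u ≠ 0 → f g u = e • u → e * e + e + 1 = 0 := by
      intro u e hu he
      have h1 := congrArg (fun z : Module.End k U => z u) (hff.three hg1 hg3)
      simp only [Module.End.mul_apply, LinearMap.sub_apply, LinearMap.neg_apply,
        Module.End.one_apply, he, map_smul, smul_smul] at h1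
      have h2 : (e * e + e + 1) • u = 0 := by
        rw [add_smul, add_smul, one_smul, h1]; abel
      exact (smul_eq_zero.mp h2).resolve_right hu
    have r1 := root v' a' (hli'.ne_zero 0) ha'
    have r2 := root w' b' (hli'.ne_zero 1) hb'
    have hs : a' + b' = -1 := by
      have h3 : (a' - b') * (a' + b' + 1) = 0 := by linear_combination r1 - r2
      linear_combination (mul_eq_zero.mp h3).resolve_left (sub_ne_zero.mpr hab)
    linear_combination (a') * hs - r1
  have hnsx : ¬ IsScalar f xK := by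
    rintro ⟨d, hd⟩
    refine hne (congrArg Subtype.val (hff.injective ?_ : xK * yK = yK * xK))
    rw [map_mul, map_mul, hd, smul_mul_assoc, one_mul, mul_smul_comm, mul_one]
  have hnsy : ¬ IsScalar f yK := by
    rintro ⟨d, hd⟩
    refine hne (congrArg Subtype.val (hff.injective ?_ : xK * yK = yK * xK))
    rw [map_mul, map_mul, hd, smul_mul_assoc, one_mul, mul_smul_comm, mul_one]
  have hx1K : xK ≠ 1 := fun h => hx1 (congrArg Subtype.val h)
  have hy1K : yK ≠ 1 := fun h => hy1 (congrArg Subtype.val h)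
  have hdet : LinearMap.det (f ((xK * yK) ^ a)) = 1 := by
    rw [map_pow, map_pow, map_mul, map_mul, det_one xK hx3K hx1K hnsx, det_one yK hy3K hy1K hnsy,
      one_mul, one_pow]
  rw [hc, LinearMap.det_smul, hdim, map_one, mul_one] at hdet
  refine ⟨a, ha1, ha5, congrArg Subtype.val (hff.injective (?_ : f ((xK * yK) ^ (2 * a)) = f 1))⟩
  rw [mul_comm 2 a, pow_mul, map_pow, hc, smul_pow, one_pow, hdet, one_smul, map_one]

/-- The pair lemma. -/
theorem pair_lemma [Nontrivial V] (hf : IsFpf ρ) {x y : G} (hx1 : x ≠ 1) (hy1 : y ≠ 1) (hx3 : x ^ 3 = 1)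
    (hy3 : y ^ 3 = 1) (hne : ¬ Commute x y) :
    (2 : k) ≠ 0 ∧ (3 : k) ≠ 0 ∧ (tau ρ x y = 0 ∨ tau ρ x y = 1 ∨
      (tau ρ x y * tau ρ x y = tau ρ x y + 1 ∧ (5 : k) ≠ 0)) := by
  have hx := hf.three hx1 hx3
  have hy := hf.three hy1 hy3
  obtain ⟨t, ht⟩ := Module.End.exists_eigenvalue (tau ρ x y)
  set E := Module.End.eigenspace (tau ρ x y) t
  have hE : ∀ u ∈ E, ρ x u ∈ E := by
    intro u hu
    rw [Module.End.mem_eigenspace_iff] at hu ⊢
    rw [← Module.End.mul_apply, (tau_commute ρ hx hy hx3 hy3).1.eq, Module.End.mul_apply, hu,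
      map_smul]
  haveI : Nontrivial E := Submodule.nontrivial_iff_ne_bot.mpr ht
  obtain ⟨ω, hω⟩ := Module.End.exists_eigenvalue ((ρ x).restrict hE)
  obtain ⟨v, hv⟩ := hω.exists_hasEigenvector
  have hv0 : (v : V) ≠ 0 := fun e => hv.2 (Subtype.ext e)
  have hxv : ρ x (v : V) = ω • (v : V) := congrArg Subtype.val hv.apply_eq_smul
  have htv : tau ρ x y (v : V) = t • (v : V) := Module.End.mem_eigenspace_iff.mp v.2
  -- the eigenvector for the pair (x⁻¹, y)
  have hxi3 : x⁻¹ ^ 3 = 1 := by rw [inv_pow, hx3, inv_one]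
  have hxi1 : x⁻¹ ≠ 1 := inv_ne_one.mpr hx1
  have hnei : ¬ Commute x⁻¹ y := fun h => hne (Commute.inv_left_iff.mp h)
  have hω0 : ω ≠ 0 := fun e => map_ne_zero_vec hf x hv0 (by rw [hxv, e, zero_smul])
  have hxiv : ρ x⁻¹ (v : V) = ω⁻¹ • (v : V) := by
    have h := congrArg (ρ x⁻¹) hxv
    rw [← Module.End.mul_apply, ← map_mul, inv_mul_cancel, map_one, Module.End.one_apply,
      map_smul] at h
    conv_rhs => rw [h]
    rw [smul_smul, inv_mul_cancel₀ hω0, one_smul]
  have hti : tau ρ x⁻¹ y (v : V) = (1 - t) • (v : V) := by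
    rw [tau_inv_eq ρ hx hy hx3 hy3, LinearMap.sub_apply, Module.End.one_apply, htv, sub_smul,
      one_smul]
  obtain ⟨heven, a, ha1, ha5, hpow⟩ := pow_double_eq_one hf hx1 hy1 hx3 hy3 hne hv0 hxv htv
  obtain ⟨-, b, hb1, hb5, hpowi⟩ :=
    pow_double_eq_one hf hxi1 hy1 hxi3 hy3 hnei hv0 hxiv hti
  have h2 : (2 : k) ≠ 0 := by simpa using hf.natCast_ne_zero (k := k) heven
  have h3 : (3 : k) ≠ 0 := by
    have h := hf.natCast_ne_zero (k := k) (m := 3)
      ((orderOf_eq_prime (hp := ⟨Nat.prime_three⟩) hx3 hx1) ▸ orderOf_dvd_natCard x)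
    rwa [Nat.cast_ofNat] at h
  refine ⟨h2, h3, ?_⟩
  have ne_sq : ∀ x' : G, x' ≠ 1 → x' ^ 3 = 1 → ¬ Commute x' y → (x' * y) ^ 2 ≠ 1 := by
    intro x' _ _ hn e
    refine hn ?_
    have hc := hf.commute_invol e x'
    have : x' * y * x' = x' * (x' * y) := hc.eq
    rw [mul_assoc] at this
    exact (mul_left_cancel this).symm
  have four : ∀ {g : G} {a : ℕ}, 1 ≤ a → a ≤ 5 → g ^ (2 * a) = 1 → g ^ 2 ≠ 1 →
      g ^ 4 = 1 ∨ g ^ 6 = 1 ∨ g ^ 8 = 1 ∨ g ^ 10 = 1 := by
    intro g a h1 h5 hp h2
    interval_cases a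
    · exact absurd hp h2
    · exact Or.inl hp
    · exact Or.inr (Or.inl hp)
    · exact Or.inr (Or.inr (Or.inl hp))
    · exact Or.inr (Or.inr (Or.inr hp))
  have n1 := ne_sq x hx1 hx3 hne
  have n2 := ne_sq x⁻¹ hxi1 hxi3 hnei
  have o1 := tau_options (k := k) hf n1 (four ha1 ha5 hpow n1)
  have o2 := tau_options (k := k) hf n2 (four hb1 hb5 hpowi n2)
  -- pass to the eigenvalue
  have sc : ∀ {T : Module.End k V} {s : k}, T (v : V) = s • (v : V) →
      (T = 0 → s = 0) ∧ (T = 1 → s = 1) ∧ (T = -1 → s = -1) ∧ (T * T = 2 → s * s = 2) ∧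
      (T * T + T - 1 = 0 → s * s + s - 1 = 0) ∧ (T * T - T - 1 = 0 → s * s - s - 1 = 0) := by
    intro T s hs
    have inj := smul_left_injective k hv0
    have hsq : (T * T) (v : V) = (s * s) • (v : V) := by
      rw [Module.End.mul_apply, hs, map_smul, hs, smul_smul]
    refine ⟨fun h => inj ?_, fun h => inj ?_, fun h => inj ?_, fun h => inj ?_, fun h => inj ?_,
      fun h => inj ?_⟩ <;> simp only
    · rw [← hs, h, zero_smul, LinearMap.zero_apply]
    · rw [← hs, h, one_smul, Module.End.one_apply]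
    · rw [← hs, h, neg_smul, one_smul, LinearMap.neg_apply, Module.End.one_apply]
    · rw [← hsq, h, ← one_add_one_eq_two, ← one_add_one_eq_two, LinearMap.add_apply,
        Module.End.one_apply, add_smul, one_smul]
    · have := congrArg (fun z : Module.End k V => z (v : V)) h
      simpa [hsq, hs, sub_smul, add_smul] using this
    · have := congrArg (fun z : Module.End k V => z (v : V)) h
      simpa [hsq, hs, sub_smul] using this
  obtain ⟨a0, a1, am, a2, ap, an⟩ := sc htv
  obtain ⟨b0, b1, bm, b2, bp, bn⟩ := sc hti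
  rcases o1 with o | o | o | o | ⟨o, h5⟩ | ⟨o, h5⟩
  · exact Or.inl o
  · exact Or.inr (Or.inl o)
  · exfalso
    have e := am o
    rcases o2 with q | q | q | q | ⟨q, h5'⟩ | ⟨q, h5'⟩
    · exact h2 (by linear_combination b0 q + e)
    · exact one_ne_zero (α := k) (by linear_combination b1 q + e)
    · exact h3 (by linear_combination bm q + e)
    · have := b2 q; rw [e] at this; exact h2 (by linear_combination this)
    · have := bp q; rw [e] at this; exact h5' (by linear_combination this)
    · have := bn q; rw [e] at this; exact one_ne_zero (α := k) (by linear_combination this)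
  · exfalso
    have e := a2 o
    rcases o2 with q | q | q | q | ⟨q, -⟩ | ⟨q, -⟩
    · have := b0 q; exact one_ne_zero (α := k) (by linear_combination -e - (t + 1) * this)
    · have := b1 q; exact h2 (by linear_combination -e - t * this)
    · have := bm q; exact h2 (by linear_combination e + (t + 2) * this)
    · -- the spurious case in characteristic seven
      have ht4 : 2 * t = 1 := by linear_combination e - b2 q
      have h7 : (7 : k) = 0 := by linear_combination (2 * t + 1) * ht4 - 4 * e
      have htval : t * t - t = -2 := by linear_combination e - 4 * ht4 + t * h7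
      set c := x * (y * x⁻¹ * y⁻¹) with hc
      have hcv : (ρ c + ρ c⁻¹) (v : V) = (-2 : k) • (v : V) := by
        show tau ρ x (y * x⁻¹ * y⁻¹) (v : V) = _
        rw [tau_commutator ρ hx hy hx3 hy3, LinearMap.sub_apply, Module.End.mul_apply, htv,
          map_smul, htv, smul_smul, ← sub_smul, htval]
      have hsq : ((ρ c + 1) * (ρ c + 1)) (v : V) = 0 := by
        have h := congrArg (ρ c) hcv
        rw [← Module.End.mul_apply, mul_add, ← map_mul, ← map_mul, mul_inv_cancel, map_one,
          map_smul, LinearMap.add_apply, Module.End.one_apply] at h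
        have e0 : ∀ u : Module.End k V, (u + 1) * (u + 1) = u * u + 1 + (u + u) := fun u => by
          noncomm_ring
        have e1 : (ρ c + 1) * (ρ c + 1) = ρ (c * c) + 1 + (ρ c + ρ c) := by
          rw [map_mul ρ c c, e0]
        rw [e1, LinearMap.add_apply, LinearMap.add_apply, LinearMap.add_apply, Module.End.one_apply,
          h, neg_smul, two_smul]
        abel
      have hc1 : c ≠ 1 := fun e0 => hne (by
        calc x * y = c * (y * x) := by rw [hc]; group
          _ = y * x := by rw [e0, one_mul])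
      have hc2 : c ^ 2 = 1 := by
        by_contra hcne
        have h2' := hf (c ^ 2) hcne
        rw [map_pow, show ρ c ^ 2 - 1 = (ρ c + 1) * (ρ c - 1) by noncomm_ring] at h2'
        have hu : IsUnit (ρ c + 1) :=
          ((Commute.isUnit_mul_iff (by show _ = _; noncomm_ring)).mp h2').1
        obtain ⟨uu, huu⟩ := hu.mul hu
        rw [← huu] at hsq
        have h0 := congrArg (fun z => (↑uu⁻¹ : Module.End k V) z) hsq
        simp only [map_zero, ← Module.End.mul_apply, Units.inv_mul, Module.End.one_apply] at h0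
        exact hv0 h0
      refine hc1 ?_
      have hcc : Commute c y := hf.commute_invol hc2 y
      have hcy : x * y * x⁻¹ = c * y := by rw [hc]; group
      have h3' := congrArg (fun z => z ^ 3) hcy
      simp only [conj_pow, hy3, hcc.mul_pow, mul_one, mul_inv_cancel] at h3'
      rw [pow_succ c 2, hc2, one_mul] at h3'
      exact h3'.symm
    · have := bp q; exact h3 (by linear_combination (t + 1) * (e - this) - 3 * e)
    · have := bn q; exact one_ne_zero (α := k) (by linear_combination (t + 1) * (e - this) - e)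
  · exfalso
    have e := ap o
    rcases o2 with q | q | q | q | ⟨q, -⟩ | ⟨q, -⟩
    · exact one_ne_zero (α := k) (by linear_combination e + (t + 2) * b0 q)
    · exact one_ne_zero (α := k) (by linear_combination -e - (t + 1) * b1 q)
    · exact h5 (by linear_combination e + (t + 3) * bm q)
    · have ht : t = 0 := (mul_eq_zero.mp (show (3 : k) * t = 0 by linear_combination e - b2 q)).resolve_left h3
      rw [ht] at e
      exact one_ne_zero (α := k) (by linear_combination -e)
    · have ht : 2 * t = 1 := mul_left_cancel₀ h2 (by linear_combination e - bp q)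
      exact one_ne_zero (α := k) (by linear_combination (2 * t + 3) * ht - 4 * e)
    · have ht : t = 0 := (mul_eq_zero.mp (show (2 : k) * t = 0 by linear_combination e - bn q)).resolve_left h2
      rw [ht] at e
      exact one_ne_zero (α := k) (by linear_combination -e)
  · exact Or.inr (Or.inr ⟨by rw [← sub_eq_zero, ← o]; abel, h5⟩)

end Linear

end Cfsg.Agent.Zassenhaus
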