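import Cfsg.Agent.Lib.Zassenhaus.Axes
import Cfsg.Agent.Lib.Zassenhaus.Aut2
import Cfsg.Agent.Lib.Zassenhaus.Pair
import Cfsg.Agent.Lib.Basics.FpfAbelian
import Cfsg.Agent.Lib.FrobExamples.Basic

/-!
Abstract Frobenius complements as fixed-point-free matrix groups.
-/

set_option autoImplicit false

namespace Cfsg.Agent.Zassenhaus

open Module Cfsg
open scoped Pointwise

/-- `G` has a fixed-point-free matrix representation over a prime field -/
def FC (G : Type*) [Group G] : Prop :=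
  ∃ (q : ℕ) (_ : Fact q.Prime) (n : ℕ) (ρ : G →* Matrix (Fin (n + 1)) (Fin (n + 1)) (ZMod q)),
    ∀ g : G, g ≠ 1 → (ρ g - 1).det ≠ 0

theorem FC.comap {G H : Type*} [Group G] [Group H] (h : FC G) {f : H →* G}
    (hf : Function.Injective f) : FC H := by
  obtain ⟨q, hq, n, ρ, hρ⟩ := h
  exact ⟨q, hq, n, ρ.comp f, fun g hg => hρ _ fun e => hg (hf (e.trans (map_one f).symm))⟩

theorem FC.subgroup {G : Type*} [Group G] (h : FC G) (H : Subgroup G) : FC H :=
  h.comap H.subtype_injective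

theorem FC.congr {G H : Type*} [Group G] [Group H] (h : FC G) (e : H ≃* G) : FC H :=
  h.comap (f := e.toMonoidHom) e.injective

/-- a fixed-point-free action on an elementary abelian `q`-group gives a representation -/
theorem fc_of_action_elementary {G : Type*} [Group G] {W : Type*} [CommGroup W] [Finite W]
    [Nontrivial W] {q : ℕ} [hq : Fact q.Prime] (hW : ∀ w : W, w ^ q = 1) (ψ : G →* MulAut W)
    (hψ : ∀ g : G, g ≠ 1 → ∀ w : W, ψ g w = w → w = 1) : FC G := by
  letI : Module (ZMod q) (Additive W) := AddCommGroup.zmodModule (n := q) (G := Additive W) (fun x => Additive.toMul.injective (hW x.toMul))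
  haveI : Module.Finite (ZMod q) (Additive W) := Module.Finite.of_finite
  have hpos : 0 < Module.finrank (ZMod q) (Additive W) := Module.finrank_pos
  obtain ⟨n, hn⟩ := Nat.exists_eq_succ_of_ne_zero hpos.ne'
  let b : Basis (Fin (n + 1)) (ZMod q) (Additive W) := (Module.finBasis _ _).reindex (finCongr hn)
  let f : G →* Module.End (ZMod q) (Additive W) :=
    { toFun := fun g => AddMonoidHom.toZModLinearMap q (MonoidHom.toAdditive (ψ g).toMonoidHom)
      map_one' := by ext w; simp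
      map_mul' := fun g h => by ext w; simp }
  refine ⟨q, hq, n, ((LinearMap.toMatrixAlgEquiv b).toMulEquiv.toMonoidHom).comp f,
    fun g hg hdet => ?_⟩
  have e : LinearMap.toMatrixAlgEquiv b (f g) - 1 = LinearMap.toMatrixAlgEquiv b (f g - 1) := by
    rw [map_sub, map_one]
  change (LinearMap.toMatrixAlgEquiv b (f g) - 1).det = 0 at hdet
  rw [e] at hdet
  change (LinearMap.toMatrix b b (f g - 1)).det = 0 at hdet
  rw [LinearMap.det_toMatrix] at hdet
  obtain ⟨w, hw, hw0⟩ := (Submodule.ne_bot_iff _).mp (LinearMap.bot_lt_ker_of_det_eq_zero hdet).ne'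
  rw [LinearMap.mem_ker, LinearMap.sub_apply, Module.End.one_apply, sub_eq_zero] at hw
  exact hw0 (Additive.toMul.injective (hψ g hg w.toMul (congrArg Additive.toMul hw)))

/-- a fixed-point-free action on a finite group gives a representation -/
theorem fc_of_action {G : Type*} [Group G] [Finite G] [Nontrivial G] {K : Type*} [Group K] [Finite K]
    [Nontrivial K] (φ : G →* MulAut K) (hφ : ∀ g : G, g ≠ 1 → ∀ k : K, φ g k = k → k = 1) : FC G := by
  haveI : Finite (K ⋊[φ] G) := Finite.of_equiv _ SemidirectProduct.equivProd.symm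
  set Kb : Subgroup (K ⋊[φ] G) := (SemidirectProduct.inl : K →* K ⋊[φ] G).range with hKb
  haveI : Kb.Normal := by rw [hKb, SemidirectProduct.range_inl_eq_ker_rightHom]; infer_instance
  set Hb : Subgroup (K ⋊[φ] G) := (SemidirectProduct.inr : G →* K ⋊[φ] G).range
  have hK : Kb ≠ ⊥ := fun h => by
    obtain ⟨k, hk⟩ := exists_ne (1 : K)
    exact hk (SemidirectProduct.inl_injective
      ((Subgroup.mem_bot.mp (h.le ⟨k, rfl⟩)).trans (map_one _).symm))
  have hH : Hb ≠ ⊥ := fun h => by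
    obtain ⟨g, hg⟩ := exists_ne (1 : G)
    exact hg (SemidirectProduct.inr_injective
      ((Subgroup.mem_bot.mp (h.le ⟨g, rfl⟩)).trans (map_one _).symm))
  have hfpf : ∀ h ∈ Hb, h ≠ 1 → Kb ⊓ Subgroup.centralizer {h} = ⊥ := by
    rintro _ ⟨g, rfl⟩ hg
    rw [eq_bot_iff]
    rintro _ ⟨⟨k, rfl⟩, hc⟩
    have hc' := Subgroup.mem_centralizer_singleton_iff.mp hc
    have e : φ g k = k := by
      apply SemidirectProduct.inl_injective (φ := φ)
      rw [SemidirectProduct.inl_aut, map_inv, mul_inv_eq_iff_eq_mul, ← hc']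
    rw [Subgroup.mem_bot, hφ g (fun e1 => hg (by rw [e1, map_one])) k e, map_one]
  obtain ⟨V, -, hV, hVc, hVn, hVf⟩ := Basics.exists_abelian_fpf Kb Hb hK hH hfpf
  haveI : Nontrivial V := V.nontrivial_iff_ne_bot.mpr hV
  obtain ⟨q, hq, hqd⟩ := Nat.exists_prime_and_dvd
    (fun h : Nat.card V = 1 => hV (V.eq_bot_of_card_eq h))
  haveI := Fact.mk hq
  letI : CommGroup V := { (inferInstance : Group V) with mul_comm := mul_comm' }
  let W : Subgroup V := (powMonoidHom q : V →* V).ker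
  haveI : Nontrivial W := by
    obtain ⟨x, hx⟩ := exists_prime_orderOf_dvd_card' (G := V) q hqd
    refine ⟨⟨⟨x, by rw [MonoidHom.mem_ker, powMonoidHom_apply, ← hx, pow_orderOf_eq_one]⟩, 1, ?_⟩⟩
    intro h
    rw [show x = 1 from congrArg Subtype.val h, orderOf_one] at hx
    exact hq.one_lt.ne hx
  let c : G →* MulAut V := (MulAut.conjNormal (H := V)).comp (SemidirectProduct.inr : G →* K ⋊[φ] G)
  have hcW : ∀ (g : G) (w : V), w ∈ W → c g w ∈ W := fun g w hw => by
    rw [MonoidHom.mem_ker, powMonoidHom_apply] at hw ⊢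
    rw [← map_pow, hw, map_one]
  let ψ : G →* MulAut W := MonoidHom.mk'
    (fun g =>
      { toFun := fun w => ⟨c g w, hcW g w w.2⟩
        invFun := fun w => ⟨c g⁻¹ w, hcW g⁻¹ w w.2⟩
        left_inv := fun w => Subtype.ext (by
          show c g⁻¹ (c g (w : V)) = (w : V)
          rw [← MulAut.mul_apply, ← map_mul, inv_mul_cancel, map_one, MulAut.one_apply])
        right_inv := fun w => Subtype.ext (by
          show c g (c g⁻¹ (w : V)) = (w : V)
          rw [← MulAut.mul_apply, ← map_mul, mul_inv_cancel, map_one, MulAut.one_apply])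
        map_mul' := fun u v => Subtype.ext (map_mul (c g) _ _) })
    (fun g h => MulEquiv.ext fun w => Subtype.ext (by
      show c (g * h) w = c g (c h w)
      rw [map_mul]; rfl))
  refine fc_of_action_elementary (W := W) (q := q) (fun w => Subtype.ext w.2) ψ fun g hg w hw => ?_
  have h1 := congrArg (fun u : W => ((u : V) : K ⋊[φ] G)) hw
  change (MulAut.conjNormal (SemidirectProduct.inr g : K ⋊[φ] G) (w : V) : K ⋊[φ] G) = _ at h1
  rw [MulAut.conjNormal_apply] at h1
  have hm : ((w : V) : K ⋊[φ] G) ∈ V ⊓ Subgroup.centralizer {SemidirectProduct.inr g} :=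
    Subgroup.mem_inf.mpr ⟨(w : V).2, Subgroup.mem_centralizer_singleton_iff.mpr
      (mul_inv_eq_iff_eq_mul.mp h1).symm⟩
  rw [hVf _ ⟨g, rfl⟩ (fun e => hg (SemidirectProduct.inr_injective (e.trans (map_one _).symm))),
    Subgroup.mem_bot] at hm
  exact Subtype.ext (Subtype.ext hm)

/-- Frobenius complements have representations -/
theorem fc_of_complement {L : Type*} [Group L] [Finite L] {H : Subgroup L}
    (hH : IsFrobeniusComplement H) : FC H := by
  obtain ⟨N, -, hN, hc, hcard⟩ := Basics.frobenius_kernel_exists hH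
  haveI : Nontrivial H := H.nontrivial_iff_ne_bot.mpr hH.1
  haveI : Nontrivial N := by
    rw [← Finite.one_lt_card_iff_nontrivial, hcard]
    exact lt_of_le_of_ne (Nat.one_le_iff_ne_zero.mpr Subgroup.index_ne_zero_of_finite)
      (fun e => hH.2.1 (Subgroup.index_eq_one.mp e.symm))
  refine fc_of_action ((MulAut.conjNormal (H := N)).comp H.subtype) fun h hh k hk => ?_
  have h1 := congrArg (fun u : N => (u : L)) hk
  simp only [MonoidHom.comp_apply, Subgroup.coe_subtype, MulAut.conjNormal_apply] at h1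
  by_contra hk1
  have hkH : (k : L) ∉ H := fun hm => hk1 (Subtype.ext (by
    have : (k : L) ∈ N ⊓ H := ⟨k.2, hm⟩
    rwa [hc.disjoint.eq_bot, Subgroup.mem_bot] at this))
  have h2 : (h : L) ∈ H ⊓ (MulAut.conj (k : L) • H) := by
    refine Subgroup.mem_inf.mpr ⟨h.2, ?_⟩
    rw [Subgroup.mem_pointwise_smul_iff_inv_smul_mem, MulAut.smul_def, ← map_inv, MulAut.conj_apply,
      inv_inv]
    have e : (k : L)⁻¹ * h * k = h := by
      rw [mul_assoc, inv_mul_eq_iff_eq_mul, ← mul_inv_eq_iff_eq_mul.mp h1]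
    rw [e]; exact h.2
  rw [hH.2.2 _ hkH, Subgroup.mem_bot] at h2
  exact hh (Subtype.ext h2)

theorem fc_of_exists {G : Type*} [Group G]
    (h : ∃ (L : Type) (_ : Group L) (_ : Finite L) (H : Subgroup L),
      IsFrobeniusComplement H ∧ Nonempty (G ≃* H)) : FC G := by
  obtain ⟨L, _, _, H, hH, ⟨e⟩⟩ := h
  exact (fc_of_complement hH).congr e

section

variable {G : Type*} [Group G] [Finite G]

/-- the algebraically closed model -/
theorem FC.exists_fpf (h : FC G) : ∃ (k : Type) (_ : Field k) (_ : IsAlgClosed k) (n : ℕ)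
    (ρ : G →* Module.End k (Fin (n + 1) → k)), IsFpf ρ := by
  obtain ⟨q, hq, n, ρ, hρ⟩ := h
  let k := AlgebraicClosure (ZMod q)
  let i := algebraMap (ZMod q) k
  refine ⟨k, inferInstance, inferInstance, n,
    ((Matrix.toLinAlgEquiv' : Matrix (Fin (n + 1)) (Fin (n + 1)) k ≃ₐ[k] _).toMulEquiv.toMonoidHom).comp
      (i.mapMatrix.toMonoidHom.comp ρ), fun g hg => ?_⟩
  have hu : IsUnit (i.mapMatrix (ρ g - 1)) := by
    rw [Matrix.isUnit_iff_isUnit_det, ← RingHom.map_det]
    exact IsUnit.map i (isUnit_iff_ne_zero.mpr (hρ g hg))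
  rw [map_sub, map_one] at hu
  have := hu.map (Matrix.toLinAlgEquiv' : Matrix (Fin (n + 1)) (Fin (n + 1)) k ≃ₐ[k] _)
  rw [map_sub, map_one] at this
  exact this

/-- the dichotomy for elements of order three -/
theorem FC.three_or_embed (h : FC G) :
    (threeSet G).ncard ≤ 8 ∨ ∃ θ : SL25 →* G, Function.Injective θ ∧ ∀ y : G, y ^ 3 = 1 → y ∈ θ.range := by
  obtain ⟨k, _, _, n, ρ, hρ⟩ := h.exists_fpf
  by_cases hc : ∀ x y : G, x ≠ 1 → y ≠ 1 → x ^ 3 = 1 → y ^ 3 = 1 → Commute x y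
  · left
    rcases (threeSet G).eq_empty_or_nonempty with e | ⟨x, hx1, hx3⟩
    · simp [e]
    have sub : threeSet G ⊆ {x, x⁻¹} := by
      rintro y ⟨hy1, hy3⟩
      rcases hρ.three_commute hx1 hy1 hx3 hy3 (hc x y hx1 hy1 hx3 hy3) with rfl | rfl <;> simp
    exact (Set.ncard_le_ncard sub).trans ((Set.ncard_insert_le _ _).trans (by simp))
  simp only [not_forall] at hc
  obtain ⟨x, y, hx1, hy1, hx3, hy3, hne⟩ := hc
  obtain ⟨h2, h3, -⟩ := pair_lemma hρ hx1 hy1 hx3 hy3 hne
  exact Zassenhaus.three_or_embed (ρ := ρ) ⟨hρ, h2, h3,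
    fun a b a1 b1 a3 b3 ab => (pair_lemma hρ a1 b1 a3 b3 ab).2.2⟩

theorem FC.invol_unique (h : FC G) {a b : G} (ha : a ≠ 1) (ha2 : a ^ 2 = 1) (hb : b ≠ 1)
    (hb2 : b ^ 2 = 1) : a = b := by
  obtain ⟨k, _, _, n, ρ, hρ⟩ := h.exists_fpf
  exact hρ.invol_unique ha ha2 hb hb2

theorem FC.invol_commute (h : FC G) {a : G} (ha : a ^ 2 = 1) (b : G) : Commute a b := by
  obtain ⟨k, _, _, n, ρ, hρ⟩ := h.exists_fpf
  exact hρ.commute_invol ha b

theorem FC.three_commute (h : FC G) {x y : G} (hx : x ≠ 1) (hy : y ≠ 1)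
    (hx3 : x ^ 3 = 1) (hy3 : y ^ 3 = 1) (hc : Commute x y) : y = x ∨ y = x⁻¹ := by
  obtain ⟨k, _, _, n, ρ, hρ⟩ := h.exists_fpf
  exact hρ.three_commute hx hy hx3 hy3 hc

theorem FC.two_group (h : FC G) (hG : IsPGroup 2 G) :
    IsCyclic G ∨ ∃ n : ℕ, Nonempty (G ≃* QuaternionGroup (2 ^ n)) := by
  haveI := Fact.mk Nat.prime_two
  refine (InvChar.cyclic_or_quaternion hG fun A B hA hB => ?_).imp_right And.right
  obtain ⟨a, ha⟩ := exists_prime_orderOf_dvd_card' (G := A) 2 (by rw [hA])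
  obtain ⟨b, hb⟩ := exists_prime_orderOf_dvd_card' (G := B) 2 (by rw [hB])
  rw [← Subgroup.orderOf_coe] at ha hb
  have e : (a : G) = b := h.invol_unique
    (fun e => by rw [e, orderOf_one] at ha; omega) (ha ▸ pow_orderOf_eq_one (a : G))
    (fun e => by rw [e, orderOf_one] at hb; omega) (hb ▸ pow_orderOf_eq_one (b : G))
  have eq : ∀ C : Subgroup G, Nat.card C = 2 → ∀ c ∈ C, orderOf c = 2 → Subgroup.zpowers c = C :=
    fun C hC c hc hco => Subgroup.eq_of_le_of_card_ge (Subgroup.zpowers_le.mpr hc)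
      (by rw [Nat.card_zpowers, hco, hC])
  rw [← eq A hA a a.2 ha, ← eq B hB b b.2 hb, e]

theorem FC.isCyclic_sylow (h : FC G) {p : ℕ} [hp : Fact p.Prime] (hp2 : p ≠ 2) (P : Sylow p G) :
    IsCyclic P := by
  rcases subsingleton_or_nontrivial G with hs | hnt
  · infer_instance
  obtain ⟨q, hq, n, ρ, hρ⟩ := h
  obtain ⟨L, _, _, H, hH, ⟨e⟩⟩ := FrobExamples.exists_of_matrix ρ hρ
  obtain ⟨N, -, hN, hc, hcard⟩ := Basics.frobenius_kernel_exists hH
  have hN1 : N ≠ ⊥ := fun h0 => hH.2.1 (Subgroup.index_eq_one.mp (by rw [← hcard, h0, Subgroup.card_bot]))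
  have hfpf : ∀ x ∈ H, x ≠ 1 → N ⊓ Subgroup.centralizer {x} = ⊥ := by
    intro x hx hx1
    rw [eq_bot_iff]
    rintro k ⟨hk, hck⟩
    rw [Subgroup.mem_bot]
    by_contra hk1
    have hkH : k ∉ H := fun hm => hk1 (by
      have : k ∈ N ⊓ H := ⟨hk, hm⟩
      rwa [hc.disjoint.eq_bot, Subgroup.mem_bot] at this)
    have h2 : x ∈ H ⊓ (MulAut.conj k • H) := by
      refine Subgroup.mem_inf.mpr ⟨hx, ?_⟩
      rw [Subgroup.mem_pointwise_smul_iff_inv_smul_mem, MulAut.smul_def, ← map_inv, MulAut.conj_apply,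
        inv_inv, mul_assoc, ← Subgroup.mem_centralizer_singleton_iff.mp hck, inv_mul_cancel_left]
      exact hx
    rw [hH.2.2 _ hkH, Subgroup.mem_bot] at h2
    exact hx1 h2
  obtain ⟨m, hm⟩ := P.2.exists_card_eq
  let P' : Sylow p H := Sylow.ofCard ((P : Subgroup G).map (e : G →* H)) (by
    rw [Subgroup.card_map_of_injective e.injective, P.card_eq_multiplicity, Nat.card_congr e.toEquiv])
  rcases Basics.fpf_sylow_cyclic_or_quaternion N H hN1 hfpf p P' with hcy | ⟨h2, -⟩
  · exact (((P : Subgroup G).equivMapOfInjective _ e.injective).isCyclic).mpr hcy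
  · exact absurd h2 hp2

end

end Cfsg.Agent.Zassenhaus
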