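import Mathlib

/-!
A norm identity from quadratic Gauss periods: for a prime `l` congruent to three modulo four and
to minus one modulo `r`, minus a square is a value of the form `A² + l B²` in every field of
characteristic zero with a root of unity of odd order `r`.
-/

set_option autoImplicit false

namespace Cfsg.Agent.Zassenhaus

open Polynomial

theorem exists_norm_eq {K : Type*} [Field K] [CharZero K] {r l : ℕ} [hl : Fact l.Prime] {x : K}
    (hx : x ^ r = 1) (hx1 : x ≠ 1) (hr : Odd r) (hl4 : l % 4 = 3) (hlr : r ∣ l + 1) :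
    ∃ A B y : K, y ≠ 0 ∧ A * A + (l : K) * (B * B) = -(y * y) := by
  classical
  obtain ⟨h, rfl⟩ := hr
  have hl2 : l ≠ 2 := by rintro rfl; omega
  let L := CyclotomicField l K
  haveI : IsCyclotomicExtension {l} K L := CyclotomicField.isCyclotomicExtension l K
  haveI : FiniteDimensional K L := IsCyclotomicExtension.finiteDimensional {l} K L
  haveI : IsGalois K L := IsCyclotomicExtension.isGalois {l} K L
  haveI : CharZero L := charZero_of_injective_algebraMap (algebraMap K L).injective
  set ζ := IsCyclotomicExtension.zeta l K L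
  have hζ : IsPrimitiveRoot ζ l := IsCyclotomicExtension.zeta_spec l K L
  let ψ : AddChar (ZMod l) L := AddChar.zmodChar l hζ.pow_eq_one
  have hψ : ψ.IsPrimitive := AddChar.zmodChar_primitive_of_primitive_root l hζ
  have hψinj : Function.Injective ψ := fun a b e => by
    simp only [ψ, AddChar.zmodChar_apply] at e
    exact ZMod.val_injective l (hζ.pow_inj (ZMod.val_lt a) (ZMod.val_lt b) e)
  let χ : MulChar (ZMod l) L := (quadraticChar (ZMod l)).ringHomComp (Int.castRingHom L)
  have hF : ringChar (ZMod l) ≠ 2 := by rwa [ZMod.ringChar_zmod_n]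
  have hχ1 : χ ≠ 1 :=
    (MulChar.ringHomComp_ne_one_iff (Int.cast_injective)).mpr (quadraticChar_ne_one hF)
  have hχ2 : χ.IsQuadratic := (quadraticChar_isQuadratic (ZMod l)).comp _
  set g := gaussSum χ ψ with hg
  have hm1 : quadraticChar (ZMod l) (-1) = -1 :=
    quadraticChar_neg_one_iff_not_isSquare.mpr fun h => ZMod.exists_sq_eq_neg_one_iff.mp h hl4
  have hg2 : g * g = -(l : L) := by
    rw [← pow_two, hg, gaussSum_sq hχ1 hχ2 hψ, ZMod.card]
    simp [χ, MulChar.ringHomComp_apply, hm1] <;> ring
  have hg0 : g ≠ 0 := fun e => by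
    rw [e, mul_zero] at hg2
    exact hl.out.ne_zero (Nat.cast_eq_zero.mp (neg_eq_zero.mp hg2.symm))
  set X' := algebraMap K L x with hX'
  let P : ℤ → L := fun e =>
    ∏ a ∈ Finset.univ.filter (fun a : ZMod l => quadraticChar (ZMod l) a = e), (X' - ψ a)
  -- the action of the Galois group
  have hσ : ∀ σ : L ≃ₐ[K] L, ∃ b : (ZMod l)ˣ,
      σ g = χ b * g ∧ ∀ e : ℤ, σ (P e) = P (quadraticChar (ZMod l) b * e) := by
    intro σ
    obtain ⟨i, hil, hi⟩ := hζ.eq_pow_of_pow_eq_one
      (show σ ζ ^ l = 1 by rw [← map_pow, hζ.pow_eq_one, map_one])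
    have hi0 : (i : ZMod l) ≠ 0 := by
      rw [Ne, ZMod.natCast_eq_zero_iff]
      intro hd
      have h0 := Nat.eq_zero_of_dvd_of_lt hd hil
      rw [h0, pow_zero] at hi
      exact hζ.ne_one hl.out.one_lt (σ.injective (hi.symm.trans (map_one σ).symm))
    refine ⟨Units.mk0 _ hi0, ?_, ?_⟩
    · have hs : ∀ a, σ (ψ a) = ψ ((i : ZMod l) * a) := by
        intro a
        simp only [ψ, AddChar.zmodChar_apply]
        rw [map_pow, ← hi, ← pow_mul]
        refine pow_eq_pow_of_modEq ?_ hζ.pow_eq_one
        rw [← ZMod.natCast_eq_natCast_iff]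
        push_cast
        rw [ZMod.natCast_zmod_val, ZMod.natCast_zmod_val]
      have e : σ g = gaussSum χ (ψ.mulShift (i : ZMod l)) := by
        simp only [hg, gaussSum, map_sum, map_mul, hs, AddChar.mulShift_apply]
        refine Finset.sum_congr rfl fun a _ => ?_
        simp [χ, MulChar.ringHomComp_apply]
      exact e.trans ((gaussSum_mulShift_eq χ ψ (Units.mk0 _ hi0)).trans (by rw [hχ2.inv]))
    · intro e
      have hs : ∀ a, σ (ψ a) = ψ ((i : ZMod l) * a) := by
        intro a
        simp only [ψ, AddChar.zmodChar_apply]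
        rw [map_pow, ← hi, ← pow_mul]
        refine pow_eq_pow_of_modEq ?_ hζ.pow_eq_one
        rw [← ZMod.natCast_eq_natCast_iff]
        push_cast
        rw [ZMod.natCast_zmod_val, ZMod.natCast_zmod_val]
      have hqq : quadraticChar (ZMod l) (i : ZMod l) * quadraticChar (ZMod l) (i : ZMod l) = 1 := by
        rw [← pow_two]; exact quadraticChar_sq_one hi0
      simp only [P, map_prod, map_sub, hX', AlgEquiv.commutes, hs]
      refine Finset.prod_nbij' (fun a => (i : ZMod l) * a) (fun a => (i : ZMod l)⁻¹ * a) ?_ ?_ ?_ ?_ ?_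
      · intro a ha
        simp only [Finset.mem_filter, Finset.mem_univ, true_and, Finset.coe_filter, Set.mem_ofPred_eq] at ha ⊢
        rw [map_mul, ha, Units.val_mk0]
      · intro a ha
        simp only [Finset.mem_filter, Finset.mem_univ, true_and, Finset.coe_filter, Set.mem_ofPred_eq] at ha ⊢
        rw [Units.val_mk0] at ha
        have h2 : quadraticChar (ZMod l) ((i : ZMod l) * ((i : ZMod l)⁻¹ * a)) =
            quadraticChar (ZMod l) (i : ZMod l) * e := by rw [mul_inv_cancel_left₀ hi0]; exact ha
        rw [map_mul] at h2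
        exact mul_left_cancel₀ (fun h0 => by rw [h0, zero_mul] at hqq; exact zero_ne_one hqq) h2
      · intro a _; exact inv_mul_cancel_left₀ hi0 a
      · intro a _; exact mul_inv_cancel_left₀ hi0 a
      · intro a _; rfl
  have hP : P 1 * P (-1) * (X' - 1) = X' ^ l - 1 := by
    have e : (Polynomial.X : L[X]) ^ l - 1 = ∏ a : ZMod l, (Polynomial.X - C (ψ a)) := by
      rw [X_pow_sub_one_eq_prod hl.out.pos hζ]
      refine (Finset.prod_bij (fun a _ => ψ a) ?_ (fun a _ b _ h => hψinj h) ?_ (fun _ _ => rfl)).symm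
      · intro a _
        rw [Polynomial.mem_nthRootsFinset hl.out.pos, AddChar.zmodChar_apply, ← pow_mul, mul_comm, pow_mul,
          hζ.pow_eq_one, one_pow]
      · intro u hu
        rw [Polynomial.mem_nthRootsFinset hl.out.pos] at hu
        obtain ⟨i, hil, rfl⟩ := hζ.eq_pow_of_pow_eq_one hu
        exact ⟨(i : ZMod l), Finset.mem_univ _, AddChar.zmodChar_apply' _ i⟩
    have e' := congrArg (Polynomial.eval X') e
    simp only [eval_sub, eval_pow, eval_X, eval_one, eval_prod, eval_C] at e'
    rw [e', ← Finset.prod_erase_mul _ _ (Finset.mem_univ (0 : ZMod l)), AddChar.map_zero_eq_one]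
    congr 1
    rw [← Finset.prod_filter_mul_prod_filter_not (Finset.univ.erase (0 : ZMod l))
      (fun a => quadraticChar (ZMod l) a = 1)]
    simp only [P]
    congr 1 <;> refine Finset.prod_congr ?_ (fun _ _ => rfl) <;> ext a <;>
      simp only [Finset.mem_filter, Finset.mem_univ, true_and, Finset.mem_erase, and_true]
    · constructor
      · intro h
        refine ⟨?_, h⟩
        rintro rfl
        rw [quadraticChar_zero] at h
        exact zero_ne_one h
      · exact fun h => h.2
    · constructor
      · intro h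
        refine ⟨?_, fun h1 => by rw [h1] at h; norm_num at h⟩
        rintro rfl
        rw [quadraticChar_zero] at h
        norm_num at h
      · rintro ⟨h0, h1⟩
        exact (quadraticChar_dichotomy h0).resolve_left h1
  have hfix : ∀ σ : L ≃ₐ[K] L,
      σ ((P 1 + P (-1)) / 2) = (P 1 + P (-1)) / 2 ∧
        σ ((P 1 - P (-1)) / (2 * g)) = (P 1 - P (-1)) / (2 * g) := by
    intro σ
    obtain ⟨b, hb1, hb2⟩ := hσ σ
    simp only [map_div₀, map_add, map_sub, map_mul, map_ofNat, hb2, hb1, χ, MulChar.ringHomComp_apply]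
    rcases quadraticChar_dichotomy b.ne_zero with e | e <;> rw [e]
    · simp
    · simp only [mul_one, mul_neg, neg_neg, eq_intCast, Int.cast_neg, Int.cast_one, neg_one_mul]
      exact ⟨by rw [add_comm], by rw [div_neg, ← neg_div, neg_sub]⟩
  obtain ⟨A, hA⟩ := (IsGalois.mem_range_algebraMap_iff_fixed _).mpr fun σ => (hfix σ).1
  obtain ⟨B, hB⟩ := (IsGalois.mem_range_algebraMap_iff_fixed _).mpr fun σ => (hfix σ).2
  refine ⟨A, B, x ^ h, pow_ne_zero _ (fun e => by rw [e, zero_pow (by omega)] at hx; exact zero_ne_one hx),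
    (algebraMap K L).injective ?_⟩
  have hxl : x ^ l * x = 1 := by
    obtain ⟨c, hc⟩ := hlr
    rw [← pow_succ, hc, pow_mul, hx, one_pow]
  have hy : x ^ h * x ^ h * x = 1 := by
    rw [← hx, ← pow_add, ← pow_succ]; congr 1; omega
  have hxl' : x ^ l = x ^ h * x ^ h := by
    have hx0 : x ≠ 0 := fun e => by rw [e, mul_zero] at hy; exact zero_ne_one hy
    exact mul_right_cancel₀ hx0 (hxl.trans hy.symm)
  have hX1 : X' - 1 ≠ 0 := sub_ne_zero.mpr fun e =>
    hx1 ((algebraMap K L).injective (e.trans (map_one _).symm))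
  simp only [map_add, map_mul, map_natCast, map_neg, map_pow, hA]
  have hBB : algebraMap K L (B * B) * (l : L) = -((P 1 - P (-1)) / 2) ^ 2 := by
    rw [map_mul, hB, show (l : L) = -(g * g) by rw [hg2, neg_neg]]
    rw [div_mul_div_comm, div_mul_eq_mul_div, div_pow, ← neg_div, div_eq_div_iff (by simp [hg0]) (by norm_num)]
    ring
  apply mul_right_cancel₀ hX1
  have hXh : X' ^ h * X' ^ h * X' = 1 := by
    have := congrArg (algebraMap K L) hy
    simpa [map_mul, map_pow] using this
  have hXl : X' ^ l = X' ^ h * X' ^ h := by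
    have := congrArg (algebraMap K L) hxl'
    simpa [map_mul, map_pow] using this
  rw [map_mul] at hBB
  linear_combination hP + (X' - 1) * hBB + hXl + hXh

end Cfsg.Agent.Zassenhaus
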