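import Mathlib

/-!
Certain rational primes are sums of two squares in the ring generated by the golden ratio.
-/

set_option autoImplicit false

namespace Cfsg.Agent.Zassenhaus

open scoped QuadraticAlgebra

/-- the ring generated by the golden ratio -/
abbrev Zp := QuadraticAlgebra ℤ 1 1

/-- the trace -/
def tr' (x : Zp) : ℤ := 2 * x.re + x.im

/-- the sum of squares of a pair -/
def nsq (z : Zp × Zp) : Zp := z.1 * z.1 + z.2 * z.2

/-- product of Gaussian pairs -/
def gm (q z : Zp × Zp) : Zp × Zp := (q.1 * z.1 - q.2 * z.2, q.1 * z.2 + q.2 * z.1)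

theorem nsq_gm (q z : Zp × Zp) : nsq (gm q z) = nsq q * nsq z := by
  simp only [nsq, gm]; ring

theorem norm_eq (x : Zp) : QuadraticAlgebra.norm x = x.re * x.re + x.re * x.im - x.im * x.im := by
  rw [QuadraticAlgebra.norm_def]; ring

theorem four_norm (x : Zp) : 4 * QuadraticAlgebra.norm x = tr' x * tr' x - 5 * (x.im * x.im) := by
  rw [norm_eq, tr']; ring

theorem int_sq_eq_five {x y : ℤ} (h : x * x = 5 * (y * y)) : y = 0 := by
  by_contra hy
  have h5 : IsSquare ((5 : ℕ) : ℚ) := by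
    refine ⟨(x : ℚ) / y, ?_⟩
    have hy' : (y : ℚ) ≠ 0 := by exact_mod_cast hy
    have h' : (x : ℚ) * x = 5 * (y * y) := by exact_mod_cast h
    rw [div_mul_div_comm, h', Nat.cast_ofNat, mul_div_assoc, div_self (mul_ne_zero hy' hy'), mul_one]
  rw [Rat.isSquare_natCast_iff] at h5
  exact (by norm_num : Nat.Prime 5).not_isSquare h5

theorem norm_eq_zero {x : Zp} (h : QuadraticAlgebra.norm x = 0) : x = 0 := by
  have h4 := four_norm x
  rw [h, mul_zero] at h4
  have hy := int_sq_eq_five (sub_eq_zero.mp h4.symm)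
  have hx : x.re = 0 := by
    rw [norm_eq, hy] at h
    simpa using h
  ext <;> simp [hx, hy]

theorem norm_nsq_nonneg (z : Zp × Zp) : 0 ≤ QuadraticAlgebra.norm (nsq z) := by
  obtain ⟨⟨a, b⟩, ⟨c, d⟩⟩ := z
  have e : QuadraticAlgebra.norm (nsq (⟨a, b⟩, ⟨c, d⟩)) =
      ((a * a + a * b - b * b) - (c * c + c * d - d * d)) ^ 2
        + (2 * a * c + a * d + b * c - 2 * b * d) ^ 2 := by
    simp only [nsq, norm_eq, QuadraticAlgebra.re_add, QuadraticAlgebra.im_add,
      QuadraticAlgebra.re_mul, QuadraticAlgebra.im_mul]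
    ring
  rw [e]; positivity

theorem tr_nsq (z : Zp × Zp) : 2 * tr' (nsq z) =
    (2 * z.1.re + z.1.im) ^ 2 + 5 * z.1.im ^ 2 + ((2 * z.2.re + z.2.im) ^ 2 + 5 * z.2.im ^ 2) := by
  obtain ⟨⟨a, b⟩, ⟨c, d⟩⟩ := z
  simp only [tr', nsq, QuadraticAlgebra.re_add, QuadraticAlgebra.im_add,
    QuadraticAlgebra.re_mul, QuadraticAlgebra.im_mul]
  ring

theorem tr_nsq_nonneg (z : Zp × Zp) : 0 ≤ tr' (nsq z) := by
  have h := tr_nsq z
  nlinarith [sq_nonneg (2 * z.1.re + z.1.im), sq_nonneg z.1.im, sq_nonneg (2 * z.2.re + z.2.im),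
    sq_nonneg z.2.im]

theorem nsq_eq_zero {z : Zp × Zp} (h : nsq z = 0) : z = 0 := by
  have e := tr_nsq z
  rw [h] at e
  simp [tr'] at e
  have h1 := sq_nonneg (2 * z.1.re + z.1.im)
  have h2 := sq_nonneg z.1.im
  have h3 := sq_nonneg (2 * z.2.re + z.2.im)
  have h4 := sq_nonneg z.2.im
  have a2 : z.1.im = 0 := pow_eq_zero_iff (two_ne_zero) |>.mp (by linarith)
  have b2 : z.2.im = 0 := pow_eq_zero_iff (two_ne_zero) |>.mp (by linarith)
  have a1 : 2 * z.1.re + z.1.im = 0 := pow_eq_zero_iff (two_ne_zero) |>.mp (by linarith)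
  have b1 : 2 * z.2.re + z.2.im = 0 := pow_eq_zero_iff (two_ne_zero) |>.mp (by linarith)
  ext <;> simp <;> omega

/-- rounding in the hexagonal-type lattice of the golden ratio -/
theorem round_lemma (A B n : ℤ) (hn : 0 < n) :
    ∃ u v : ℤ, 5 * ((2 * (A - n * u) + (B - n * v)) ^ 2 + 5 * (B - n * v) ^ 2) ≤ 9 * n ^ 2 := by
  obtain ⟨v, hv1, hv2⟩ : ∃ v : ℤ, -n ≤ 2 * (B - n * v) ∧ 2 * (B - n * v) ≤ n := by
    refine ⟨(2 * B + n) / (2 * n), ?_, ?_⟩ <;>
      nlinarith [Int.mul_ediv_add_emod (2 * B + n) (2 * n), Int.emod_nonneg (2 * B + n) (by omega : (2 * n) ≠ 0),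
        Int.emod_lt_of_pos (2 * B + n) (by omega : 0 < 2 * n)]
  set f := B - n * v with hf
  obtain ⟨u, hu1, hu2⟩ : ∃ u : ℤ, -n ≤ 2 * (A - n * u) + f ∧ 2 * (A - n * u) + f ≤ n := by
    refine ⟨(2 * A + f + n) / (2 * n), ?_, ?_⟩ <;>
      nlinarith [Int.mul_ediv_add_emod (2 * A + f + n) (2 * n),
        Int.emod_nonneg (2 * A + f + n) (by omega : (2 * n) ≠ 0),
        Int.emod_lt_of_pos (2 * A + f + n) (by omega : 0 < 2 * n)]
  set p := 2 * (A - n * u) + f with hp
  by_cases h0 : 5 * (p ^ 2 + 5 * f ^ 2) ≤ 9 * n ^ 2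
  · exact ⟨u, v, h0⟩
  have key : ∀ P F : ℤ, 0 ≤ P → P ≤ n → 0 ≤ F → 2 * F ≤ n → 9 * n ^ 2 < 5 * (P ^ 2 + 5 * F ^ 2) →
      5 * ((n - P) ^ 2 + 5 * (n - F) ^ 2) ≤ 9 * n ^ 2 := by
    intro P F hP hPn hF hFn h
    nlinarith [mul_nonneg hP (sub_nonneg.mpr hPn), mul_nonneg hF (sub_nonneg.mpr hFn),
      mul_nonneg (sub_nonneg.mpr hPn) (sub_nonneg.mpr hFn), mul_nonneg hP hF]
  rcases le_total 0 p with sp | sp <;> rcases le_total 0 f with sf | sf
  · refine ⟨u, v + 1, le_of_eq_of_le ?_ (key p f sp hu2 sf hv2 (not_le.mp h0))⟩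
    rw [hp, hf]; ring
  · refine ⟨u + 1, v - 1, le_of_eq_of_le ?_ (key p (-f) sp hu2 (by linarith) (by linarith)
      (by rw [neg_sq]; exact not_le.mp h0))⟩
    rw [hp, hf]; ring
  · refine ⟨u - 1, v + 1, le_of_eq_of_le ?_ (key (-p) f (by linarith) (by linarith) sf hv2
      (by rw [neg_sq]; exact not_le.mp h0))⟩
    rw [hp, hf]; ring
  · refine ⟨u, v - 1, le_of_eq_of_le ?_ (key (-p) (-f) (by linarith) (by linarith) (by linarith)
      (by linarith) (by rw [neg_sq, neg_sq]; exact not_le.mp h0))⟩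
    rw [hp, hf]; ring

/-- division with remainder in the Gaussian extension -/
theorem gauss_euclid (z π : Zp × Zp) (hπ : π ≠ 0) : ∃ q : Zp × Zp,
    QuadraticAlgebra.norm (nsq (z - gm q π)) < QuadraticAlgebra.norm (nsq π) := by
  set m := nsq π with hm
  set n := QuadraticAlgebra.norm m with hn
  have hn0 : 0 < n := lt_of_le_of_ne (norm_nsq_nonneg π)
    (fun e => hπ (nsq_eq_zero (norm_eq_zero e.symm)))
  set w := gm z (π.1, -π.2) with hw
  obtain ⟨u1, v1, h1⟩ := round_lemma (w.1 * star m).re (w.1 * star m).im n hn0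
  obtain ⟨u2, v2, h2⟩ := round_lemma (w.2 * star m).re (w.2 * star m).im n hn0
  refine ⟨(⟨u1, v1⟩, ⟨u2, v2⟩), ?_⟩
  set q : Zp × Zp := (⟨u1, v1⟩, ⟨u2, v2⟩) with hq
  set e : Zp × Zp := (w.1 * star m - (n : Zp) * q.1, w.2 * star m - (n : Zp) * q.2) with he
  have hmm : (n : Zp) = m * star m := by
    rw [hn, ← QuadraticAlgebra.algebraMap_norm_eq_mul_star, eq_intCast]
  have hE : nsq e = nsq (z - gm q π) * m * (star m * star m) := by
    simp only [he, hw, hmm, hm, nsq, gm, Prod.fst_sub, Prod.snd_sub]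
    ring
  have hN := congrArg QuadraticAlgebra.norm hE
  rw [map_mul, map_mul, map_mul, QuadraticAlgebra.norm_star, ← hn] at hN
  have hT : 5 * (2 * tr' (nsq e)) ≤ 18 * n ^ 2 := by
    rw [tr_nsq, he, hq]
    simp only [QuadraticAlgebra.re_sub, QuadraticAlgebra.im_sub, QuadraticAlgebra.re_mul,
      QuadraticAlgebra.im_mul, QuadraticAlgebra.re_intCast, QuadraticAlgebra.im_intCast, Int.cast_id, Int.cast_eq, one_mul, zero_mul,
      mul_zero, add_zero] at *
    linarith
  have h4 := four_norm (nsq e)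
  have hT0 := tr_nsq_nonneg e
  have hlt : QuadraticAlgebra.norm (nsq e) < n ^ 4 := by
    nlinarith [sq_nonneg (nsq e).im, mul_le_mul (show 5 * tr' (nsq e) ≤ 9 * n ^ 2 by linarith)
      (show 5 * tr' (nsq e) ≤ 9 * n ^ 2 by linarith) (by linarith) (by positivity), pow_pos hn0 4]
  rw [hN] at hlt
  by_contra hge
  have := mul_le_mul_of_nonneg_right (not_lt.mp hge) (by positivity : (0 : ℤ) ≤ n ^ 3)
  nlinarith

theorem zmod5_aux : ∀ y : ZMod 5, (4 : ZMod 5) * 2 ≠ y * y := by decide +kernel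

theorem zmod5_aux' : ¬ IsSquare ((2 : ℕ) : ZMod 5) := by decide +kernel

/-- a prime which is a sum of two squares in the ring of the golden ratio -/
theorem exists_two_squares {l : ℕ} (hl : l.Prime) (h4 : l % 4 = 3) (h5 : l % 5 = 2) :
    ∃ a b : Zp, a * a + b * b = (l : Zp) := by
  classical
  haveI := Fact.mk hl
  haveI : Fact (Nat.Prime 5) := ⟨by norm_num⟩
  have hl2 : l ≠ 2 := by rintro rfl; omega
  have hl5 : l ≠ 5 := by rintro rfl; omega
  -- a square root of minus one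
  obtain ⟨s, hs⟩ : ∃ s : Zp, (l : Zp) ∣ s * s + 1 := by
    have hm5 : IsSquare (-5 : ZMod l) := by
      have h5ns : ¬ IsSquare (5 : ZMod l) := by
        have := ZMod.exists_sq_eq_prime_iff_of_mod_four_eq_one (p := 5) (q := l) (by norm_num) hl2
        rw [show ((5 : ℕ) : ZMod l) = 5 from Nat.cast_ofNat] at this
        rw [← this, ← ZMod.natCast_mod, h5]
        exact zmod5_aux'
      have hm1 : ¬ IsSquare (-1 : ZMod l) := fun h => ZMod.exists_sq_eq_neg_one_iff.mp h h4
      have h5z : (5 : ZMod l) ≠ 0 := by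
        intro h
        rw [show (5 : ZMod l) = ((5 : ℕ) : ZMod l) from Nat.cast_ofNat.symm,
          ZMod.natCast_eq_zero_iff] at h
        exact hl5 ((Nat.prime_dvd_prime_iff_eq hl (by norm_num)).mp h)
      have hF : ringChar (ZMod l) ≠ 2 := by rwa [ZMod.ringChar_zmod_n]
      rw [← quadraticChar_one_iff_isSquare (neg_ne_zero.mpr h5z), neg_eq_neg_one_mul, map_mul,
        quadraticChar_neg_one_iff_not_isSquare.mpr hm1, quadraticChar_neg_one_iff_not_isSquare.mpr h5ns]
      norm_num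
    obtain ⟨d, hd⟩ := hm5
    set e : ZMod l := d * (5 : ZMod l)⁻¹ with hedef
    have h5z : (5 : ZMod l) ≠ 0 := by
      intro h
      rw [show (5 : ZMod l) = ((5 : ℕ) : ZMod l) from Nat.cast_ofNat.symm,
        ZMod.natCast_eq_zero_iff] at h
      exact hl5 ((Nat.prime_dvd_prime_iff_eq hl (by norm_num)).mp h)
    have he : (((e.val : ℤ) * e.val * 5 + 1 : ℤ) : ZMod l) = 0 := by
      push_cast
      rw [ZMod.natCast_zmod_val, hedef]
      field_simp
      linear_combination -hd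
    obtain ⟨c, hc⟩ := (ZMod.intCast_zmod_eq_zero_iff_dvd _ _).mp he
    refine ⟨⟨-(e.val : ℤ), 2 * e.val⟩, ⟨c, 0⟩, ?_⟩
    ext <;> simp [-ZMod.natCast_val] <;> first | linear_combination hc | ring
  -- the ideal
  let mem : Zp × Zp → Prop := fun z => (l : Zp) ∣ z.1 - s * z.2
  have mem_gm : ∀ q z, mem z → mem (gm q z) := by
    rintro ⟨c, d⟩ ⟨a, b⟩ ⟨k, hk⟩
    obtain ⟨j, hj⟩ := hs
    exact ⟨c * k - d * (b * j + s * k), by
      simp only [gm] at hk ⊢
      linear_combination (c - d * s) * hk - d * b * hj⟩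
  have mem_sub : ∀ y z, mem y → mem z → mem (y - z) := by
    rintro y z hy hz
    show (l : Zp) ∣ (y - z).1 - s * (y - z).2
    rw [show (y - z).1 - s * (y - z).2 = (y.1 - s * y.2) - (z.1 - s * z.2) by
      simp only [Prod.fst_sub, Prod.snd_sub]; ring]
    exact dvd_sub hy hz
  have hl0 : (l : Zp) ≠ 0 := fun e => hl.ne_zero (by
    have := congrArg QuadraticAlgebra.re e
    simpa using this)
  have ex : ∃ k : ℕ, ∃ z, mem z ∧ z ≠ 0 ∧ (QuadraticAlgebra.norm (nsq z)).toNat = k :=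
    ⟨_, ((l : Zp), 0), by simp [mem], by simp [hl0], rfl⟩
  have ex' : ∃ k : ℕ, ∃ z, mem z ∧ z ≠ 0 ∧ (QuadraticAlgebra.norm (nsq z)).toNat = Nat.find ex ∧
      (tr' (nsq z)).toNat = k := by
    obtain ⟨z, h1, h2, h3⟩ := Nat.find_spec ex
    exact ⟨_, z, h1, h2, h3, rfl⟩
  obtain ⟨π, hπ, hπ0, hπN, hπT⟩ := Nat.find_spec ex'
  have hdiv : ∀ z, mem z → ∃ q, z = gm q π := by
    intro z hz
    obtain ⟨q, hq⟩ := gauss_euclid z π hπ0
    refine ⟨q, sub_eq_zero.mp (by_contra fun hne => ?_)⟩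
    have := Nat.find_min' ex ⟨_, mem_sub _ _ hz (mem_gm q π hπ), hne, rfl⟩
    rw [← hπN] at this
    have h1 := norm_nsq_nonneg (z - gm q π)
    omega
  obtain ⟨q, hq⟩ := hdiv ((l : Zp), 0) (by simp [mem])
  obtain ⟨q', hq'⟩ := hdiv (s, 1) (by simp [mem])
  obtain ⟨t, ht⟩ : (l : Zp) ∣ nsq π := by
    obtain ⟨k, hk⟩ := hπ
    obtain ⟨j, hj⟩ := hs
    exact ⟨k * (π.1 + s * π.2) + π.2 * π.2 * j, by
      simp only [nsq] at hk ⊢
      linear_combination (π.1 + s * π.2) * hk + π.2 * π.2 * hj⟩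
  have hqt : (l : Zp) * l = (l : Zp) * (nsq q * t) := by
    have := congrArg nsq hq
    rw [nsq_gm, ht] at this
    simp only [nsq] at this ⊢
    linear_combination this
  have hqt' : nsq q * t = (l : Zp) := (mul_left_cancel₀' hqt).symm
  have hl2N : QuadraticAlgebra.norm (nsq q) * QuadraticAlgebra.norm t = (l : ℤ) ^ 2 := by
    rw [← map_mul, hqt', QuadraticAlgebra.norm_natCast]
  have hq0 := norm_nsq_nonneg q
  have noinert : ∀ x : Zp, QuadraticAlgebra.norm x ≠ (l : ℤ) := by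
    intro x hx
    have h4n := four_norm x
    rw [hx] at h4n
    have := congrArg (Int.cast : ℤ → ZMod 5) h4n
    push_cast at this
    rw [show (5 : ZMod 5) = 0 from rfl, zero_mul, sub_zero, ← ZMod.natCast_mod, h5, Nat.cast_ofNat] at this
    exact zmod5_aux _ this
  obtain ⟨i, hi2, hi⟩ := (Nat.dvd_prime_pow hl).mp (show (QuadraticAlgebra.norm (nsq q)).toNat ∣ l ^ 2 by
    have h := Dvd.intro _ hl2N
    rw [← Int.toNat_of_nonneg hq0] at h
    exact_mod_cast h)
  have hiN : QuadraticAlgebra.norm (nsq q) = ((l ^ i : ℕ) : ℤ) := by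
    rw [← hi, Int.toNat_of_nonneg hq0]
  have htN : QuadraticAlgebra.norm t = 1 := by
    interval_cases i
    · exfalso
      rw [pow_zero, Nat.cast_one] at hiN
      -- then `q` is invertible and `(s, 1)` would be divisible by `l`
      have hinv : nsq q * star (nsq q) = 1 := by
        rw [← QuadraticAlgebra.algebraMap_norm_eq_mul_star, hiN, map_one]
      set u := star (nsq q) with hu
      have e1 : gm (q.1 * u, -q.2 * u) ((l : Zp), 0) = π := by
        rw [hq]
        have h1 : (q.1 * q.1 + q.2 * q.2) * u = 1 := hinv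
        refine Prod.ext ?_ ?_ <;> simp only [gm] <;>
          [linear_combination π.1 * h1; linear_combination π.2 * h1]
      have e2 := congrArg Prod.snd hq'
      rw [← e1] at e2
      simp only [gm, mul_zero, zero_add, sub_zero] at e2
      have e3 := congrArg (fun x : Zp => (l : ℤ) ∣ x.re) e2
      simp [QuadraticAlgebra.re_mul, mul_comm, mul_assoc, mul_left_comm] at e3
      have : (l : ℤ) ∣ 1 := by
        have hd : (l : Zp) ∣ 1 := ⟨_, e2.trans (by ring : _ = (l : Zp) * (q'.1 * (-q.2 * u) + q'.2 * (q.1 * u)))⟩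
        obtain ⟨w, hw⟩ := hd
        refine ⟨w.re, ?_⟩
        have := congrArg QuadraticAlgebra.re hw
        simpa using this
      exact hl.one_lt.ne' (by exact_mod_cast Int.eq_one_of_dvd_one (by positivity) this)
    · exfalso
      rw [pow_one] at hiN
      exact noinert _ hiN
    · rw [hiN] at hl2N
      have : ((l : ℤ) ^ 2) * QuadraticAlgebra.norm t = (l : ℤ) ^ 2 * 1 := by
        push_cast at hl2N; linarith
      exact mul_left_cancel₀ (pow_ne_zero 2 (by exact_mod_cast hl.ne_zero)) this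
  -- reduce the unit
  have hmin : ∀ z, mem z → z ≠ 0 → QuadraticAlgebra.norm (nsq z) = QuadraticAlgebra.norm (nsq π) →
      tr' (nsq π) ≤ tr' (nsq z) := by
    intro z h1 h2 h3
    have := Nat.find_min' ex' ⟨z, h1, h2, by rw [h3]; exact hπN, rfl⟩
    rw [← hπT] at this
    have := tr_nsq_nonneg z
    have := tr_nsq_nonneg π
    omega
  have shift : ∀ c : Zp, QuadraticAlgebra.norm c * QuadraticAlgebra.norm c = 1 →
      tr' ((l : Zp) * t) ≤ tr' (c * c * ((l : Zp) * t)) := by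
    intro c hc
    have e : nsq (gm (c, 0) π) = c * c * nsq π := by rw [nsq_gm]; simp [nsq]
    have := hmin (gm (c, 0) π) (mem_gm _ _ hπ) (fun h => hπ0 (nsq_eq_zero (norm_eq_zero (by
      have h' := congrArg QuadraticAlgebra.norm e
      rw [h] at h'
      simp only [map_mul, hc, one_mul] at h'
      rw [← h']; simp [nsq])))) (by rw [e, map_mul, map_mul, hc, one_mul])
    rwa [e, ht] at this
  have hs1 := shift ⟨0, 1⟩ (by simp [norm_eq])
  have hs2 := shift ⟨1, -1⟩ (by simp [norm_eq])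
  have hpos := tr_nsq_nonneg π
  rw [ht] at hpos
  simp [tr', QuadraticAlgebra.re_mul, QuadraticAlgebra.im_mul] at hs1 hs2 hpos
  rw [norm_eq] at htN
  have hlpos : (0 : ℤ) < l := by exact_mod_cast hl.pos
  have b1 : 0 ≤ t.re + 3 * t.im := by nlinarith
  have b2 : 0 ≤ t.re - 2 * t.im := by nlinarith
  have b3 : 0 ≤ 2 * t.re + t.im := by nlinarith
  have him : t.im = 0 := by
    by_contra hne
    rcases lt_or_gt_of_ne hne with hlt | hgt
    · nlinarith
    · nlinarith
  have hre : t.re = 1 := by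
    rw [him] at htN b3
    nlinarith
  refine ⟨π.1, π.2, ?_⟩
  rw [show π.1 * π.1 + π.2 * π.2 = nsq π from rfl, ht,
    show t = 1 from QuadraticAlgebra.ext (by simp [hre]) (by simp [him]), mul_one]
where
  mul_left_cancel₀' {l : ℕ} {x y : Zp} [hl : Fact l.Prime] (h : (l : Zp) * x = (l : Zp) * y) : x = y := by
    have hl0 : (l : ℤ) ≠ 0 := by exact_mod_cast hl.out.ne_zero
    have h1 := congrArg QuadraticAlgebra.re h
    have h2 := congrArg QuadraticAlgebra.im h
    simp [QuadraticAlgebra.re_mul, QuadraticAlgebra.im_mul] at h1 h2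
    exact QuadraticAlgebra.ext (h1.resolve_right (by exact_mod_cast hl.out.ne_zero))
      (h2.resolve_right (by exact_mod_cast hl.out.ne_zero))

end Cfsg.Agent.Zassenhaus
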