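import Cfsg.Agent.Lib.Zassenhaus.DivRing
import Cfsg.Agent.Lib.Zassenhaus.TwoSquares
import Cfsg.Agent.Lib.Zassenhaus.GaussNorm
import Mathlib.RingTheory.LittleWedderburn
import Mathlib.NumberTheory.LSeries.PrimesInAP

/-!
Nonsolvable finite multiplicative subgroups of division rings are binary icosahedral.
-/

set_option autoImplicit false

namespace Cfsg.Agent.Zassenhaus

open Subgroup
open scoped QuadraticAlgebra

/-- entries of minus one -/
def zE : ZMod 5 × ZMod 5 × ZMod 5 × ZMod 5 := (4, 0, 0, 4)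

theorem table_five : ePow (eMul (entries (stepX 0)) (entries (stepY 0))) 5 = zE ∧
    ePow zE 2 = (1, 0, 0, 1) ∧ zE ≠ (1, 0, 0, 1) ∧
    eMul (entries (stepX 0)) (entries (stepY 0)) ≠ zE := by
  decide +kernel

theorem table_quat : ((List.finRange 120).any fun a => (List.finRange 120).any fun b =>
    decide (ePow (entries a) 2 = zE ∧ ePow (entries b) 2 = zE ∧
      eMul (entries b) (entries a) = eMul zE (eMul (entries a) (entries b)))) = true := by
  decide +kernel

set_option maxHeartbeats 4000000 in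
theorem table_outer : (listPairs.all fun p => (List.finRange 120).any fun n =>
    decide (eMul (entries n) (entries (stepX 0)) = eMul (entries p.1) (entries n) ∧
      eMul (entries n) (entries (stepY 0)) = eMul (entries p.2) (entries n)) ||
    decide (eMul (entries n) (ePow (eMul (entries (stepX 0)) (entries (stepY 0))) 3) =
      eMul (eMul (entries p.1) (entries p.2)) (entries n))) = true := by
  decide +kernel

theorem exists_quat : ∃ a b z : SL25, z ≠ 1 ∧ z ^ 2 = 1 ∧ (genA * genB) ^ 5 = z ∧ genA * genB ≠ z ∧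
    a * a = z ∧ b * b = z ∧ b * a = z * (a * b) := by
  obtain ⟨h5, hz2, hz1, hw⟩ := table_five
  have h := table_quat
  simp only [List.any_eq_true, decide_eq_true_eq] at h
  obtain ⟨a, -, b, -, ha, hb, hab⟩ := h
  refine ⟨matOf a, matOf b, (genA * genB) ^ 5, ?_, ?_, rfl, ?_, ?_, ?_, ?_⟩
  · rw [ne_eq, eq_one_iff_ent, ent_pow, ent_mul, genA, genB, ent_matOf, ent_matOf, h5]
    exact hz1
  · rw [eq_one_iff_ent, ent_pow, ent_pow, ent_mul, genA, genB, ent_matOf, ent_matOf, h5]
    exact hz2
  · intro e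
    have := congrArg ent e
    rw [ent_pow, ent_mul, genA, genB, ent_matOf, ent_matOf, h5] at this
    exact hw this
  · refine ent_injective ?_
    rw [← pow_two, ent_pow, ent_pow, ent_mul, genA, genB]
    simp only [ent_matOf]
    rw [h5, ha]
  · refine ent_injective ?_
    rw [← pow_two, ent_pow, ent_pow, ent_mul, genA, genB]
    simp only [ent_matOf]
    rw [h5, hb]
  · refine ent_injective ?_
    simp only [ent_mul, ent_pow, genA, genB, ent_matOf]
    rw [h5, hab]

theorem pair_cases {p : SL25 × SL25} (hp : IsPair p) : ∃ n : SL25,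
    (n * genA = p.1 * n ∧ n * genB = p.2 * n) ∨ n * (genA * genB) ^ 3 = p.1 * p.2 * n := by
  obtain ⟨M, N⟩ := p
  obtain ⟨m, rfl⟩ := matOf_bijective.2 M
  obtain ⟨m', rfl⟩ := matOf_bijective.2 N
  obtain ⟨hm, hm', h1, h10⟩ := hp
  simp only [ne_eq, eq_one_iff_ent, ent_pow, ent_mul, ent_matOf] at h1 h10
  have hmem : (m, m') ∈ listPairs := List.mem_filter.mpr
    ⟨List.mem_product.mpr ⟨(mem_list3 m).mpr hm, (mem_list3 m').mpr hm'⟩, by simp [h1, h10]⟩
  have h := List.all_eq_true.mp table_outer _ hmem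
  simp only [List.any_eq_true, Bool.or_eq_true, decide_eq_true_eq] at h
  obtain ⟨n, -, ⟨e1, e2⟩ | e⟩ := h
  · refine ⟨matOf n, Or.inl ⟨ent_injective ?_, ent_injective ?_⟩⟩
    · simpa only [ent_mul, genA, ent_matOf] using e1
    · simpa only [ent_mul, genB, ent_matOf] using e2
  · refine ⟨matOf n, Or.inr (ent_injective ?_)⟩
    simpa only [ent_mul, ent_pow, genA, genB, ent_matOf] using e

/-- no four squares vanish with a nonzero first entry, in a domain with anticommuting roots of minus one -/
theorem quat_norm_ne_zero {R : Type*} [Ring R] [IsDomain R] [CharZero R] {I J a b c d : R}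
    (hI : I * I = -1) (hJ : J * J = -1) (hJI : J * I = -(I * J))
    (hab : Commute a b) (hac : Commute a c) (had : Commute a d) (hbc : Commute b c)
    (hbd : Commute b d) (hcd : Commute c d) (haI : Commute a I) (hbI : Commute b I)
    (hcI : Commute c I) (hdI : Commute d I) (haJ : Commute a J) (hbJ : Commute b J)
    (hcJ : Commute c J) (hdJ : Commute d J) (ha : a ≠ 0) :
    a * a + b * b + c * c + d * d ≠ 0 := by
  intro h0
  have key : ∀ b c d : R, Commute b I → Commute c I → Commute d I → Commute b J → Commute c J →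
      Commute d J → a + I * b + J * c + I * J * d ≠ 0 := by
    intro b c d hbI hcI hdI hbJ hcJ hdJ e
    have hII : ∀ z : R, I * (I * z) = -z := fun z => by rw [← mul_assoc, hI, neg_one_mul]
    have hJJ : ∀ z : R, J * (J * z) = -z := fun z => by rw [← mul_assoc, hJ, neg_one_mul]
    have hJIz : ∀ z : R, J * (I * z) = -(I * (J * z)) := fun z => by
      rw [← mul_assoc, hJI, neg_mul, mul_assoc]
    have e1 : I * (a + I * b + J * c + I * J * d) * I = -a - I * b + J * c + I * J * d := by
      simp only [mul_add, add_mul, mul_assoc, haI.eq, hbI.eq, hcI.eq, hdI.eq, hII, hJJ, hJIz, hI,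
        mul_neg, neg_mul, neg_neg, mul_one]
      abel
    rw [e, mul_zero, zero_mul] at e1
    have h2 : (2 : R) * (a + I * b) = 0 := by
      linear_combination (norm := (noncomm_ring <;> abel)) e + e1
    have e2 : J * (a + I * b) * J = -a + I * b := by
      simp only [mul_add, add_mul, mul_assoc, haJ.eq, hbJ.eq, hII, hJJ, hJIz, hJ, mul_neg, neg_mul,
        neg_neg, mul_one]
    have hab0 : a + I * b = 0 := (mul_eq_zero.mp h2).resolve_left two_ne_zero
    rw [hab0, mul_zero, zero_mul] at e2
    have h4 : (2 : R) * a = 0 := by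
      linear_combination (norm := (noncomm_ring <;> abel)) hab0 + e2
    exact ha ((mul_eq_zero.mp h4).resolve_left two_ne_zero)
  have hII : ∀ z : R, I * (I * z) = -z := fun z => by rw [← mul_assoc, hI, neg_one_mul]
  have hJJ : ∀ z : R, J * (J * z) = -z := fun z => by rw [← mul_assoc, hJ, neg_one_mul]
  have hJIz : ∀ z : R, J * (I * z) = -(I * (J * z)) := fun z => by
    rw [← mul_assoc, hJI, neg_mul, mul_assoc]
  have sw : ∀ {u v : R}, Commute u v → ∀ z : R, u * (v * z) = v * (u * z) := fun huv z => by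
    rw [← mul_assoc, huv.eq, mul_assoc]
  have e : (a + I * b + J * c + I * J * d) * (a + I * (-b) + J * (-c) + I * J * (-d)) =
      a * a + b * b + c * c + d * d := by
    simp only [mul_add, add_mul, mul_neg, mul_assoc, sw haI, sw hbI, sw hcI, sw hdI, sw haJ, sw hbJ,
      sw hcJ, sw hdJ, hII, hJJ, hJIz, neg_neg, hab.eq, hac.eq, had.eq, hbc.eq, hbd.eq, hcd.eq]
    abel
  rw [h0] at e
  rcases mul_eq_zero.mp e with e | e
  · exact key b c d hbI hcI hdI hbJ hcJ hdJ e
  · exact key (-b) (-c) (-d) hbI.neg_left hcI.neg_left hdI.neg_left hbJ.neg_left hcJ.neg_left hdJ.neg_left e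

section

variable {H : Type*} [Group H] [Finite H] {D : Type*} [DivisionRing D] (f : H →* D)
  (hf : Function.Injective f)
include hf

theorem isFpf_of_domain : IsFpf f := fun g hg =>
  (sub_ne_zero.mpr fun e => hg (hf (e.trans (map_one f).symm))).isUnit

theorem solvable_of_charP (p : ℕ) [hp : Fact p.Prime] [CharP D p] : Group.IsSolvable H := by
  let L := Submodule.span ℤ (Set.range f)
  haveI : Module.Finite ℤ L := Module.Finite.span_of_finite ℤ (Set.finite_range f)
  haveI : Finite L := Module.finite_of_fg_torsion L (by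
    intro v
    refine ⟨⟨(p : ℤ), mem_nonZeroDivisors_of_ne_zero (by exact_mod_cast hp.out.ne_zero)⟩, ?_⟩
    refine Subtype.ext ?_
    show (p : ℤ) • (v : D) = 0
    rw [zsmul_eq_mul, Int.cast_natCast, CharP.cast_eq_zero, zero_mul])
  let S : Subring D :=
    { carrier := (L : Set D)
      mul_mem' := fun {u v} hu hv => by
        induction hu using Submodule.span_induction with
        | mem x hx => obtain ⟨g, rfl⟩ := hx; exact span_stable f g hv
        | zero => rw [zero_mul]; exact zero_mem L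
        | add x y _ _ hx hy => rw [add_mul]; exact add_mem hx hy
        | smul c x _ hx => rw [smul_mul_assoc]; exact L.smul_mem c hx
      one_mem' := Submodule.subset_span ⟨1, map_one f⟩
      add_mem' := fun hu hv => add_mem hu hv
      zero_mem' := zero_mem L
      neg_mem' := fun hu => neg_mem hu }
  haveI : Finite S := ‹Finite L›
  haveI : IsDomain S := inferInstance
  have hcomm := (Finite.isDomain_to_isField S).mul_comm
  exact Group.isSolvable_of_comm fun a b => hf (by
    rw [map_mul, map_mul]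
    exact congrArg Subtype.val (hcomm ⟨f a, Submodule.subset_span ⟨a, rfl⟩⟩
      ⟨f b, Submodule.subset_span ⟨b, rfl⟩⟩))

/-- nonsolvable finite multiplicative subgroups of division rings -/
theorem sl25_of_division (hns : ¬ Group.IsSolvable H) : Nonempty (H ≃* SL25) := by
  classical
  have hFC : FC H := fc_of_domain f hf
  obtain ⟨p, hp⟩ := CharP.exists D
  rcases CharP.char_is_prime_or_zero D p with h | h
  · haveI := Fact.mk h
    exact absurd (solvable_of_charP f hf p) hns
  subst h
  haveI := CharP.charP_to_charZero D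
  obtain ⟨θ, M, hθ, hN, hM, hidx, hdis, hcomm, hZ, hcop⟩ := hFC.structure_of_nonsolvable hns
  haveI := hN
  haveI := hM
  have hfpf := isFpf_of_domain f hf
  obtain ⟨qa, qb, z, hz1, hz2, h5, hwz, hqa, hqb, hqba⟩ := exists_quat
  have hzD : f (θ z) = -1 := hfpf.eq_neg_one (fun e => hz1 (hθ (e.trans (map_one θ).symm)))
    (by rw [← map_pow, hz2, map_one])
  obtain ⟨⟨ha1, ha3⟩, ⟨hb1, hb3⟩, -, -⟩ := isPair_gen
  have hne : ∀ u : SL25, u ≠ 1 → θ u ≠ 1 := fun u hu e => hu (hθ (e.trans (map_one θ).symm))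
  have hA3 : f (θ genA) * f (θ genA) = -f (θ genA) - 1 :=
    hfpf.three (hne _ ha1) (by rw [← map_pow, ha3, map_one])
  have hB3 : f (θ genB) * f (θ genB) = -f (θ genB) - 1 :=
    hfpf.three (hne _ hb1) (by rw [← map_pow, hb3, map_one])
  set τ := tau f (θ genA) (θ genB) with hτ
  have htc := tau_commute f hA3 hB3 (by rw [← map_pow, ha3, map_one]) (by rw [← map_pow, hb3, map_one])
  have hτN : ∀ u : SL25, Commute τ (f (θ u)) := by
    intro u
    have hu : u ∈ Subgroup.closure ({genA, genB} : Set SL25) := closure_gen ▸ mem_top u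
    induction hu using closure_induction with
    | mem x hx =>
      rcases hx with rfl | rfl
      exacts [htc.1, htc.2]
    | one => rw [map_one, map_one]; exact Commute.one_right _
    | mul x y _ _ hx hy => rw [map_mul, map_mul]; exact hx.mul_right hy
    | inv x _ hx =>
      have e : f (θ x⁻¹) = (f (θ x))⁻¹ := eq_inv_of_mul_eq_one_left (by
        rw [← map_mul, ← map_mul, inv_mul_cancel, map_one, map_one])
      rw [e]; exact hx.inv_right₀
  have fne : ∀ u : H, f u ≠ 0 := fun u e => one_ne_zero (α := D) (by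
    rw [← map_one f, ← mul_inv_cancel u, map_mul, e, zero_mul])
  set W := f (θ (genA * genB)) with hW
  have hW0 : W ≠ 0 := fne _
  have hτW : τ = W + W⁻¹ := by
    rw [hτ, tau, ← map_mul θ, ← hW]
    congr 1
    refine eq_inv_of_mul_eq_one_left ?_
    rw [hW, ← map_mul, inv_mul_cancel, map_one]
  have hW5 : W ^ 5 = -1 := by rw [hW, ← map_pow, ← map_pow, h5, hzD]
  have hW1 : W + 1 ≠ 0 := fun e => hwz (hθ (hf (by rw [hzD, ← hW, eq_neg_of_add_eq_zero_left e])))
  have hτ2 : τ * τ = τ + 1 := by
    have hpoly : W ^ 4 - W ^ 3 + W ^ 2 - W + 1 = 0 := by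
      refine (mul_eq_zero.mp (show (W + 1) * (W ^ 4 - W ^ 3 + W ^ 2 - W + 1) = 0 from ?_)).resolve_left hW1
      calc (W + 1) * (W ^ 4 - W ^ 3 + W ^ 2 - W + 1) = W ^ 5 + 1 := by noncomm_ring
        _ = 0 := by rw [hW5, neg_add_cancel]
    have hi : W * W⁻¹ = 1 := mul_inv_cancel₀ hW0
    have hi' : W⁻¹ * W = 1 := inv_mul_cancel₀ hW0
    rw [hτW, ← sub_eq_zero]
    refine (mul_eq_zero.mp (show (W * W) * ((W + W⁻¹) * (W + W⁻¹) - (W + W⁻¹ + 1)) = 0 from ?_)).resolve_left
      (mul_ne_zero hW0 hW0)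
    calc (W * W) * ((W + W⁻¹) * (W + W⁻¹) - (W + W⁻¹ + 1))
        = W * (W * W) * W + W * W * (W * W⁻¹) + W * (W * W⁻¹) * W + W * (W * W⁻¹) * W⁻¹
          - W * W * W - W * (W * W⁻¹) - W * W := by noncomm_ring
      _ = W ^ 4 - W ^ 3 + W ^ 2 - W + 1 := by
          simp only [hi, mul_one]
          noncomm_ring
      _ = 0 := hpoly
  have h2 : (2 : D) ≠ 0 := two_ne_zero
  by_cases hMbot : M = ⊥
  swap
  · exfalso
    obtain ⟨r, hr, hrd⟩ := Nat.exists_prime_and_dvd
      (fun e : Nat.card M = 1 => hMbot (M.eq_bot_of_card_eq e))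
    haveI := Fact.mk hr
    obtain ⟨⟨m, hm⟩, hmo⟩ := exists_prime_orderOf_dvd_card' (G := M) r hrd
    rw [Subgroup.orderOf_mk] at hmo
    have hr30 : ¬ r ∣ 30 := fun h => hr.one_lt.ne' (Nat.eq_one_of_dvd_coprimes hcop hrd h)
    have hrodd : Odd r := hr.odd_of_ne_two fun e => hr30 (e ▸ by norm_num)
    have hr5 : r ≠ 5 := fun e => hr30 (e ▸ by norm_num)
    have hmN : ∀ u : SL25, Commute (f m) (f (θ u)) := fun u => by
      show _ = _
      rw [← map_mul, ← map_mul, hcomm (θ u) ⟨u, rfl⟩ m hm]
    -- a commutative subfield containing `τ` and `f m`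
    have hτm : Commute τ (f m) := by
      rw [hτW]
      exact ((hmN _).symm.add_left (hmN _).symm.inv_left₀)
    let s : Set D := {τ, f m}
    let C1 : Set D := Set.centralizer s
    let K : Subfield D :=
      { Subring.centralizer C1 with
        inv_mem' := fun x hx => fun g hg => ((show Commute g x from hx g hg).inv_right₀).eq }
    have hsC1 : s ⊆ C1 := by
      intro x hx y hy
      rcases hx with rfl | rfl <;> rcases hy with rfl | rfl
      exacts [rfl, hτm.eq.symm, hτm.eq, rfl]
    have hKC : ∀ x ∈ K, ∀ y ∈ C1, Commute y x := fun x hx y hy => hx y hy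
    letI : Field K :=
      { (inferInstance : DivisionRing K) with
        mul_comm := fun x y => Subtype.ext (by
          have hy : (y : D) ∈ C1 := fun u hu => (hKC y y.2 u (hsC1 hu)).eq
          exact (hKC x x.2 y hy).eq.symm) }
    haveI : CharZero K := ⟨fun a b e => Nat.cast_injective (R := D) (by
      have := congrArg Subtype.val e
      simpa using this)⟩
    have hin : ∀ x ∈ s, x ∈ K := fun x hx y hy => ((hy x hx : x * y = y * x)).symm
    let I := f (θ qa)
    let J := f (θ qb)
    have hIC : I ∈ C1 := by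
      rintro x (rfl | rfl)
      exacts [(hτN qa).eq, (hmN qa).eq]
    have hJC : J ∈ C1 := by
      rintro x (rfl | rfl)
      exacts [(hτN qb).eq, (hmN qb).eq]
    -- the prime
    have hco : Nat.Coprime 20 r := by
      rw [Nat.coprime_comm, hr.coprime_iff_not_dvd]
      intro hd
      rcases (Nat.Prime.dvd_mul hr).mp (show r ∣ 4 * 5 from hd) with h | h
      · exact hr30 (((Nat.prime_dvd_prime_iff_eq hr Nat.prime_two).mp
          (hr.dvd_of_dvd_pow (show r ∣ 2 ^ 2 from h))) ▸ by norm_num)
      · exact hr5 ((Nat.prime_dvd_prime_iff_eq hr (by norm_num)).mp h)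
    obtain ⟨c, hc20, hcr⟩ := Nat.chineseRemainder hco 7 (r - 1)
    have hcc : c.Coprime (20 * r) := by
      refine Nat.Coprime.mul_right ?_ ?_
      · rw [Nat.Coprime, Nat.gcd_comm, Nat.gcd_rec, hc20]; decide
      · rw [Nat.Coprime, Nat.gcd_comm, Nat.gcd_rec, hcr, ← Nat.gcd_rec, Nat.gcd_comm]
        have := hr.two_le
        rw [Nat.gcd_comm, ← Nat.Coprime, hr.coprime_iff_not_dvd]
        intro hd
        have := Nat.le_of_dvd (by omega) hd
        omega
    obtain ⟨l, -, hl, hlc⟩ := Nat.forall_exists_prime_gt_and_modEq 0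
      (mul_ne_zero (by norm_num) hr.ne_zero : 20 * r ≠ 0) hcc
    haveI := Fact.mk hl
    have hl20 : l % 20 = 7 := by
      have := (hlc.of_mul_right r).trans hc20
      exact this
    have hlr : r ∣ l + 1 := by
      have h1 : l ≡ r - 1 [MOD r] := (hlc.of_mul_left 20).trans hcr
      have h2 := h1.add_right 1
      rw [Nat.sub_add_cancel hr.one_le] at h2
      exact Nat.modEq_zero_iff_dvd.mp (h2.trans (Nat.modEq_zero_iff_dvd.mpr dvd_rfl))
    let x : K := ⟨f m, hin _ (Or.inr rfl)⟩
    have hxr : x ^ r = 1 := Subtype.ext (by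
      show (f m) ^ r = 1
      rw [← map_pow, ← hmo, pow_orderOf_eq_one, map_one])
    have hx1 : x ≠ 1 := fun e => hr.one_lt.ne (by
      rw [← hmo, show m = 1 from hf ((congrArg Subtype.val e).trans (map_one f).symm), orderOf_one])
    obtain ⟨A, B, y, hy, hAB⟩ := exists_norm_eq hxr hx1 hrodd (l := l) (by omega) hlr
    obtain ⟨a, b, hl2⟩ := exists_two_squares hl (by omega) (by omega)
    let tK : K := ⟨τ, hin _ (Or.inl rfl)⟩
    let e : Zp →ₐ[ℤ] K := QuadraticAlgebra.lift ⟨tK, Subtype.ext (by
      show τ * τ = ((1 : ℤ) • (1 : K) + (1 : ℤ) • tK : K).1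
      rw [one_smul, one_smul, hτ2, add_comm]; rfl)⟩
    have hl2' : e a * e a + e b * e b = (l : K) := by
      rw [← map_mul, ← map_mul, ← map_add, hl2, map_natCast]
    have hsum : y * y + A * A + (B * e a) * (B * e a) + (B * e b) * (B * e b) = 0 := by
      linear_combination hAB + (B * B) * hl2'
    have hcK : ∀ u v : K, Commute (u : D) v := fun u v => congrArg Subtype.val (mul_comm u v)
    refine quat_norm_ne_zero (R := D) (I := I) (J := J)
      (a := (y : D)) (b := (A : D)) (c := ((B * e a : K) : D)) (d := ((B * e b : K) : D))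
      ?_ ?_ ?_ (hcK _ _) (hcK _ _) (hcK _ _) (hcK _ _) (hcK _ _) (hcK _ _)
      (hKC _ y.2 I hIC).symm (hKC _ A.2 I hIC).symm (hKC _ (B * e a).2 I hIC).symm
      (hKC _ (B * e b).2 I hIC).symm (hKC _ y.2 J hJC).symm (hKC _ A.2 J hJC).symm
      (hKC _ (B * e a).2 J hJC).symm (hKC _ (B * e b).2 J hJC).symm
      (fun e => hy (Subtype.ext e)) ?_
    · rw [← map_mul, ← map_mul, hqa, hzD]
    · rw [← map_mul, ← map_mul, hqb, hzD]
    · rw [← map_mul, ← map_mul, hqba, map_mul, map_mul, hzD, neg_one_mul, map_mul, map_mul]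
    · exact congrArg Subtype.val hsum
  -- no odd part
  subst hMbot
  rw [sup_bot_eq] at hidx
  by_cases htop : θ.range = ⊤
  · exact ⟨(((MonoidHom.ofInjective hθ).trans (MulEquiv.subgroupCongr htop)).trans Subgroup.topEquiv).symm⟩
  exfalso
  haveI := Fact.mk Nat.prime_two
  have hidx2 : θ.range.index = 2 := by
    have := θ.range.index_ne_zero_of_finite
    have : θ.range.index ≠ 1 := fun e => htop (Subgroup.index_eq_one.mp e)
    omega
  obtain ⟨P⟩ := (inferInstance : Nonempty (Sylow 2 H))
  have hPN : ¬ (P : Subgroup H) ≤ θ.range := fun hle => P.not_dvd_index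
    ((dvd_of_eq hidx2.symm).trans (Subgroup.index_dvd_of_le hle))
  obtain ⟨g, hgN, hg4⟩ : ∃ g : H, g ∉ θ.range ∧ g ^ 4 = 1 := by
    rcases (hFC.subgroup (P : Subgroup H)).two_group P.2 with hc | ⟨n, ⟨e⟩⟩
    · haveI : IsZGroup H := ⟨fun p hp Q => by
        haveI := Fact.mk hp
        by_cases hp2 : p = 2
        · subst hp2; exact (Sylow.equiv P Q).isCyclic.mp hc
        · exact hFC.isCyclic_sylow hp2 Q⟩
      exact absurd (inferInstance : Group.IsSolvable H) hns
    · by_contra hall
      simp only [not_exists, not_and', not_not] at hall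
      refine hPN fun u hu => ?_
      have h4 : ∀ j, ((e.symm (QuaternionGroup.xa j) : (P : Subgroup H)) : H) ∈ θ.range := fun j =>
        hall _ (congrArg Subtype.val (show e.symm (QuaternionGroup.xa j) ^ 4 = 1 by
          rw [← map_pow, QuaternionGroup.xa_pow_four, map_one]))
      have hu' : ((e.symm (e ⟨u, hu⟩) : (P : Subgroup H)) : H) ∈ θ.range := by
        cases e ⟨u, hu⟩ with
        | a i =>
          rw [show (QuaternionGroup.a i : QuaternionGroup (2 ^ n)) =
              QuaternionGroup.xa 0 * QuaternionGroup.xa (i - ((2 ^ n : ℕ) : ZMod (2 * 2 ^ n))) by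
            rw [QuaternionGroup.xa_mul_xa]; congr 1; abel, map_mul]
          exact mul_mem (h4 _) (h4 _)
        | xa i => exact h4 i
      rwa [e.symm_apply_apply] at hu'
  have hgsq : f g * f g = -1 := by
    rw [← map_mul, ← pow_two]
    refine hfpf.eq_neg_one (fun e => hgN ?_) (by rw [← pow_mul, hg4])
    rcases eq_or_ne g 1 with rfl | hg1
    · exact one_mem _
    · rw [hFC.invol_unique hg1 e (hne _ hz1) (by rw [← map_pow, hz2, map_one])]
      exact ⟨z, rfl⟩
  have hmem : ∀ u : SL25, g * θ u * g⁻¹ ∈ θ.range := fun u => hN.conj_mem _ (MonoidHom.mem_range.mpr ⟨u, rfl⟩) g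
  obtain ⟨u, hu⟩ := hmem genA
  obtain ⟨v, hv⟩ := hmem genB
  have hp : IsPair (u, v) := by
    obtain ⟨⟨a1, a3⟩, ⟨b1, b3⟩, ab1, ab10⟩ := isPair_gen
    have huv : θ (u * v) = g * θ (genA * genB) * g⁻¹ := by rw [map_mul, hu, hv, map_mul]; group
    refine ⟨⟨fun e => hne _ a1 (conj_eq_one_iff.mp (hu.symm.trans ((congrArg θ e).trans (map_one θ)))), hθ ?_⟩,
      ⟨fun e => hne _ b1 (conj_eq_one_iff.mp (hv.symm.trans ((congrArg θ e).trans (map_one θ)))), hθ ?_⟩,
      fun e => hne _ ab1 (conj_eq_one_iff.mp (huv.symm.trans ((congrArg θ e).trans (map_one θ)))), hθ ?_⟩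
    · rw [map_pow, hu, conj_pow, ← map_pow, a3, map_one, mul_one, mul_inv_cancel]
    · rw [map_pow, hv, conj_pow, ← map_pow, b3, map_one, mul_one, mul_inv_cancel]
    · rw [map_pow, huv, conj_pow, ← map_pow, ab10, map_one, mul_one, mul_inv_cancel]
  obtain ⟨n, ⟨e1, e2⟩ | e⟩ := pair_cases hp
  · -- an outer element centralising `N`
    set c := (θ n)⁻¹ * g with hc
    have hcA : ∀ w : SL25, Commute c (θ w) := by
      intro w
      have hw : w ∈ Subgroup.closure ({genA, genB} : Set SL25) := closure_gen ▸ mem_top w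
      induction hw using closure_induction with
      | mem x hx =>
        rcases hx with rfl | rfl
        · show _ = _
          have := congrArg θ e1
          rw [map_mul, map_mul, hu] at this
          calc (θ n)⁻¹ * g * θ genA = (θ n)⁻¹ * (g * θ genA * g⁻¹ * θ n) * (θ n)⁻¹ * g := by group
            _ = θ genA * ((θ n)⁻¹ * g) := by rw [← this]; group
        · show _ = _
          have := congrArg θ e2
          rw [map_mul, map_mul, hv] at this
          calc (θ n)⁻¹ * g * θ genB = (θ n)⁻¹ * (g * θ genB * g⁻¹ * θ n) * (θ n)⁻¹ * g := by group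
            _ = θ genB * ((θ n)⁻¹ * g) := by rw [← this]; group
      | one => rw [map_one]; exact Commute.one_right _
      | mul x y _ _ hx hy => rw [map_mul]; exact hx.mul_right hy
      | inv x _ hx => rw [map_inv]; exact hx.inv_right
    have hcN : c ∉ θ.range := fun hcm => hgN (by
      have := mul_mem (show θ n ∈ θ.range from ⟨n, rfl⟩) hcm
      rwa [hc, mul_inv_cancel_left] at this)
    obtain ⟨w, hw⟩ : c * c ∈ θ.range := Subgroup.mul_self_mem_of_index_two hidx2 c
    have hzN : θ z ∈ θ.range := ⟨z, rfl⟩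
    have hw2 : θ w ^ 2 = 1 := by
      have hcen : w ∈ center SL25 := mem_center_iff.mpr fun u => hθ (by
        rw [map_mul, map_mul, hw]
        exact ((hcA u).mul_left (hcA u)).eq.symm)
      have h1 : orderOf (⟨w, hcen⟩ : center SL25) ∣ 2 := by
        refine (_root_.orderOf_dvd_natCard _).trans ?_
        have := Nat.card_pos (α := center SL25)
        have := card_centre
        rcases (show Nat.card (center SL25) = 1 ∨ Nat.card (center SL25) = 2 by omega) with e | e <;>
          rw [e]
        norm_num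
      rw [← map_pow, show w ^ 2 = 1 from congrArg Subtype.val (orderOf_dvd_iff_pow_eq_one.mp h1),
        map_one]
    have hzz : θ z ^ 2 = 1 := by rw [← map_pow, hz2, map_one]
    by_cases hw1 : c * c = 1
    · rcases eq_or_ne c 1 with e | hc1
      · exact hcN (e ▸ one_mem _)
      · exact hcN (hFC.invol_unique hc1 (by rw [pow_two]; exact hw1) (hne _ hz1) hzz ▸ hzN)
    · have hcz : c * c = θ z :=
        hFC.invol_unique hw1 (by rw [← hw]; exact hw2) (hne _ hz1) hzz
      have hsq : (c * (θ qa)⁻¹) ^ 2 = 1 := by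
        rw [(hcA qa).inv_right.mul_pow, inv_pow, pow_two, pow_two, hcz, ← map_mul, hqa, mul_inv_cancel]
      rcases eq_or_ne (c * (θ qa)⁻¹) 1 with e | hne'
      · exact hcN (mul_inv_eq_one.mp e ▸ ⟨qa, rfl⟩)
      · have e := hFC.invol_unique hne' hsq (hne _ hz1) hzz
        exact hcN (mul_inv_eq_iff_eq_mul.mp e ▸ mul_mem hzN ⟨qa, rfl⟩)
  · -- an outer element conjugating `τ` to `1 - τ`
    simp only at e
    have hG : f g ≠ 0 := fun e => by rw [e, mul_zero] at hgsq; exact one_ne_zero (neg_eq_zero.mp hgsq.symm)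
    have finv : ∀ u : H, f u⁻¹ = (f u)⁻¹ := fun u =>
      eq_inv_of_mul_eq_one_left (by rw [← map_mul, inv_mul_cancel, map_one])
    have hgW : f g * W * (f g)⁻¹ = f (θ n) * W ^ 3 * (f (θ n))⁻¹ := by
      rw [hW, ← map_pow, ← map_pow, ← finv, ← finv, ← map_mul, ← map_mul, ← map_mul, ← map_mul]
      congr 1
      rw [eq_mul_inv_iff_mul_eq, ← map_mul θ n, e, map_mul θ (u * v) n, map_mul θ u v, hu, hv, map_mul]
      group
    have hn0 : f (θ n) ≠ 0 := fne _
    have hcube : W ^ 3 + (W ^ 3)⁻¹ = 1 - τ := by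
      have hWi : W * W⁻¹ = 1 := mul_inv_cancel₀ hW0
      have hWi' : W⁻¹ * W = 1 := inv_mul_cancel₀ hW0
      have e3 : τ * τ * τ = W ^ 3 + (W ^ 3)⁻¹ + 3 * τ := by
        rw [hτW, ← inv_pow]
        calc (W + W⁻¹) * (W + W⁻¹) * (W + W⁻¹)
            = W ^ 3 + W * (W * W⁻¹) + (W * W⁻¹) * W + (W * W⁻¹) * W⁻¹ + (W⁻¹ * W) * W
              + (W⁻¹ * W) * W⁻¹ + W⁻¹ * (W⁻¹ * W) + W⁻¹ ^ 3 := by noncomm_ring
          _ = W ^ 3 + W⁻¹ ^ 3 + 3 * (W + W⁻¹) := by rw [hWi, hWi']; noncomm_ring
      have e4 : τ * τ * τ = 2 * τ + 1 := by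
        rw [hτ2, add_mul, one_mul, hτ2]; noncomm_ring
      linear_combination (norm := (noncomm_ring <;> abel)) e4 - e3
    have hgτ : f g * τ = (1 - τ) * f g := by
      have h1 : f g * τ * (f g)⁻¹ = 1 - τ := by
        rw [hτW, mul_add, add_mul]
        have hinv : f g * W⁻¹ * (f g)⁻¹ = (f g * W * (f g)⁻¹)⁻¹ := by
          rw [mul_inv_rev, mul_inv_rev, inv_inv, mul_assoc]
        rw [hinv, hgW, mul_inv_rev, mul_inv_rev, inv_inv, ← mul_assoc, ← add_mul, ← mul_add, ← hτW, hcube,
          mul_sub, mul_one, sub_mul, mul_inv_cancel₀ hn0, ← (hτN n).eq, mul_assoc, mul_inv_cancel₀ hn0,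
          mul_one]
      calc f g * τ = f g * τ * (f g)⁻¹ * f g := by rw [inv_mul_cancel_right₀ hG]
        _ = _ := by rw [h1]
    set G0 := f g with hG0
    set s := 2 * τ - 1 with hs
    have hs2 : s * s = 5 := by
      rw [hs, show (2 * τ - 1) * (2 * τ - 1) = 4 * (τ * τ) - 4 * τ + 1 by noncomm_ring <;> abel, hτ2]
      noncomm_ring <;> norm_num
    have hgs : G0 * s = -(s * G0) := by
      rw [hs, mul_sub, mul_one, ← mul_assoc, (Commute.ofNat_right G0 2).eq, mul_assoc, hgτ]
      noncomm_ring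
    have hprod : (2 + G0 + s) * (2 - G0 - s) = 0 := by
      calc (2 + G0 + s) * (2 - G0 - s) = 4 - (G0 * G0 + G0 * s + s * G0 + s * s) := by
            noncomm_ring <;> norm_num <;> abel
        _ = 0 := by rw [hgsq, hgs, hs2]; noncomm_ring <;> norm_num
    have hcomm' : G0 * s = s * G0 := by
      rcases mul_eq_zero.mp hprod with e | e
      · rw [show s = -2 - G0 by linear_combination (norm := abel) e, mul_sub, sub_mul, mul_neg, neg_mul,
          (Commute.ofNat_right G0 2).eq]
      · rw [show s = 2 - G0 by linear_combination (norm := abel) -e, mul_sub, sub_mul,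
          (Commute.ofNat_right G0 2).eq]
    rw [hcomm', eq_neg_iff_add_eq_zero, ← two_mul] at hgs
    rcases mul_eq_zero.mp hgs with e | e
    · exact h2 e
    · rcases mul_eq_zero.mp e with e | e
      · rw [e, zero_mul] at hs2
        exact (OfNat.ofNat_ne_zero 5 : (5 : D) ≠ 0) hs2.symm
      · exact hG e

end

end Cfsg.Agent.Zassenhaus
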