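import Cfsg.Agent.Lib.Zassenhaus.Icosian

/-!
Counting facts about `SL(2, 5)`.
-/

set_option autoImplicit false

namespace Cfsg.Agent.Zassenhaus

/-- the group `SL(2, 5)` -/
abbrev SL25 := Matrix.SpecialLinearGroup (Fin 2) (ZMod 5)

/-- powers of entries -/
def ePow (p : ZMod 5 × ZMod 5 × ZMod 5 × ZMod 5) : ℕ → ZMod 5 × ZMod 5 × ZMod 5 × ZMod 5
  | 0 => (1, 0, 0, 1)
  | m + 1 => eMul (ePow p m) p

/-- the entries of a matrix -/
def ent (M : SL25) : ZMod 5 × ZMod 5 × ZMod 5 × ZMod 5 := (M.1 0 0, M.1 0 1, M.1 1 0, M.1 1 1)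

theorem ent_injective : Function.Injective ent := by
  intro M N h
  simp only [ent, Prod.mk.injEq] at h
  refine Subtype.ext (Matrix.ext fun i j => ?_)
  fin_cases i <;> fin_cases j
  exacts [h.1, h.2.1, h.2.2.1, h.2.2.2]

theorem ent_one : ent 1 = (1, 0, 0, 1) := by
  simp [ent]

theorem ent_mul (M N : SL25) : ent (M * N) = eMul (ent M) (ent N) := by
  simp [ent, eMul, Matrix.SpecialLinearGroup.coe_mul, Matrix.mul_apply, Fin.sum_univ_two]

theorem ent_pow (M : SL25) (m : ℕ) : ent (M ^ m) = ePow (ent M) m := by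
  induction m with
  | zero => rw [pow_zero, ent_one]; rfl
  | succ m ih => rw [pow_succ, ent_mul, ih]; rfl

theorem ent_matOf (n : Fin 120) : ent (matOf n) = entries n := by
  simp [ent, matOf]

/-- indices of the elements of order three -/
def list3 : List (Fin 120) :=
  (List.finRange 120).filter fun n => decide (entries n ≠ (1, 0, 0, 1) ∧ ePow (entries n) 3 = (1, 0, 0, 1))

/-- indices of the pairs of elements of order three with product of order dividing ten -/
def listPairs : List (Fin 120 × Fin 120) :=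
  (list3.product list3).filter fun p => decide (eMul (entries p.1) (entries p.2) ≠ (1, 0, 0, 1) ∧
    ePow (eMul (entries p.1) (entries p.2)) 10 = (1, 0, 0, 1))

theorem table_three : list3.length = 20 ∧ list3.Nodup := by
  decide +kernel

theorem table_pairs : listPairs.length = 120 := by
  decide +kernel

theorem table_centre : ((List.finRange 120).filter fun n => decide
    (eMul (entries n) (entries (stepX 0)) = eMul (entries (stepX 0)) (entries n) ∧
      eMul (entries n) (entries (stepY 0)) = eMul (entries (stepY 0)) (entries n))).length = 2 := by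
  decide +kernel

theorem table_gen : entries (stepX 0) ≠ (1, 0, 0, 1) ∧ ePow (entries (stepX 0)) 3 = (1, 0, 0, 1) ∧
    entries (stepY 0) ≠ (1, 0, 0, 1) ∧ ePow (entries (stepY 0)) 3 = (1, 0, 0, 1) ∧
    eMul (entries (stepX 0)) (entries (stepY 0)) ≠ (1, 0, 0, 1) ∧
    ePow (eMul (entries (stepX 0)) (entries (stepY 0))) 10 = (1, 0, 0, 1) := by
  decide +kernel

/-- first generator -/
def genA : SL25 := matOf (stepX 0)

/-- second generator -/
def genB : SL25 := matOf (stepY 0)

theorem eq_one_iff_ent {M : SL25} : M = 1 ↔ ent M = (1, 0, 0, 1) := by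
  rw [← ent_one]; exact ent_injective.eq_iff.symm

/-- the pairs condition -/
def IsPair {G : Type*} [Group G] (p : G × G) : Prop :=
  (p.1 ≠ 1 ∧ p.1 ^ 3 = 1) ∧ (p.2 ≠ 1 ∧ p.2 ^ 3 = 1) ∧ p.1 * p.2 ≠ 1 ∧ (p.1 * p.2) ^ 10 = 1

theorem isPair_gen : IsPair (genA, genB) := by
  simp only [IsPair, genA, genB, ne_eq, eq_one_iff_ent, ent_pow, ent_mul, ent_matOf]
  exact ⟨⟨table_gen.1, table_gen.2.1⟩, ⟨table_gen.2.2.1, table_gen.2.2.2.1⟩, table_gen.2.2.2.2⟩

theorem closure_gen : Subgroup.closure ({genA, genB} : Set SL25) = ⊤ := by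
  refine eq_top_iff.mpr fun M _ => ?_
  obtain ⟨n, rfl⟩ := matOf_bijective.2 M
  have key : ∀ (l : List Bool) (m : Fin 120), matOf m ∈ Subgroup.closure ({genA, genB} : Set SL25) →
      matOf (l.foldl step m) ∈ Subgroup.closure ({genA, genB} : Set SL25) := by
    intro l
    induction l with
    | nil => intro m h; simpa using h
    | cons t l ih =>
      intro m h
      rw [List.foldl_cons]
      refine ih _ ?_
      cases t
      · exact (matOf_mul.2 m).1 ▸ mul_mem h (Subgroup.subset_closure (Set.mem_insert _ _))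
      · exact (matOf_mul.2 m).2 ▸ mul_mem h
          (Subgroup.subset_closure (Set.mem_insert_of_mem _ rfl))
  rw [← table_word n]
  exact key _ 0 (matOf_mul.1 ▸ one_mem _)

theorem mem_list3 (n : Fin 120) : n ∈ list3 ↔ matOf n ≠ 1 ∧ matOf n ^ 3 = 1 := by
  simp [list3, eq_one_iff_ent, ent_pow, ent_matOf]

theorem card_three : 20 ≤ Set.ncard {M : SL25 | M ≠ 1 ∧ M ^ 3 = 1} := by
  classical
  have e : {M : SL25 | M ≠ 1 ∧ M ^ 3 = 1} = matOf '' ↑list3.toFinset := by
    ext M
    obtain ⟨n, rfl⟩ := matOf_bijective.2 M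
    simp [mem_list3, matOf_bijective.1.eq_iff]
  rw [e, Set.ncard_image_of_injective _ matOf_bijective.1, Set.ncard_coe_finset,
    List.toFinset_card_of_nodup table_three.2, table_three.1]

theorem card_pairs : Set.ncard {p : SL25 × SL25 | IsPair p} ≤ 120 := by
  classical
  have e : {p : SL25 × SL25 | IsPair p} ⊆ ↑(listPairs.toFinset.image (Prod.map matOf matOf)) := by
    rintro ⟨M, N⟩ h
    obtain ⟨n, rfl⟩ := matOf_bijective.2 M
    obtain ⟨m, rfl⟩ := matOf_bijective.2 N
    obtain ⟨hn, hm, h1, h10⟩ := h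
    simp only [ne_eq, eq_one_iff_ent, ent_pow, ent_mul, ent_matOf] at h1 h10
    simp only [Finset.coe_image, Set.mem_image, Finset.mem_coe, List.mem_toFinset]
    refine ⟨(n, m), List.mem_filter.mpr ⟨List.mem_product.mpr
      ⟨(mem_list3 n).mpr hn, (mem_list3 m).mpr hm⟩, ?_⟩, rfl⟩
    simp [h1, h10]
  refine (Set.ncard_le_ncard e).trans ?_
  rw [Set.ncard_coe_finset]
  exact (Finset.card_image_le.trans (List.toFinset_card_le _)).trans table_pairs.le

theorem card_centre : Nat.card (Subgroup.center SL25) ≤ 2 := by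
  classical
  let L := (List.finRange 120).filter fun n => decide
    (eMul (entries n) (entries (stepX 0)) = eMul (entries (stepX 0)) (entries n) ∧
      eMul (entries n) (entries (stepY 0)) = eMul (entries (stepY 0)) (entries n))
  have e : (↑(Subgroup.center SL25) : Set SL25) ⊆ ↑(L.toFinset.image matOf) := by
    intro M hM
    obtain ⟨n, rfl⟩ := matOf_bijective.2 M
    have h1 := congrArg ent (Subgroup.mem_center_iff.mp hM genA).symm
    have h2 := congrArg ent (Subgroup.mem_center_iff.mp hM genB).symm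
    simp only [genA, genB, ent_mul, ent_matOf] at h1 h2
    simp only [Finset.coe_image, Set.mem_image, Finset.mem_coe, List.mem_toFinset]
    exact ⟨n, List.mem_filter.mpr ⟨List.mem_finRange n, by simp [h1, h2]⟩, rfl⟩
  calc Nat.card (Subgroup.center SL25) = Set.ncard (↑(Subgroup.center SL25) : Set SL25) :=
        (Nat.card_coe_set_eq _)
    _ ≤ _ := Set.ncard_le_ncard e
    _ ≤ 2 := by
      rw [Set.ncard_coe_finset]
      exact (Finset.card_image_le.trans (List.toFinset_card_le _)).trans table_centre.le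

end Cfsg.Agent.Zassenhaus
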