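import Cfsg.Agent.Lib.Zassenhaus.Classify
import Cfsg.Agent.Lib.Zassenhaus.Sl25

/-!
The elements of order three of a fixed-point-free group: either at most eight of them, or exactly
those of a copy of `SL(2, 5)`.
-/

set_option autoImplicit false

namespace Cfsg.Agent.Zassenhaus

variable {G : Type*} [Group G] {k : Type*} [Field k] {A : Type*} [Ring A] [Algebra k A] [Nontrivial A]
  {ρ : G →* A}

/-- the elements of order three -/
def threeSet (G : Type*) [Group G] : Set G := {y | y ≠ 1 ∧ y ^ 3 = 1}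

theorem ax_injective (hG : Geo k ρ) : Function.Injective (ax ρ) := fun a b h =>
  hG.fpf.injective (two_cancel hG.two (add_right_cancel (h : 2 * ρ a + 1 = 2 * ρ b + 1)))

theorem mem_conj_list (hG : Geo k ρ) {g y y0 : G} (hy0 : y0 ^ 3 = 1 ∧ y0 ≠ 1)
    (h : ρ g * ax ρ y * ρ g⁻¹ = ax ρ y0 ∨ ρ g * ax ρ y * ρ g⁻¹ = -ax ρ y0) :
    y ∈ [g⁻¹ * y0 * g, g⁻¹ * y0⁻¹ * g] := by
  rw [← ax_inv hy0.1 (hG.fpf.three hy0.2 hy0.1), ax_conj] at h
  rcases h with h | h <;> have := ax_injective hG h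
  · simp [← this, mul_assoc]
  · simp [← this, mul_assoc]

/-- a dichotomy for the elements of order three -/
theorem three_or_embed [Finite G] (hG : Geo k ρ) :
    (threeSet G).ncard ≤ 8 ∨ ∃ θ : SL25 →* G, Function.Injective θ ∧ ∀ y : G, y ^ 3 = 1 → y ∈ θ.range := by
  classical
  by_cases hcomm : ∀ x y : G, x ≠ 1 → y ≠ 1 → x ^ 3 = 1 → y ^ 3 = 1 → Commute x y
  · left
    rcases (threeSet G).eq_empty_or_nonempty with e | ⟨x, hx1, hx3⟩
    · simp [e]
    have sub : threeSet G ⊆ {x, x⁻¹} := by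
      rintro y ⟨hy1, hy3⟩
      rcases hG.fpf.three_commute hx1 hy1 hx3 hy3 (hcomm x y hx1 hy1 hx3 hy3) with rfl | rfl <;> simp
    exact (Set.ncard_le_ncard sub).trans ((Set.ncard_insert_le _ _).trans (by simp))
  simp only [not_forall] at hcomm
  obtain ⟨x, y, hx1, hy1, hx3, hy3, hne⟩ := hcomm
  obtain ⟨F, -, -, -⟩ := exists_frame hG hx1 hy1 hx3 hy3 hne
  have hX : F.q 0 1 1 1 = ax ρ F.x := by rw [F.axx]; simp [Frame.q]
  let L8 : List G := ([1, F.gi, F.gj, F.gi * F.gj] : List G).flatMap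
    fun g => [g⁻¹ * F.x * g, g⁻¹ * F.x⁻¹ * g]
  by_cases hS : ∃ S, F.InS k S
  swap
  · left
    have sub : threeSet G ⊆ ↑L8.toFinset := by
      rintro y ⟨hy1, hy3⟩
      rw [Finset.mem_coe, List.mem_toFinset]
      rcases F.classify hG ⟨y, hy1, hy3, rfl⟩ with ⟨g, hg, h⟩ | ⟨g, -, S, hS', -⟩
      · rw [hX] at h
        exact List.mem_flatMap.mpr ⟨g, hg, mem_conj_list hG ⟨F.x3, F.x1⟩ h⟩
      · exact absurd ⟨S, hS'⟩ hS
    refine (Set.ncard_le_ncard sub).trans ?_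
    rw [Set.ncard_coe_finset]
    exact (List.toFinset_card_le _).trans (by simp [L8])
  right
  obtain ⟨S, hS⟩ := hS
  obtain ⟨y0, hy01, hy03, hy0⟩ := hS.2.2.2
  obtain ⟨θ, hθ, -⟩ := icosian F hG hS hy0
  refine ⟨θ, hθ, ?_⟩
  let L := L8 ++ ([1, F.gj, F.x, F.x * F.gi, F.x * F.x, F.x * (F.x * F.gi)] : List G).flatMap
    fun g => [g⁻¹ * y0 * g, g⁻¹ * y0⁻¹ * g]
  have sub : threeSet G ⊆ ↑L.toFinset := by
    rintro y ⟨hy1, hy3⟩
    rw [Finset.mem_coe, List.mem_toFinset, List.mem_append]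
    rcases F.classify hG ⟨y, hy1, hy3, rfl⟩ with ⟨g, hg, h⟩ | ⟨g, hg, S', hS', h⟩
    · rw [hX] at h
      exact Or.inl (List.mem_flatMap.mpr ⟨g, hg, mem_conj_list hG ⟨F.x3, F.x1⟩ h⟩)
    · rw [F.inS_unique hG hS' hS, ← hy0] at h
      exact Or.inr (List.mem_flatMap.mpr ⟨g, hg, mem_conj_list hG ⟨hy03, hy01⟩ h⟩)
  have le20 : (threeSet G).ncard ≤ 20 := by
    refine (Set.ncard_le_ncard sub).trans ?_
    rw [Set.ncard_coe_finset]
    exact (List.toFinset_card_le _).trans (by simp [L, L8])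
  have himg : θ '' {M : SL25 | M ≠ 1 ∧ M ^ 3 = 1} ⊆ threeSet G := by
    rintro _ ⟨M, ⟨hM1, hM3⟩, rfl⟩
    exact ⟨fun e => hM1 (hθ (e.trans (map_one θ).symm)), by rw [← map_pow, hM3, map_one]⟩
  have heq := Set.eq_of_subset_of_ncard_le himg (le20.trans (by
    rw [Set.ncard_image_of_injective _ hθ]; exact card_three)) (Set.toFinite _)
  intro y hy3
  by_cases hy1 : y = 1
  · exact hy1 ▸ one_mem _
  · have hm : y ∈ threeSet G := ⟨hy1, hy3⟩
    rw [← heq] at hm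
    obtain ⟨M, -, rfl⟩ := hm
    exact ⟨M, rfl⟩

end Cfsg.Agent.Zassenhaus
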