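import Cfsg.Agent.Lib.Zassenhaus.Rep
import Mathlib

/-!
Fixed-point-free representations lift to characteristic zero.
-/

set_option autoImplicit false

namespace Cfsg.Agent.Zassenhaus

open Module
open scoped Kronecker

/-- `G` has an integral fixed-point-free representation -/
def IntFpf (G : Type*) [Group G] : Prop :=
  ∃ (n : ℕ) (ρ : G →* Matrix (Fin (n + 1)) (Fin (n + 1)) ℤ), ∀ g : G, g ≠ 1 → (ρ g - 1).det ≠ 0

variable {G : Type*} [Group G] [Finite G]

/-- the sum of the powers of an element -/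
noncomputable def powSum (R : Type*) [CommRing R] (g : G) : MonoidAlgebra R G :=
  ∑ i ∈ Finset.range (orderOf g), (MonoidAlgebra.of R G g) ^ i

theorem powSum_mul (R : Type*) [CommRing R] (g : G) :
    powSum R g * MonoidAlgebra.of R G g = powSum R g := by
  have h := geom_sum_mul (MonoidAlgebra.of R G g) (orderOf g)
  rw [← map_pow (MonoidAlgebra.of R G) g, pow_orderOf_eq_one, map_one, sub_self, mul_sub, mul_one,
    sub_eq_zero] at h
  exact h

theorem powSum_mul_self (R : Type*) [CommRing R] (g : G) :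
    powSum R g * powSum R g = (orderOf g : MonoidAlgebra R G) * powSum R g := by
  have h : ∀ i : ℕ, powSum R g * (MonoidAlgebra.of R G g) ^ i = powSum R g := fun i => by
    induction i with
    | zero => rw [pow_zero, mul_one]
    | succ i ih => rw [pow_succ, ← mul_assoc, ih, powSum_mul]
  nth_rewrite 2 [powSum]
  rw [Finset.mul_sum, Finset.sum_congr rfl fun i _ => h i, Finset.sum_const, Finset.card_range,
    nsmul_eq_mul]

/-- representations lift -/
theorem FC.intFpf (hFC : FC G) : IntFpf G := by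
  classical
  obtain ⟨q, hq, n, ρ, hρ⟩ := hFC
  have hf : IsFpf ρ := fun g hg => (Matrix.isUnit_iff_isUnit_det _).mpr (hρ g hg).isUnit
  have hqG : ((Nat.card G : ℕ) : ZMod q) ≠ 0 := hf.natCast_ne_zero dvd_rfl
  haveI : NeZero (Nat.card G : ZMod q) := ⟨hqG⟩
  let pr : (MonoidAlgebra ℤ G) →+* (MonoidAlgebra (ZMod q) G) := MonoidAlgebra.mapRingHom G (Int.castRingHom (ZMod q))
  have pr_of : ∀ g : G, pr (MonoidAlgebra.of ℤ G g) = MonoidAlgebra.of (ZMod q) G g := fun g => by
    simp [pr, MonoidAlgebra.of_apply, MonoidAlgebra.coe_mapRingHom]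
  have pr_sum : ∀ g : G, pr (powSum ℤ g) = powSum (ZMod q) g := fun g => by
    rw [powSum, powSum, map_sum]
    exact Finset.sum_congr rfl fun i _ => by rw [map_pow, pr_of]
  have pr_ker : ∀ x : (MonoidAlgebra ℤ G), pr x = 0 → (q : (MonoidAlgebra ℤ G)) ∣ x := by
    intro x hx
    refine ⟨MonoidAlgebra.ofCoeff (x.coeff.mapRange (fun c : ℤ => c / q) (by simp)), ?_⟩
    refine MonoidAlgebra.ext (Finsupp.ext fun g => ?_)
    have hg : ((x.coeff g : ℤ) : ZMod q) = 0 := by
      have := congrArg (fun y : (MonoidAlgebra (ZMod q) G) => y.coeff g) hx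
      simpa [pr] using this
    rw [ZMod.intCast_zmod_eq_zero_iff_dvd] at hg
    rw [← nsmul_eq_mul]
    rw [MonoidAlgebra.coeff_smul, Finsupp.smul_apply, MonoidAlgebra.coeff_ofCoeff, Finsupp.mapRange_apply,
      nsmul_eq_mul, Int.mul_ediv_cancel' hg]
  have pr_q : pr (q : (MonoidAlgebra ℤ G)) = 0 := by
    rw [map_natCast]
    have : ((q : ℕ) : ZMod q) = 0 := ZMod.natCast_self q
    rw [← map_natCast (algebraMap (ZMod q) (MonoidAlgebra (ZMod q) G)), this, map_zero]
  -- an idempotent killed by all power sums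
  let Θ : (MonoidAlgebra (ZMod q) G) →ₐ[ZMod q] Matrix (Fin (n + 1)) (Fin (n + 1)) (ZMod q) := MonoidAlgebra.lift _ _ _ ρ
  have hΘ : ∀ g : G, g ≠ 1 → Θ (powSum (ZMod q) g) = 0 := fun g hg => by
    have h := mul_geom_sum (ρ g) (orderOf g)
    rw [← map_pow ρ g, pow_orderOf_eq_one, map_one, sub_self] at h
    have : ∑ i ∈ Finset.range (orderOf g), ρ g ^ i = 0 := hf.eq_zero_of_mul hg h
    rw [powSum, map_sum]
    rw [← this]
    exact Finset.sum_congr rfl fun i _ => by simp only [Θ, map_pow, MonoidAlgebra.lift_of]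
  let K : Ideal (MonoidAlgebra (ZMod q) G) := RingHom.ker Θ.toRingHom
  obtain ⟨W, hW⟩ := MonoidAlgebra.Submodule.exists_isCompl (K : Submodule (MonoidAlgebra (ZMod q) G) (MonoidAlgebra (ZMod q) G))
  obtain ⟨f, hfK, ε, hεW, hfε⟩ := Submodule.mem_sup.mp
    (hW.sup_eq_top.ge (Submodule.mem_top (x := (1 : (MonoidAlgebra (ZMod q) G)))))
  have hεε : ε * ε = ε := by
    have h1 : ε * f + ε * ε = ε := by rw [← mul_add, hfε, mul_one]
    have h2 : ε * f ∈ K := Ideal.mul_mem_left K ε hfK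
    have h3 : ε * f ∈ W := by
      rw [eq_sub_of_add_eq h1]
      exact sub_mem hεW (Submodule.smul_mem W ε hεW)
    have h4 : ε * f = 0 := Submodule.disjoint_def.mp hW.disjoint _ h2 h3
    rw [h4, zero_add] at h1
    exact h1
  have hε0 : ε ≠ 0 := by
    intro h
    rw [h, add_zero] at hfε
    rw [hfε] at hfK
    have : Θ (1 : (MonoidAlgebra (ZMod q) G)) = 0 := hfK
    rw [map_one] at this
    exact one_ne_zero this
  have hkill : ∀ g : G, g ≠ 1 → ∀ a : (MonoidAlgebra (ZMod q) G), powSum (ZMod q) g * a * ε = 0 := fun g hg a =>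
    Submodule.disjoint_def.mp hW.disjoint _
      (show Θ.toRingHom (powSum (ZMod q) g * a * ε) = 0 by
        show Θ (powSum (ZMod q) g * a * ε) = 0
        rw [map_mul, map_mul, hΘ g hg, zero_mul, zero_mul])
      (Submodule.smul_mem W _ hεW)
  -- lifts
  obtain ⟨e0, he0⟩ : ∃ e0 : (MonoidAlgebra ℤ G), pr e0 = ε := by
    refine ⟨MonoidAlgebra.ofCoeff (ε.coeff.mapRange (fun c : ZMod q => (c.val : ℤ)) (by simp)), ?_⟩
    refine MonoidAlgebra.ext (Finsupp.ext fun g => ?_)
    simp [pr]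
  have hlift : ∀ k : ℕ, ∃ e u : (MonoidAlgebra ℤ G), pr e = ε ∧ e * e - e = (q : (MonoidAlgebra ℤ G)) ^ (k + 1) * u := by
    intro k
    induction k with
    | zero =>
      obtain ⟨u, hu⟩ := pr_ker (e0 * e0 - e0) (by rw [map_sub, map_mul, he0, hεε, sub_self])
      exact ⟨e0, u, he0, by rw [pow_one, hu]⟩
    | succ k ih =>
      obtain ⟨e, u, he, hu⟩ := ih
      refine ⟨3 * (e * e) - 2 * (e * e * e), (q : (MonoidAlgebra ℤ G)) ^ k * (u * u * (4 * (e * e - e) - 3)), ?_, ?_⟩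
      · simp only [map_sub, map_mul, map_ofNat, he, hεε]
        rw [← sub_mul]; norm_num
      · have key : (3 * (e * e) - 2 * (e * e * e)) * (3 * (e * e) - 2 * (e * e * e))
            - (3 * (e * e) - 2 * (e * e * e)) = (e * e - e) * (e * e - e) * (4 * (e * e - e) - 3) := by
          have h := congrArg (Polynomial.aeval (R := ℤ) e)
            (show (3 * (Polynomial.X * Polynomial.X) - 2 * (Polynomial.X * Polynomial.X * Polynomial.X)) *
                (3 * (Polynomial.X * Polynomial.X) - 2 * (Polynomial.X * Polynomial.X * Polynomial.X))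
              - (3 * (Polynomial.X * Polynomial.X) - 2 * (Polynomial.X * Polynomial.X * Polynomial.X)) =
              (Polynomial.X * Polynomial.X - Polynomial.X) * (Polynomial.X * Polynomial.X - Polynomial.X) *
                (4 * (Polynomial.X * Polynomial.X - Polynomial.X) - 3 : Polynomial ℤ) by ring)
          simpa only [map_sub, map_mul, map_ofNat, Polynomial.aeval_X] using h
        have c : Commute ((q : (MonoidAlgebra ℤ G)) ^ (k + 1)) u := (Nat.cast_commute q u).pow_left _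
        rw [key]
        nth_rewrite 1 [hu]
        nth_rewrite 1 [hu]
        rw [show (q : (MonoidAlgebra ℤ G)) ^ (k + 1) * u * ((q : (MonoidAlgebra ℤ G)) ^ (k + 1) * u) = (q : (MonoidAlgebra ℤ G)) ^ (k + 1 + 1) * ((q : (MonoidAlgebra ℤ G)) ^ k * (u * u)) by
          rw [mul_assoc, ← mul_assoc u, ← c.eq, mul_assoc, ← mul_assoc, ← pow_add,
            ← mul_assoc ((q : (MonoidAlgebra ℤ G)) ^ (k + 1 + 1)), ← pow_add, show k + 1 + 1 + k = k + 1 + (k + 1) by omega]]
        simp only [mul_assoc]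
  have hsmall : ∀ k : ℕ, ∀ e u : (MonoidAlgebra ℤ G), pr e = ε → e * e - e = (q : (MonoidAlgebra ℤ G)) ^ (k + 1) * u → ∀ g : G, g ≠ 1 →
      ∀ a : (MonoidAlgebra ℤ G), (q : (MonoidAlgebra ℤ G)) ^ (k + 1) ∣ powSum ℤ g * a * e := by
    intro k e u he hu g hg
    set S : (MonoidAlgebra ℤ G) := powSum ℤ g
    have base : ∀ a : (MonoidAlgebra ℤ G), (q : (MonoidAlgebra ℤ G)) ∣ S * a * e := fun a => pr_ker _ (by
      rw [map_mul, map_mul, pr_sum, he, hkill g hg])
    obtain ⟨α, β, hab⟩ : ∃ α β : ℤ, α * (orderOf g : ℤ) + β * (q : ℤ) = 1 := by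
      refine Int.isCoprime_iff_gcd_eq_one.mpr ?_
      rw [Int.gcd_natCast_natCast]
      refine Nat.Coprime.symm ((Nat.Prime.coprime_iff_not_dvd hq.out).mpr fun h => hqG ?_)
      rw [ZMod.natCast_eq_zero_iff]
      exact h.trans (orderOf_dvd_natCard g)
    suffices ∀ j, j ≤ k → ∀ a : (MonoidAlgebra ℤ G), (q : (MonoidAlgebra ℤ G)) ^ (j + 1) ∣ S * a * e from this k le_rfl
    intro j
    induction j with
    | zero => intro _ a; rw [zero_add, pow_one]; exact base a
    | succ j ih =>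
      intro hj a
      obtain ⟨w, hw⟩ := ih (Nat.le_of_succ_le hj) a
      set x := S * a * e with hx
      -- `x * e` is congruent to `x`
      have hxe : (q : (MonoidAlgebra ℤ G)) ^ (j + 1 + 1) ∣ x * e - x := by
        refine (pow_dvd_pow _ (by omega : j + 1 + 1 ≤ k + 1)).trans ⟨S * a * u, ?_⟩
        rw [hx, mul_assoc (S * a) e e, ← mul_sub, hu, ← mul_assoc,
          ← ((Nat.cast_commute q (S * a)).pow_left (k + 1)).eq, mul_assoc]
      have hox : (orderOf g : (MonoidAlgebra ℤ G)) * x = (q : (MonoidAlgebra ℤ G)) ^ (j + 1) * (S * w) := by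
        rw [← mul_assoc ((q : (MonoidAlgebra ℤ G)) ^ (j + 1)), ((Nat.cast_commute q S).pow_left (j + 1)).eq, mul_assoc S,
          ← hw, hx]
        simp only [← mul_assoc, S, powSum_mul_self]
      have hoxe : (q : (MonoidAlgebra ℤ G)) ^ (j + 1 + 1) ∣ (orderOf g : (MonoidAlgebra ℤ G)) * x * e := by
        obtain ⟨w', hw'⟩ := base w
        refine ⟨w', ?_⟩
        rw [hox, mul_assoc, hw', ← mul_assoc, ← pow_succ]
      have hoxd : (q : (MonoidAlgebra ℤ G)) ^ (j + 1 + 1) ∣ (orderOf g : (MonoidAlgebra ℤ G)) * x := by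
        obtain ⟨v, hv⟩ := hoxe
        obtain ⟨v', hv'⟩ := hxe
        refine ⟨v - (orderOf g : (MonoidAlgebra ℤ G)) * v', ?_⟩
        have e1 : (orderOf g : (MonoidAlgebra ℤ G)) * x =
            (orderOf g : (MonoidAlgebra ℤ G)) * x * e - (orderOf g : (MonoidAlgebra ℤ G)) * (x * e - x) := by
          rw [mul_sub, mul_assoc]; abel
        rw [e1, hv, hv', mul_sub, ← mul_assoc, ← mul_assoc, (Nat.cast_commute (orderOf g) _).eq]
      have h1 : x = (α : (MonoidAlgebra ℤ G)) * ((orderOf g : (MonoidAlgebra ℤ G)) * x) + (β : (MonoidAlgebra ℤ G)) * ((q : (MonoidAlgebra ℤ G)) * x) := by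
        have hab' : (α : (MonoidAlgebra ℤ G)) * (orderOf g : (MonoidAlgebra ℤ G)) + (β : (MonoidAlgebra ℤ G)) * (q : (MonoidAlgebra ℤ G)) = 1 := by
          exact_mod_cast congrArg (Int.cast (R := (MonoidAlgebra ℤ G))) hab
        conv_lhs => rw [← one_mul x, ← hab', add_mul, mul_assoc, mul_assoc]
      rw [h1]
      obtain ⟨v, hv⟩ := hoxd
      refine dvd_add ⟨(α : (MonoidAlgebra ℤ G)) * v, ?_⟩ ⟨(β : (MonoidAlgebra ℤ G)) * w, ?_⟩
      · rw [hv, ← mul_assoc, (Int.cast_commute α _).eq, mul_assoc]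
      · rw [hw, ← mul_assoc (q : (MonoidAlgebra ℤ G)), ← pow_succ', ← mul_assoc, (Int.cast_commute β _).eq, mul_assoc]
  -- the lattice
  let Φ : (MonoidAlgebra ℤ G) →ₗ[ℤ] (G × G → (MonoidAlgebra ℤ G)) := LinearMap.pi fun p =>
    if p.1 = 1 then 0 else LinearMap.mulLeft ℤ (powSum ℤ p.1 * MonoidAlgebra.of ℤ G p.2)
  have hΦ : ∀ x, x ∈ LinearMap.ker Φ ↔
      ∀ g : G, g ≠ 1 → ∀ a : G, powSum ℤ g * MonoidAlgebra.of ℤ G a * x = 0 := by
    intro x
    rw [LinearMap.mem_ker, funext_iff]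
    constructor
    · intro h g hg a
      have := h (g, a)
      simpa [Φ, hg, mul_assoc] using this
    · rintro h ⟨g, a⟩
      by_cases hg : g = 1
      · simp [Φ, hg]
      · simpa [Φ, hg, mul_assoc] using h g hg a
  haveI : Module.Finite ℤ (MonoidAlgebra ℤ G) := Module.Finite.equiv (MonoidAlgebra.coeffLinearEquiv ℤ).symm
  haveI : Module.Free ℤ (MonoidAlgebra ℤ G) := Module.Free.of_equiv (MonoidAlgebra.coeffLinearEquiv ℤ).symm
  have hne : LinearMap.ker Φ ≠ ⊥ := by
    intro hbot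
    obtain ⟨k, hk⟩ := Ideal.exists_pow_inf_eq_pow_smul (Ideal.span {(q : ℤ)}) (LinearMap.range Φ)
    obtain ⟨e, u, he, hu⟩ := hlift k
    have hsm := hsmall k e u he hu
    have hmem : Φ e ∈ Ideal.span {(q : ℤ)} ^ (k + 1) • (⊤ : Submodule ℤ (G × G → (MonoidAlgebra ℤ G))) := by
      have hall : ∀ p : G × G, ∃ w : (MonoidAlgebra ℤ G), Φ e p = (q : (MonoidAlgebra ℤ G)) ^ (k + 1) * w := fun p => by
        by_cases hg : p.1 = 1
        · exact ⟨0, by simp [Φ, hg]⟩
        · obtain ⟨w, hw⟩ := hsm p.1 hg (MonoidAlgebra.of ℤ G p.2)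
          exact ⟨w, by simpa [Φ, hg, mul_assoc] using hw⟩
      choose w hw using hall
      rw [Ideal.span_singleton_pow, Submodule.ideal_span_singleton_smul,
        Submodule.mem_smul_pointwise_iff_exists]
      refine ⟨w, Submodule.mem_top, funext fun p => ?_⟩
      rw [hw p, Pi.smul_apply, zsmul_eq_mul]
      push_cast
      rfl
    have h1 : Φ e ∈ Ideal.span {(q : ℤ)} ^ (k + 1 - k) • LinearMap.range Φ := by
      refine Submodule.smul_mono le_rfl (inf_le_right (a := Ideal.span {(q : ℤ)} ^ k • ⊤)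
        (b := LinearMap.range Φ)) ?_
      rw [← hk (k + 1) (by omega)]
      exact ⟨hmem, ⟨e, rfl⟩⟩
    rw [Nat.add_sub_cancel_left, pow_one, Submodule.ideal_span_singleton_smul,
      Submodule.mem_smul_pointwise_iff_exists] at h1
    obtain ⟨_, ⟨v, rfl⟩, hv⟩ := h1
    rw [← map_smul] at hv
    have hv' : (q : ℤ) • v = e := LinearMap.ker_eq_bot.mp hbot hv
    rw [← he, ← hv', zsmul_eq_mul, map_mul, Int.cast_natCast, pr_q, zero_mul] at hε0
    exact hε0 rfl
  set L : Submodule ℤ (MonoidAlgebra ℤ G) := LinearMap.ker Φ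
  haveI : Nontrivial L := Submodule.nontrivial_iff_ne_bot.mpr hne
  obtain ⟨m, hm⟩ := Nat.exists_eq_succ_of_ne_zero (Module.finrank_pos (R := ℤ) (M := L)).ne'
  let b : Basis (Fin (m + 1)) ℤ L := (Module.finBasis ℤ L).reindex (finCongr hm)
  have hstab : ∀ h : G, ∀ x ∈ L, MonoidAlgebra.of ℤ G h * x ∈ L := by
    intro h x hx
    rw [hΦ] at hx ⊢
    intro g hg a
    rw [← mul_assoc, mul_assoc (powSum ℤ g), ← map_mul]
    exact hx g hg _
  let T : G →* Module.End ℤ L :=
    { toFun := fun h => (LinearMap.mulLeft ℤ (MonoidAlgebra.of ℤ G h)).restrict (hstab h)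
      map_one' := LinearMap.ext fun x => Subtype.ext (by
        show MonoidAlgebra.of ℤ G 1 * _ = _
        rw [map_one, one_mul]; rfl)
      map_mul' := fun g h => LinearMap.ext fun x => Subtype.ext (by
        show MonoidAlgebra.of ℤ G (g * h) * _ = MonoidAlgebra.of ℤ G g * (MonoidAlgebra.of ℤ G h * _)
        rw [map_mul, mul_assoc]) }
  refine ⟨m, (LinearMap.toMatrixAlgEquiv b).toMulEquiv.toMonoidHom.comp T, fun g hg hdet => ?_⟩
  change (LinearMap.toMatrixAlgEquiv b (T g) - 1).det = 0 at hdet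
  rw [← map_one (LinearMap.toMatrixAlgEquiv b), ← map_sub] at hdet
  change (LinearMap.toMatrix b b (T g - 1)).det = 0 at hdet
  rw [LinearMap.det_toMatrix] at hdet
  obtain ⟨x, hx, hx0⟩ := (Submodule.ne_bot_iff _).mp (LinearMap.bot_lt_ker_of_det_eq_zero hdet).ne'
  rw [LinearMap.mem_ker, LinearMap.sub_apply, Module.End.one_apply, sub_eq_zero] at hx
  refine hx0 (Subtype.ext ?_)
  have hgx : MonoidAlgebra.of ℤ G g * (x : (MonoidAlgebra ℤ G)) = x := congrArg Subtype.val hx
  have hS : powSum ℤ g * (x : (MonoidAlgebra ℤ G)) = 0 := by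
    have := (hΦ x).mp x.2 g hg 1
    rwa [map_one, mul_one] at this
  have hS2 : powSum ℤ g * (x : (MonoidAlgebra ℤ G)) = (orderOf g : (MonoidAlgebra ℤ G)) * x := by
    have hpw : ∀ i : ℕ, MonoidAlgebra.of ℤ G g ^ i * (x : (MonoidAlgebra ℤ G)) = x := fun i => by
      induction i with
      | zero => rw [pow_zero, one_mul]
      | succ i ih => rw [pow_succ, mul_assoc, hgx, ih]
    rw [powSum, Finset.sum_mul, Finset.sum_congr rfl fun i _ => hpw i, Finset.sum_const, Finset.card_range,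
      nsmul_eq_mul]
  rw [hS, ← nsmul_eq_mul] at hS2
  refine MonoidAlgebra.ext (Finsupp.ext fun a => ?_)
  have := congrArg (fun y : (MonoidAlgebra ℤ G) => y.coeff a) hS2
  simp only [MonoidAlgebra.coeff_smul, Finsupp.smul_apply, MonoidAlgebra.coeff_zero, Finsupp.coe_zero,
    Pi.zero_apply] at this
  simpa [(orderOf_pos g).ne'] using this

/-- integral representations can be reduced -/
theorem IntFpf.fc (h : IntFpf G) : FC G := by
  classical
  obtain ⟨n, ρ, hρ⟩ := h
  haveI := Fintype.ofFinite G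
  obtain ⟨q, hqP, hq⟩ := Nat.exists_infinite_primes
    ((∑ g : G, (ρ g - 1).det.natAbs) + 1)
  haveI := Fact.mk hq
  refine ⟨q, ⟨hq⟩, n, (Int.castRingHom (ZMod q)).mapMatrix.toMonoidHom.comp ρ, fun g hg e => ?_⟩
  change ((Int.castRingHom (ZMod q)).mapMatrix (ρ g) - 1).det = 0 at e
  rw [← map_one (Int.castRingHom (ZMod q)).mapMatrix, ← map_sub, ← RingHom.map_det, eq_intCast,
    ZMod.intCast_zmod_eq_zero_iff_dvd, ← Int.dvd_natAbs, Int.natCast_dvd_natCast] at e
  have h1 := Nat.le_of_dvd (Int.natAbs_pos.mpr (hρ g hg)) e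
  have h2 : (ρ g - 1).det.natAbs ≤ ∑ g : G, (ρ g - 1).det.natAbs :=
    Finset.single_le_sum (f := fun g : G => (ρ g - 1).det.natAbs) (fun _ _ => Nat.zero_le _)
      (Finset.mem_univ g)
  omega

theorem sub_kronecker' {l n : Type*} (A A' : Matrix l l ℤ) (B : Matrix n n ℤ) :
    (A - A') ⊗ₖ B = A ⊗ₖ B - A' ⊗ₖ B := by
  rw [eq_sub_iff_add_eq, ← Matrix.add_kronecker, sub_add_cancel]

theorem kronecker_sub' {l n : Type*} (A : Matrix l l ℤ) (B B' : Matrix n n ℤ) :
    A ⊗ₖ (B - B') = A ⊗ₖ B - A ⊗ₖ B' := by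
  rw [eq_sub_iff_add_eq, ← Matrix.kronecker_add, sub_add_cancel]

/-- products of groups of coprime order -/
theorem IntFpf.prod {H : Type*} [Group H] [Finite H] (hG : IntFpf G) (hH : IntFpf H)
    (hco : (Nat.card G).Coprime (Nat.card H)) : IntFpf (G × H) := by
  classical
  obtain ⟨n, ρ, hρ⟩ := hG
  obtain ⟨m, σ, hσ⟩ := hH
  obtain ⟨N, hN⟩ : ∃ N, (n + 1) * (m + 1) = N + 1 := ⟨n * m + n + m, by ring⟩
  let e : Fin (n + 1) × Fin (m + 1) ≃ Fin (N + 1) := finProdFinEquiv.trans (finCongr hN)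
  let τ : G × H →* Matrix (Fin (N + 1)) (Fin (N + 1)) ℤ :=
    ((Matrix.reindexAlgEquiv ℤ ℤ e).toMulEquiv.toMonoidHom).comp
      { toFun := fun p : G × H => ρ p.1 ⊗ₖ σ p.2
        map_one' := by rw [Prod.fst_one, Prod.snd_one, map_one, map_one, Matrix.one_kronecker_one]
        map_mul' := fun p p' => by
          rw [Prod.fst_mul, Prod.snd_mul, map_mul, map_mul, Matrix.mul_kronecker_mul] }
  refine ⟨N, τ, fun p hp hdet => ?_⟩
  have hpow : ∀ j : ℕ, (τ (p ^ j) - 1).det = 0 := fun j => by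
    rw [map_pow, ← geom_sum_mul, Matrix.det_mul, hdet, mul_zero]
  have hre : ∀ M : Matrix (Fin (n + 1) × Fin (m + 1)) (Fin (n + 1) × Fin (m + 1)) ℤ,
      (Matrix.reindexAlgEquiv ℤ ℤ e M - 1).det = (M - 1).det := fun M => by
    rw [← map_one (Matrix.reindexAlgEquiv ℤ ℤ e), ← map_sub, Matrix.det_reindexAlgEquiv]
  by_cases hp1 : p.1 = 1
  · have hp2 : p.2 ≠ 1 := fun h => hp (Prod.ext hp1 h)
    have hx : p.2 ^ Nat.card G ≠ 1 := fun h => hp2 (orderOf_eq_one_iff.mp (Nat.eq_one_of_dvd_coprimes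
      hco (orderOf_dvd_of_pow_eq_one h) (orderOf_dvd_natCard p.2)))
    have h := hpow (Nat.card G)
    change (Matrix.reindexAlgEquiv ℤ ℤ e (ρ (p.1 ^ Nat.card G) ⊗ₖ σ (p.2 ^ Nat.card G)) - 1).det = 0 at h
    rw [hre, pow_card_eq_one', map_one, ← Matrix.one_kronecker_one, ← kronecker_sub',
      Matrix.det_kronecker, Matrix.det_one, one_pow, one_mul] at h
    exact hσ _ hx (pow_eq_zero_iff (by simp) |>.mp h)
  · have hx : p.1 ^ Nat.card H ≠ 1 := fun h => hp1 (orderOf_eq_one_iff.mp (Nat.eq_one_of_dvd_coprimes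
      hco (orderOf_dvd_natCard p.1) (orderOf_dvd_of_pow_eq_one h)))
    have h := hpow (Nat.card H)
    change (Matrix.reindexAlgEquiv ℤ ℤ e (ρ (p.1 ^ Nat.card H) ⊗ₖ σ (p.2 ^ Nat.card H)) - 1).det = 0 at h
    rw [hre, pow_card_eq_one' (x := p.2), map_one, ← Matrix.one_kronecker_one, ← sub_kronecker',
      Matrix.det_kronecker, Matrix.det_one, one_pow, mul_one] at h
    exact hρ _ hx (pow_eq_zero_iff (by simp) |>.mp h)

end Cfsg.Agent.Zassenhaus
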