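import Cfsg.Agent.Lib.Zassenhaus.Quat

/-!
Classification of the axes relative to a frame.
-/

set_option autoImplicit false
set_option maxHeartbeats 800000

namespace Cfsg.Agent.Zassenhaus

variable {G : Type*} [Group G] {k : Type*} [Field k] {A : Type*} [Ring A] [Algebra k A] [Nontrivial A]
  {ρ : G →* A}

theorem ofNat_ne_zero' {n : ℕ} [n.AtLeastTwo] (h : ((n : ℕ) : k) ≠ 0) :
    (OfNat.ofNat n : A) ≠ 0 := by
  rw [← map_ofNat (algebraMap k A) n]
  intro e
  exact h (algMap_inj (A := A) (e.trans (map_zero _).symm))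

theorem nat_ne_zero (hG : Geo k ρ) : (4 : A) ≠ 0 ∧ (8 : A) ≠ 0 ∧ (3 : A) ≠ 0 ∧ (64 : A) ≠ 0 := by
  have h2 := hG.two
  have h4 : ((4 : ℕ) : k) ≠ 0 := by
    have := mul_ne_zero h2 h2; norm_num at this ⊢; exact this
  have h8 : ((8 : ℕ) : k) ≠ 0 := by
    rw [show (8 : ℕ) = 2 * 4 from rfl, Nat.cast_mul]; exact mul_ne_zero (by simpa using h2) h4
  have h64 : ((64 : ℕ) : k) ≠ 0 := by
    rw [show (64 : ℕ) = 8 * 8 from rfl, Nat.cast_mul]; exact mul_ne_zero h8 h8
  exact ⟨ofNat_ne_zero' h4, ofNat_ne_zero' h8,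
    ofNat_ne_zero' (by simpa using hG.three), ofNat_ne_zero' h64⟩

variable (F : Frame ρ) (hG : Geo k ρ)
include hG

namespace Frame

theorem axis_X : IsAxis ρ (F.q 0 1 1 1) :=
  ⟨F.x, F.x1, F.x3, by rw [F.axx]; simp [q]⟩

theorem frame_step {a b c d : A} (ha : F.InC a) (hb : F.InC b) (hc : F.InC c) (hd : F.InC d)
    (hY : IsAxis ρ (F.q a b c d)) :
    (F.q a b c d = F.q 0 1 1 1 ∨ F.q a b c d = -F.q 0 1 1 1) ∨
      (a = 0 ∧ (b + c + d = 1 ∨ b + c + d = -1)) ∨
      ((5 : k) ≠ 0 ∧ (b + c + d) * (b + c + d) - 3 * (a * a) = 5 ∧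
        (b + c + d) * a + a * (b + c + d) = 0) := by
  have h2 := hG.two
  set u := b + c + d with hu
  have hT : F.q 0 1 1 1 * F.q a b c d + F.q a b c d * F.q 0 1 1 1
      = F.q (-(2 * u)) (2 * a) (2 * a) (2 * a) := by
    rw [F.q_mul F.inC_zero F.inC_one F.inC_one F.inC_one, F.q_mul ha hb hc hd, F.q_add]
    congr 1 <;> [skip; skip; skip; skip] <;>
      simp only [hu, zero_mul, one_mul, mul_zero, mul_one] <;> noncomm_ring
  have i2a : F.InC (2 * a) := F.inC_mul F.inC_two ha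
  have i2u : F.InC (-(2 * u)) :=
    F.inC_neg (F.inC_mul F.inC_two (F.inC_add (F.inC_add hb hc) hd))
  have zero := F.inC_zero
  rcases axes_cases hG (F.axis_X hG) hY with h | h | h | h | ⟨h, h5⟩
  · exact Or.inl (Or.inl h)
  · exact Or.inl (Or.inr h)
  · rw [hT] at h
    replace h := h.trans (F.q_scalar _).symm
    obtain ⟨e1, e2, -, -⟩ := F.q_inj h2 i2u i2a i2a i2a (F.inC_neg F.inC_two) zero zero zero h
    refine Or.inr (Or.inl ⟨two_cancel h2 (by rw [e2, mul_zero]), Or.inl (two_cancel h2 ?_)⟩)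
    rw [mul_one]; exact neg_injective e1
  · rw [hT] at h
    replace h := h.trans (F.q_scalar _).symm
    obtain ⟨e1, e2, -, -⟩ := F.q_inj h2 i2u i2a i2a i2a F.inC_two zero zero zero h
    refine Or.inr (Or.inl ⟨two_cancel h2 (by rw [e2, mul_zero]), Or.inr (two_cancel h2 ?_)⟩)
    rw [mul_neg, mul_one]; exact neg_eq_iff_eq_neg.mp e1
  · rw [hT, F.q_mul i2u i2a i2a i2a, ← F.q_scalar 20] at h
    have i20 : F.InC (20 : A) := by
      rw [show (20 : A) = ((20 : ℤ) : A) by simp]; exact F.inC_int 20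
    have hS : ∀ p q : A, F.InC p → F.InC q → F.InC (p * q) := fun p q => F.inC_mul
    obtain ⟨e1, e2, -, -⟩ := F.q_inj h2
      (F.inC_sub (F.inC_sub (F.inC_sub (hS _ _ i2u i2u) (hS _ _ i2a i2a)) (hS _ _ i2a i2a))
        (hS _ _ i2a i2a))
      (F.inC_sub (F.inC_add (F.inC_add (hS _ _ i2u i2a) (hS _ _ i2a i2u)) (hS _ _ i2a i2a))
        (hS _ _ i2a i2a))
      (F.inC_add (F.inC_add (F.inC_sub (hS _ _ i2u i2a) (hS _ _ i2a i2a)) (hS _ _ i2a i2u))
        (hS _ _ i2a i2a))
      (F.inC_add (F.inC_sub (F.inC_add (hS _ _ i2u i2a) (hS _ _ i2a i2a)) (hS _ _ i2a i2a))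
        (hS _ _ i2a i2u))
      i20 zero zero zero h
    refine Or.inr (Or.inr ⟨h5, ?_, ?_⟩)
    · apply two_cancel h2
      apply two_cancel h2
      rw [show (2 : A) * (2 * 5) = 20 by norm_num, ← e1]
      noncomm_ring
    · apply two_cancel h2
      apply two_cancel h2
      rw [mul_zero, mul_zero, ← neg_eq_zero, ← e2]
      noncomm_ring

/-- the alternatives for one of the four axes of the frame -/
def Alt (k : Type*) [Field k] (a u : A) : Prop :=
  (a = 0 ∧ (u = 1 ∨ u = -1)) ∨ ((5 : k) ≠ 0 ∧ u * u - 3 * (a * a) = 5 ∧ u * a + a * u = 0)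

/-- the standard axis with parameter `S` -/
def Yq (k : Type*) [Field k] [Algebra k A] (S : A) : A :=
  F.q 0 0 (algebraMap k A 2⁻¹ * (S - 1)) (algebraMap k A 2⁻¹ * (S + 1))

/-- parameters of axes -/
def InS (k : Type*) [Field k] [Algebra k A] (S : A) : Prop :=
  F.InC S ∧ S * S = 5 ∧ (5 : k) ≠ 0 ∧ IsAxis ρ (F.Yq k S)

omit hG [Nontrivial A] in
theorem two_half (h2 : (2 : k) ≠ 0) (z : A) : 2 * (algebraMap k A 2⁻¹ * z) = z := by
  rw [← mul_assoc, ← map_ofNat (algebraMap k A), ← map_mul, mul_inv_cancel₀ h2, map_one, one_mul]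

theorem to_S {c d : A} (hc : F.InC c) (hd : F.InC d) (hY : IsAxis ρ (F.q 0 0 c d))
    (hcd : c - d = -1) (h5 : (5 : k) ≠ 0) (hu : (c + d) * (c + d) = 5) :
    F.InS k (c + d) ∧ F.q 0 0 c d = F.Yq k (c + d) := by
  have h2 := hG.two
  have e : F.q 0 0 c d = F.Yq k (c + d) := by
    rw [Yq]
    congr 1
    · apply two_cancel h2
      rw [two_half h2, show c + d - 1 = c + d + (c - d) by rw [hcd]; abel]
      noncomm_ring
    · apply two_cancel h2
      rw [two_half h2, show c + d + 1 = c + d - (c - d) by rw [hcd]; abel]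
      noncomm_ring
  exact ⟨⟨F.inC_add hc hd, hu, h5, e ▸ hY⟩, e⟩

theorem canonical {b c d : A} (hb : F.InC b) (hc : F.InC c) (hd : F.InC d)
    (hY : IsAxis ρ (F.q 0 b c d)) (h3 : -b + c - d = 1 ∨ -b + c - d = -1)
    (h4 : -b - c + d = 1 ∨ -b - c + d = -1) (h5 : (5 : k) ≠ 0)
    (h1 : (b + c + d) * (b + c + d) = 5) :
    ∃ S, F.InS k S ∧ (F.q 0 b c d = F.Yq k S ∨ F.q 0 b c d = -F.Yq k S) := by
  have h2 := hG.two
  obtain ⟨n4, -, -, -⟩ := nat_ne_zero hG
  have key : ∀ {b c d : A}, F.InC b → F.InC c → F.InC d → IsAxis ρ (F.q 0 b c d) →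
      -b + c - d = -1 → -b - c + d = -1 → (b + c + d) * (b + c + d) = 5 → False := by
    intro b c d hb hc hd hY h3 h4 h1
    have hb1 : b = 1 := two_cancel h2 (by
      rw [show (2 : A) * b = -((-b + c - d) + (-b - c + d)) by noncomm_ring, h3, h4]; noncomm_ring)
    subst hb1
    have hcd : c = d := two_cancel h2 (by
      rw [show (2 : A) * c = 2 * d + ((-1 + c - d) - (-1 - c + d)) by noncomm_ring, h3, h4, sub_self,
        add_zero])
    subst hcd
    have hsq := hY.sq hG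
    rw [F.q_mul F.inC_zero F.inC_one hc hc, ← F.q_scalar (-3)] at hsq
    have i3 : F.InC (-3 : A) := F.inC_neg (by
      rw [show (3 : A) = ((3 : ℤ) : A) by simp]; exact F.inC_int 3)
    simp only [zero_mul, one_mul, mul_zero, mul_one, zero_add, add_zero, zero_sub, sub_self,
      add_neg_cancel, neg_add_cancel] at hsq
    obtain ⟨e1, -, -, -⟩ := F.q_inj h2
      (F.inC_sub (F.inC_sub (F.inC_neg F.inC_one) (F.inC_mul hc hc)) (F.inC_mul hc hc))
      F.inC_zero F.inC_zero F.inC_zero i3 F.inC_zero F.inC_zero F.inC_zero hsq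
    have hcc : c * c = 1 := two_cancel h2 (by
      rw [mul_one, show (2 : A) * (c * c) = -1 - (-1 - c * c - c * c) by noncomm_ring, e1]
      norm_num)
    have hc0 : c = 0 := by
      refine two_cancel h2 (two_cancel h2 ?_)
      rw [show (2 : A) * (2 * c) = (1 + c + c) * (1 + c + c) - 4 * (c * c) - 1 by noncomm_ring, h1, hcc]
      norm_num
    rw [hc0, mul_zero] at hcc
    exact zero_ne_one hcc
  have neg1 : -F.q 0 b c d = F.q 0 (-b) (-c) (-d) := by rw [F.q_neg, neg_zero]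
  have hYn : IsAxis ρ (F.q 0 (-b) (-c) (-d)) := neg1 ▸ hY.neg hG
  rcases h3 with h3 | h3 <;> rcases h4 with h4 | h4
  · refine (key (F.inC_neg hb) (F.inC_neg hc) (F.inC_neg hd) hYn ?_ ?_ ?_).elim
    · rw [← h3]; abel
    · rw [← h4]; abel
    · rw [← h1]; noncomm_ring
  · have hb0 : b = 0 := two_cancel h2 (by
      rw [show (2 : A) * b = -((-b + c - d) + (-b - c + d)) by noncomm_ring, h3, h4]; noncomm_ring)
    subst hb0
    rw [neg_zero] at hYn neg1
    obtain ⟨hS, e⟩ := F.to_S hG (F.inC_neg hc) (F.inC_neg hd) hYn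
      (by rw [show -c - -d = -(-0 + c - d) by abel, h3]) h5 (by rw [← h1]; noncomm_ring)
    exact ⟨_, hS, Or.inr (by rw [← e, ← neg1, neg_neg])⟩
  · have hb0 : b = 0 := two_cancel h2 (by
      rw [show (2 : A) * b = -((-b + c - d) + (-b - c + d)) by noncomm_ring, h3, h4]; noncomm_ring)
    subst hb0
    obtain ⟨hS, e⟩ := F.to_S hG hc hd hY (by rw [show c - d = -0 + c - d by abel, h3]) h5
      (by rw [← h1]; noncomm_ring)
    exact ⟨_, hS, Or.inl e⟩
  · exact (key hb hc hd hY h3 h4 h1).elim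

theorem no_commute {g : G} (hg : ρ g * ρ g = -1) {Y Z : A} (hY : IsAxis ρ Y) (hZ : IsAxis ρ Z)
    (hgY : Commute (ρ g) Y) (hgZ : Commute (ρ g) Z) (hT : Y * Z + Z * Y = 2) : False := by
  have h2 := hG.two
  obtain ⟨n4, n8, -, -⟩ := nat_ne_zero hG
  have hY2 := hY.sq hG
  obtain ⟨y, hy1, hy3, rfl⟩ := hY
  obtain ⟨z, hz1, hz3, rfl⟩ := hZ
  have hne : ¬ Commute y z := by
    intro hc
    rcases hG.fpf.three_commute hy1 hz1 hy3 hz3 hc with rfl | rfl
    · rw [hY2] at hT
      exact n8 (by rw [show (8 : A) = 2 - (-3 + -3) by norm_num, hT, sub_self])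
    · rw [ax_inv hy3 (hG.fpf.three hy1 hy3), mul_neg, neg_mul, hY2] at hT
      exact n4 (by rw [show (4 : A) = (-(-3) + -(-3)) - 2 by norm_num, hT, sub_self])
  obtain ⟨F', -, mi, mj⟩ := exists_frame hG hy1 hz1 hy3 hz3 hne
  have gen : ∀ w ∈ Subgroup.closure ({y, z} : Set G), Commute (ρ g) (ρ w) := by
    intro w hw
    induction hw using Subgroup.closure_induction with
    | mem w hw =>
      have h : ∀ v : G, Commute (ρ g) (ax ρ v) → Commute (ρ g) (ρ v) := by
        intro v hv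
        refine two_cancel h2 ?_
        have e := hv.eq
        rw [ax, mul_add, add_mul, mul_one, one_mul, add_left_inj, ← mul_assoc,
          ← (Commute.ofNat_left 2 (ρ g)).eq, mul_assoc, mul_assoc] at e
        exact e
      rcases hw with rfl | rfl
      · exact h _ hgY
      · exact h _ hgZ
    | one => rw [map_one]; exact Commute.one_right _
    | mul a b _ _ ha hb => rw [map_mul]; exact ha.mul_right hb
    | inv a _ ha =>
      show _ = _
      calc ρ g * ρ a⁻¹ = ρ a⁻¹ * (ρ a * ρ g) * ρ a⁻¹ := by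
            rw [← mul_assoc (ρ a⁻¹), ← map_mul ρ a⁻¹ a, inv_mul_cancel, map_one, one_mul]
        _ = ρ a⁻¹ * (ρ g * ρ a) * ρ a⁻¹ := by rw [ha.eq]
        _ = ρ a⁻¹ * ρ g := by
            rw [mul_assoc, mul_assoc, ← map_mul ρ a a⁻¹, mul_inv_cancel, map_one, mul_one]
  have hi := gen _ mi
  have hj := gen _ mj
  have hpm : ρ (g * F'.gi) = 1 ∨ ρ (g * F'.gi) = -1 := by
    by_cases h1 : g * F'.gi = 1
    · exact Or.inl (by rw [h1, map_one])
    refine Or.inr (hG.fpf.eq_neg_one h1 (hG.fpf.injective ?_))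
    rw [pow_two, map_mul, map_mul, map_one,
      show ρ g * ρ F'.gi * (ρ g * ρ F'.gi) = ρ g * (ρ F'.gi * ρ g) * ρ F'.gi by noncomm_ring,
      ← hi.eq, show ρ g * (ρ g * ρ F'.gi) * ρ F'.gi = (ρ g * ρ g) * (ρ F'.gi * ρ F'.gi) by noncomm_ring,
      hg, F'.ii, neg_one_mul, neg_neg]
  have hgi : ρ F'.gi = -ρ g ∨ ρ F'.gi = ρ g := by
    have e : ρ g * ρ (g * F'.gi) = -ρ F'.gi := by
      rw [map_mul, ← mul_assoc, hg, neg_one_mul]
    rcases hpm with h | h <;> rw [h] at e
    · rw [mul_one] at e; exact Or.inl (by rw [e, neg_neg])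
    · rw [mul_neg, mul_one, neg_inj] at e; exact Or.inr e.symm
  have hc : Commute (ρ F'.gi) (ρ F'.gj) := by
    rcases hgi with h | h <;> rw [h]
    · exact hj.neg_left
    · exact hj
  have h0 : ρ F'.gi * ρ F'.gj = 0 := two_cancel h2 (by
    rw [mul_zero, two_mul]
    nth_rewrite 1 [hc.eq]
    rw [F'.ji, neg_add_cancel])
  have : ρ F'.gi * ρ F'.gj * (ρ F'.gj * ρ F'.gi) = 1 := by
    rw [show ρ F'.gi * ρ F'.gj * (ρ F'.gj * ρ F'.gi) = ρ F'.gi * (ρ F'.gj * ρ F'.gj) * ρ F'.gi by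
      noncomm_ring, F'.jj, mul_neg, mul_one, neg_mul, F'.ii, neg_neg]
  rw [h0, zero_mul] at this
  exact zero_ne_one this

theorem all_five {a b c d : A} (ha : F.InC a) (hb : F.InC b) (hc : F.InC c) (hd : F.InC d)
    (hY : IsAxis ρ (F.q a b c d))
    (e1 : (b + c + d) * (b + c + d) - 3 * (a * a) = 5 ∧ (b + c + d) * a + a * (b + c + d) = 0)
    (e2 : (b - c - d) * (b - c - d) - 3 * (a * a) = 5 ∧ (b - c - d) * a + a * (b - c - d) = 0)
    (e3 : (-b + c - d) * (-b + c - d) - 3 * (a * a) = 5 ∧ (-b + c - d) * a + a * (-b + c - d) = 0)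
    (e4 : (-b - c + d) * (-b - c + d) - 3 * (a * a) = 5 ∧ (-b - c + d) * a + a * (-b - c + d) = 0) :
    False := by
  have h2 := hG.two
  obtain ⟨n4, n8, n3, -⟩ := nat_ne_zero hG
  obtain ⟨u1, v1⟩ := e1
  obtain ⟨u2, v2⟩ := e2
  obtain ⟨u3, v3⟩ := e3
  obtain ⟨u4, v4⟩ := e4
  have cancel2 : ∀ z : A, 2 * z = 0 → z = 0 := fun z hz => two_cancel h2 (by rw [hz, mul_zero])
  have cancel4 : ∀ z : A, 2 * (2 * z) = 0 → z = 0 := fun z hz => cancel2 z (cancel2 _ hz)
  -- anticommutators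
  have hab : b * a + a * b = 0 := cancel2 _ (by
    have := congrArg₂ (· + ·) v1 v2
    simp only [add_zero] at this
    rw [← this]; noncomm_ring)
  have hac : c * a + a * c = 0 := cancel2 _ (by
    have := congrArg₂ (· + ·) v1 v3
    simp only [add_zero] at this
    rw [← this]; noncomm_ring)
  have had : d * a + a * d = 0 := cancel2 _ (by
    have := congrArg₂ (· + ·) v1 v4
    simp only [add_zero] at this
    rw [← this]; noncomm_ring)
  have d12 : b * c + c * b + (b * d + d * b) = 0 := cancel2 _ (by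
    have := congrArg₂ (· - ·) u1 u2
    simp only [sub_self] at this
    rw [← this]; noncomm_ring)
  have d13 : b * c + c * b + (c * d + d * c) = 0 := cancel2 _ (by
    have := congrArg₂ (· - ·) u1 u3
    simp only [sub_self] at this
    rw [← this]; noncomm_ring)
  have d14 : b * d + d * b + (c * d + d * c) = 0 := cancel2 _ (by
    have := congrArg₂ (· - ·) u1 u4
    simp only [sub_self] at this
    rw [← this]; noncomm_ring)
  have abc : b * c + c * b = 0 := cancel2 _ (by
    calc 2 * (b * c + c * b) = (b * c + c * b + (b * d + d * b)) + (b * c + c * b + (c * d + d * c))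
          - (b * d + d * b + (c * d + d * c)) := by noncomm_ring
      _ = 0 := by rw [d12, d13, d14]; noncomm_ring)
  have abd : b * d + d * b = 0 := by rw [abc, zero_add] at d12; exact d12
  have acd : c * d + d * c = 0 := by rw [abc, zero_add] at d13; exact d13
  have hsq := hY.sq hG
  rw [F.q_mul ha hb hc hd, ← F.q_scalar (-3)] at hsq
  have i3 : F.InC (-3 : A) := F.inC_neg (by
    rw [show (3 : A) = ((3 : ℤ) : A) by simp]; exact F.inC_int 3)
  obtain ⟨s0, s1, s2, s3⟩ := F.q_inj h2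
    (F.inC_sub (F.inC_sub (F.inC_sub (F.inC_mul ha ha) (F.inC_mul hb hb)) (F.inC_mul hc hc))
      (F.inC_mul hd hd))
    (F.inC_sub (F.inC_add (F.inC_add (F.inC_mul ha hb) (F.inC_mul hb ha)) (F.inC_mul hc hd))
      (F.inC_mul hd hc))
    (F.inC_add (F.inC_add (F.inC_sub (F.inC_mul ha hc) (F.inC_mul hb hd)) (F.inC_mul hc ha))
      (F.inC_mul hd hb))
    (F.inC_add (F.inC_sub (F.inC_add (F.inC_mul ha hd) (F.inC_mul hb hc)) (F.inC_mul hc hb))
      (F.inC_mul hd ha))
    i3 F.inC_zero F.inC_zero F.inC_zero hsq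
  have bc : b * c = 0 := cancel2 _ (by
    calc 2 * (b * c) = (a * d + b * c - c * b + d * a) - (d * a + a * d) + (b * c + c * b) := by
          noncomm_ring
      _ = 0 := by rw [s3, had, abc]; noncomm_ring)
  have cb : c * b = 0 := by rw [bc, zero_add] at abc; exact abc
  have cd : c * d = 0 := cancel2 _ (by
    calc 2 * (c * d) = (a * b + b * a + c * d - d * c) - (b * a + a * b) + (c * d + d * c) := by
          noncomm_ring
      _ = 0 := by rw [s1, hab, acd]; noncomm_ring)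
  have dc : d * c = 0 := by rw [cd, zero_add] at acd; exact acd
  have db : d * b = 0 := cancel2 _ (by
    calc 2 * (d * b) = (a * c - b * d + c * a + d * b) - (c * a + a * c) + (b * d + d * b) := by
          noncomm_ring
      _ = 0 := by rw [s2, hac, abd]; noncomm_ring)
  have bd : b * d = 0 := by rw [db, add_zero] at abd; exact abd
  have haa : a * a = -1 := by
    refine two_cancel h2 (two_cancel h2 (two_cancel h2 ?_))
    have hsum := congrArg₂ (· + ·) (congrArg₂ (· + ·) u1 u2) (congrArg₂ (· + ·) u3 u4)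
    calc 2 * (2 * (2 * (a * a)))
        = -4 * (a * a - b * b - c * c - d * d)
          - ((((b + c + d) * (b + c + d) - 3 * (a * a)) + ((b - c - d) * (b - c - d) - 3 * (a * a)))
          + (((-b + c - d) * (-b + c - d) - 3 * (a * a)) + ((-b - c + d) * (-b - c + d) - 3 * (a * a)))) := by
          noncomm_ring
      _ = -4 * (-3) - ((5 + 5) + (5 + 5)) := by
          rw [s0, show ((b + c + d) * (b + c + d) - 3 * (a * a) + ((b - c - d) * (b - c - d) - 3 * (a * a)))
            + ((-b + c - d) * (-b + c - d) - 3 * (a * a) + ((-b - c + d) * (-b - c + d) - 3 * (a * a)))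
            = (5 + 5) + (5 + 5) from hsum]
      _ = 2 * (2 * (2 * -1)) := by norm_num
  have sum2 : b * b + c * c + d * d = 2 := by
    calc b * b + c * c + d * d = a * a - (a * a - b * b - c * c - d * d) := by abel
      _ = 2 := by rw [s0, haa]; norm_num
  have ba : b * a = -(a * b) := eq_neg_of_add_eq_zero_left hab
  have ca : c * a = -(a * c) := eq_neg_of_add_eq_zero_left hac
  have da : d * a = -(a * d) := eq_neg_of_add_eq_zero_left had
  have i2 : F.InC (2 : A) := F.inC_two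
  have ha0 : a ≠ 0 := fun e => by
    rw [e, mul_zero] at haa
    exact one_ne_zero (neg_eq_zero.mp haa.symm)
  -- squares of the components
  have step : ∀ (g : G) (M : A), M * M = 2 * M →
      (ρ g * F.q a b c d * ρ g⁻¹) * F.q a b c d + F.q a b c d * (ρ g * F.q a b c d * ρ g⁻¹)
        = 2 - 4 * M →
      (ρ g * F.q a b c d * ρ g⁻¹ = F.q a b c d ∨ ρ g * F.q a b c d * ρ g⁻¹ = -F.q a b c d) ∨
        M = 0 := by
    intro g M hM hT
    rcases axes_cases hG hY (hY.conj g) with h | h | h | h | ⟨h, -⟩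
    · exact Or.inl (Or.inl h)
    · exact Or.inl (Or.inr h)
    · exfalso
      rw [add_comm, hT] at h
      have h1 : M = 1 := by
        refine two_cancel h2 (two_cancel h2 ?_)
        rw [show (2 : A) * (2 * M) = 2 - (2 - 4 * M) by noncomm_ring, h]; norm_num
      rw [h1] at hM
      norm_num at hM
      exact one_ne_zero (α := A) (by
        calc (1 : A) = 2 - 1 := by norm_num
          _ = 0 := by rw [← hM, sub_self])
    · rw [add_comm, hT] at h
      exact Or.inr (cancel4 _ (by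
        calc 2 * (2 * M) = 2 - (2 - 4 * M) := by noncomm_ring
          _ = 0 := by rw [h, sub_self]))
    · exfalso
      rw [add_comm, hT, show (2 - 4 * M) * (2 - 4 * M) = 4 - 16 * M + 16 * (M * M) by
        (noncomm_ring; norm_num; abel), hM] at h
      have h1 : M = 1 := by
        refine two_cancel h2 (two_cancel h2 (two_cancel h2 (two_cancel h2 ?_)))
        calc 2 * (2 * (2 * (2 * M))) = (4 - 16 * M + 16 * (2 * M)) - 4 := by noncomm_ring
          _ = 2 * (2 * (2 * (2 * 1))) := by rw [h]; norm_num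
      rw [h1] at hM
      norm_num at hM
      exact one_ne_zero (α := A) (by
        calc (1 : A) = 2 - 1 := by norm_num
          _ = 0 := by rw [← hM, sub_self])
  have Msq : b * b * (b * b) = 2 * (b * b) ∧ c * c * (c * c) = 2 * (c * c) ∧
      d * d * (d * d) = 2 * (d * d) := by
    refine ⟨?_, ?_, ?_⟩
    · calc b * b * (b * b) = b * b * (b * b + c * c + d * d) - b * (b * c) * c - b * (b * d) * d := by
            noncomm_ring
        _ = _ := by rw [sum2, bc, bd]; noncomm_ring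
    · calc c * c * (c * c) = c * c * (b * b + c * c + d * d) - c * (c * b) * b - c * (c * d) * d := by
            noncomm_ring
        _ = _ := by rw [sum2, cb, cd]; noncomm_ring
    · calc d * d * (d * d) = d * d * (b * b + c * c + d * d) - d * (d * b) * b - d * (d * c) * c := by
            noncomm_ring
        _ = _ := by rw [sum2, db, dc]; noncomm_ring
  have zero_of : ∀ p q : A, p * q = 0 → q * q = 2 → p = 0 := fun p q hpq hqq => cancel2 p (by
    calc 2 * p = p * (q * q) := by rw [hqq]; noncomm_ring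
      _ = 0 := by rw [← mul_assoc, hpq, zero_mul])
  have neg_self : ∀ z : A, -z = z → z = 0 := fun z hz => cancel2 z (by
    rw [two_mul]; nth_rewrite 1 [← hz]; rw [neg_add_cancel])
  -- two of the components vanish in each case
  have kb : (c = 0 ∧ d = 0) ∨ b * b = 0 := by
    refine (step F.gi (b * b) Msq.1 ?_).imp ?_ id
    · rw [F.conj_i ha hb hc hd, F.q_mul ha hb (F.inC_neg hc) (F.inC_neg hd), F.q_mul ha hb hc hd,
        F.q_add, ← F.q_scalar (2 - 4 * (b * b))]
      congr 1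
      · calc _ = 2 * (a * a) + 2 * (b * b + c * c + d * d) - 4 * (b * b) := by noncomm_ring
          _ = _ := by rw [haa, sum2]; norm_num
      · simp only [ba, cd, dc, mul_neg, neg_mul]; abel
      · simp only [ca, bd, db, mul_neg, neg_mul]; abel
      · simp only [da, bc, cb, mul_neg, neg_mul]; abel
    · rintro (h | h)
      · rw [F.conj_i ha hb hc hd] at h
        obtain ⟨-, -, h3, h4⟩ := F.q_inj h2 ha hb (F.inC_neg hc) (F.inC_neg hd) ha hb hc hd h
        exact ⟨neg_self c h3, neg_self d h4⟩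
      · rw [F.conj_i ha hb hc hd, F.q_neg] at h
        obtain ⟨h1, -, -, -⟩ := F.q_inj h2 ha hb (F.inC_neg hc) (F.inC_neg hd) (F.inC_neg ha)
          (F.inC_neg hb) (F.inC_neg hc) (F.inC_neg hd) h
        exact absurd (neg_self a h1.symm) ha0
  have kc : (b = 0 ∧ d = 0) ∨ c * c = 0 := by
    refine (step F.gj (c * c) Msq.2.1 ?_).imp ?_ id
    · rw [F.conj_j ha hb hc hd, F.q_mul ha (F.inC_neg hb) hc (F.inC_neg hd), F.q_mul ha hb hc hd,
        F.q_add, ← F.q_scalar (2 - 4 * (c * c))]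
      congr 1
      · calc _ = 2 * (a * a) + 2 * (b * b + c * c + d * d) - 4 * (c * c) := by noncomm_ring
          _ = _ := by rw [haa, sum2]; norm_num
      · simp only [ba, cd, dc, mul_neg, neg_mul]; abel
      · simp only [ca, bd, db, mul_neg, neg_mul]; abel
      · simp only [da, bc, cb, mul_neg, neg_mul]; abel
    · rintro (h | h)
      · rw [F.conj_j ha hb hc hd] at h
        obtain ⟨-, h3, -, h4⟩ := F.q_inj h2 ha (F.inC_neg hb) hc (F.inC_neg hd) ha hb hc hd h
        exact ⟨neg_self b h3, neg_self d h4⟩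
      · rw [F.conj_j ha hb hc hd, F.q_neg] at h
        obtain ⟨h1, -, -, -⟩ := F.q_inj h2 ha (F.inC_neg hb) hc (F.inC_neg hd) (F.inC_neg ha)
          (F.inC_neg hb) (F.inC_neg hc) (F.inC_neg hd) h
        exact absurd (neg_self a h1.symm) ha0
  have hcases : (c = 0 ∧ d = 0) ∨ (b = 0 ∧ d = 0) ∨ (b = 0 ∧ c = 0) := by
    rcases kb with h | h
    · exact Or.inl h
    rcases kc with h' | h'
    · exact Or.inr (Or.inl h')
    have hdd : d * d = 2 := by rw [h, h', zero_add, zero_add] at sum2; exact sum2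
    exact Or.inr (Or.inr ⟨zero_of b d bd hdd, zero_of c d cd hdd⟩)
  rcases hcases with ⟨rfl, rfl⟩ | ⟨rfl, rfl⟩ | ⟨rfl, rfl⟩
  · simp only [mul_zero, add_zero] at sum2
    refine no_commute hG F.ii hY (hY.conj F.gj) ?_ ?_ ?_
    · show _ = _
      rw [F.gi_q, F.q_mul F.inC_zero F.inC_one F.inC_zero F.inC_zero, F.q_mul ha hb hc hd]
      simp
    · show _ = _
      rw [F.conj_j ha hb hc hd, neg_zero, F.gi_q,
        F.q_mul F.inC_zero F.inC_one F.inC_zero F.inC_zero, F.q_mul ha (F.inC_neg hb) hc hd]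
      simp
    · rw [F.conj_j ha hb hc hd, neg_zero, F.q_mul ha hb hc hd, F.q_mul ha (F.inC_neg hb) hc hd,
        F.q_add, ← F.q_scalar (2 : A)]
      simp only [ba, mul_zero, zero_mul, mul_neg, neg_mul, neg_neg, sum2, haa, sub_zero, add_zero]
      congr 1 <;> norm_num
  · simp only [mul_zero, add_zero, zero_add] at sum2
    refine no_commute hG F.jj hY (hY.conj F.gi) ?_ ?_ ?_
    · show _ = _
      rw [F.gj_q, F.q_mul F.inC_zero F.inC_zero F.inC_one F.inC_zero, F.q_mul ha hb hc hd]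
      simp
    · show _ = _
      rw [F.conj_i ha hb hc hd, neg_zero, F.gj_q,
        F.q_mul F.inC_zero F.inC_zero F.inC_one F.inC_zero, F.q_mul ha hb (F.inC_neg hc) hd]
      simp
    · rw [F.conj_i ha hb hc hd, neg_zero, F.q_mul ha hb hc hd, F.q_mul ha hb (F.inC_neg hc) hd,
        F.q_add, ← F.q_scalar (2 : A)]
      simp only [ca, mul_zero, zero_mul, mul_neg, neg_mul, neg_neg, sum2, haa, sub_zero, add_zero,
        zero_add]
      congr 1 <;> norm_num
  · simp only [mul_zero, zero_add] at sum2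
    have hij : ρ (F.gi * F.gj) = F.q 0 0 0 1 := by simp [q]
    refine no_commute hG (g := F.gi * F.gj) ?_ hY (hY.conj F.gi) ?_ ?_ ?_
    · rw [hij, F.q_mul F.inC_zero F.inC_zero F.inC_zero F.inC_one]; simp [q]
    · show _ = _
      rw [hij, F.q_mul F.inC_zero F.inC_zero F.inC_zero F.inC_one, F.q_mul ha hb hc hd]
      simp
    · show _ = _
      rw [F.conj_i ha hb hc hd, neg_zero, hij,
        F.q_mul F.inC_zero F.inC_zero F.inC_zero F.inC_one, F.q_mul ha hb hc (F.inC_neg hd)]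
      simp
    · rw [F.conj_i ha hb hc hd, neg_zero, F.q_mul ha hb hc hd, F.q_mul ha hb hc (F.inC_neg hd),
        F.q_add, ← F.q_scalar (2 : A)]
      simp only [da, mul_zero, zero_mul, mul_neg, neg_mul, neg_neg, sum2, haa, sub_zero, add_zero,
        zero_add]
      congr 1 <;> norm_num

omit hG [Nontrivial A] in
theorem conj_conj (g h : G) (Y : A) :
    ρ (g * h) * Y * ρ (g * h)⁻¹ = ρ g * (ρ h * Y * ρ h⁻¹) * ρ g⁻¹ := by
  rw [mul_inv_rev, map_mul, map_mul]
  simp only [mul_assoc]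

/-- every axis is in the frame or corresponds to a parameter -/
theorem classify {Y : A} (hY : IsAxis ρ Y) :
    (∃ g ∈ [1, F.gi, F.gj, F.gi * F.gj],
      ρ g * Y * ρ g⁻¹ = F.q 0 1 1 1 ∨ ρ g * Y * ρ g⁻¹ = -F.q 0 1 1 1) ∨
    ∃ g ∈ [1, F.gj, F.x, F.x * F.gi, F.x * F.x, F.x * (F.x * F.gi)], ∃ S, F.InS k S ∧
      (ρ g * Y * ρ g⁻¹ = F.Yq k S ∨ ρ g * Y * ρ g⁻¹ = -F.Yq k S) := by
  have h2 := hG.two
  obtain ⟨n4, n8, -, -⟩ := nat_ne_zero hG
  obtain ⟨a, b, c, d, ha, hb, hc, hd, rfl⟩ := F.exists_q h2 Y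
  have nb := F.inC_neg hb
  have nc := F.inC_neg hc
  have nd := F.inC_neg hd
  have c2 : ρ F.gi * F.q a b c d * ρ F.gi⁻¹ = F.q a b (-c) (-d) := F.conj_i ha hb hc hd
  have c3 : ρ F.gj * F.q a b c d * ρ F.gj⁻¹ = F.q a (-b) c (-d) := F.conj_j ha hb hc hd
  have c4 : ρ (F.gi * F.gj) * F.q a b c d * ρ (F.gi * F.gj)⁻¹ = F.q a (-b) (-c) d := by
    rw [conj_conj, c3, F.conj_i ha nb hc nd, neg_neg]
  have c1 : ρ (1 : G) * F.q a b c d * ρ (1 : G)⁻¹ = F.q a b c d := by simp
  rcases F.frame_step hG ha hb hc hd hY with f1 | f1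
  · exact Or.inl ⟨1, by simp, by rw [c1]; exact f1⟩
  rcases F.frame_step hG ha hb nc nd (c2 ▸ hY.conj F.gi) with f2 | f2
  · exact Or.inl ⟨F.gi, by simp, by rw [c2]; exact f2⟩
  rcases F.frame_step hG ha nb hc nd (c3 ▸ hY.conj F.gj) with f3 | f3
  · exact Or.inl ⟨F.gj, by simp, by rw [c3]; exact f3⟩
  rcases F.frame_step hG ha nb nc hd (c4 ▸ hY.conj (F.gi * F.gj)) with f4 | f4
  · exact Or.inl ⟨F.gi * F.gj, by simp, by rw [c4]; exact f4⟩
  right
  have A1 : Alt k a (b + c + d) := f1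
  have A2 : Alt k a (b - c - d) := by rw [sub_eq_add_neg, sub_eq_add_neg]; exact f2
  have A3 : Alt k a (-b + c - d) := by rw [sub_eq_add_neg]; exact f3
  have A4 : Alt k a (-b - c + d) := by rw [sub_eq_add_neg]; exact f4
  clear f1 f2 f3 f4
  by_cases ha0 : a = 0
  case neg =>
    exfalso
    have get : ∀ u, Alt k a u → u * u - 3 * (a * a) = 5 ∧ u * a + a * u = 0 := fun u h =>
      h.elim (fun e => absurd e.1 ha0) And.right
    exact F.all_five hG ha hb hc hd hY (get _ A1) (get _ A2) (get _ A3) (get _ A4)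
  subst ha0
  have hsq := hY.sq hG
  rw [F.q_mul ha hb hc hd, ← F.q_scalar (-3)] at hsq
  have i3 : F.InC (-3 : A) := F.inC_neg (by
    rw [show (3 : A) = ((3 : ℤ) : A) by simp]; exact F.inC_int 3)
  obtain ⟨s0, -, -, -⟩ := F.q_inj h2
    (F.inC_sub (F.inC_sub (F.inC_sub (F.inC_mul ha ha) (F.inC_mul hb hb)) (F.inC_mul hc hc))
      (F.inC_mul hd hd))
    (F.inC_sub (F.inC_add (F.inC_add (F.inC_mul ha hb) (F.inC_mul hb ha)) (F.inC_mul hc hd))
      (F.inC_mul hd hc))
    (F.inC_add (F.inC_add (F.inC_sub (F.inC_mul ha hc) (F.inC_mul hb hd)) (F.inC_mul hc ha))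
      (F.inC_mul hd hb))
    (F.inC_add (F.inC_sub (F.inC_add (F.inC_mul ha hd) (F.inC_mul hb hc)) (F.inC_mul hc hb))
      (F.inC_mul hd ha))
    i3 F.inC_zero F.inC_zero F.inC_zero hsq
  have hsum : (b + c + d) * (b + c + d) + (b - c - d) * (b - c - d)
      + (-b + c - d) * (-b + c - d) + (-b - c + d) * (-b - c + d) = 12 := by
    calc _ = -(4 * (0 * 0 - b * b - c * c - d * d)) := by noncomm_ring
      _ = 12 := by rw [s0]; norm_num
  have val : ∀ u, Alt k (0 : A) u → ((u = 1 ∨ u = -1) ∧ u * u = 1) ∨ ((5 : k) ≠ 0 ∧ u * u = 5) := by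
    intro u h
    rcases h with ⟨-, h⟩ | ⟨h5, h, -⟩
    · exact Or.inl ⟨h, by rcases h with rfl | rfl <;> simp⟩
    · exact Or.inr ⟨h5, by simpa using h⟩
  have z0 := F.inC_zero
  have conjx : ∀ {a b c d : A}, F.InC a → F.InC b → F.InC c → F.InC d →
      ρ F.x * F.q a b c d * ρ F.x⁻¹ = F.q a c d b := fun ha hb hc hd => F.conj_x h2 ha hb hc hd
  rcases val _ A1 with ⟨l1, q1⟩ | ⟨h1, q1⟩ <;> rcases val _ A2 with ⟨l2, q2⟩ | ⟨h2', q2⟩ <;>
    rcases val _ A3 with ⟨l3, q3⟩ | ⟨h3, q3⟩ <;> rcases val _ A4 with ⟨l4, q4⟩ | ⟨h4, q4⟩ <;>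
    rw [q1, q2, q3, q4] at hsum <;>
    first
    | (have hbad := sub_eq_zero.mpr hsum
       norm_num at hbad
       first
       | exact absurd hbad n4
       | exact absurd hbad n8
       | exact absurd (neg_eq_zero.mp hbad) n4
       | exact absurd (neg_eq_zero.mp hbad) n8)
    | skip
  · -- {1, 2}
    have e := c3
    obtain ⟨S, hS, h⟩ := F.canonical hG nb hc nd (e ▸ hY.conj F.gj)
      (by rw [neg_neg, sub_neg_eq_add]; exact l1)
      (by rw [neg_neg, ← sub_eq_add_neg]; exact l2) h3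
      (by rw [← sub_eq_add_neg]; exact q3)
    exact ⟨F.gj, by simp, S, hS, by rw [e]; exact h⟩
  · -- {1, 3}
    have e : ρ (F.x * F.gi) * F.q 0 b c d * ρ (F.x * F.gi)⁻¹ = F.q 0 (-c) (-d) b := by
      rw [conj_conj, c2, conjx z0 hb nc nd]
    obtain ⟨S, hS, h⟩ := F.canonical hG nc nd hb (e ▸ hY.conj _)
      (by rw [show - -c + -d - b = -b + c - d by abel]; exact l3)
      (by rw [show - -c - -d + b = b + c + d by abel]; exact l1) h2'
      (by rw [show -c + -d + b = b - c - d by abel]; exact q2)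
    exact ⟨F.x * F.gi, by simp, S, hS, by rw [e]; exact h⟩
  · -- {1, 4}
    have e : ρ (F.x * (F.x * F.gi)) * F.q 0 b c d * ρ (F.x * (F.x * F.gi))⁻¹ = F.q 0 (-d) b (-c) := by
      rw [conj_conj, conj_conj, c2, conjx z0 hb nc nd, conjx z0 nc nd hb]
    obtain ⟨S, hS, h⟩ := F.canonical hG nd hb nc (e ▸ hY.conj _)
      (by rw [show - -d + b - -c = b + c + d by abel]; exact l1)
      (by rw [show - -d - b + -c = -b - c + d by abel]; exact l4) h2'
      (by rw [show -d + b + -c = b - c - d by abel]; exact q2)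
    exact ⟨F.x * (F.x * F.gi), by simp, S, hS, by rw [e]; exact h⟩
  · -- {2, 3}
    have e : ρ (F.x * F.x) * F.q 0 b c d * ρ (F.x * F.x)⁻¹ = F.q 0 d b c := by
      rw [conj_conj, conjx z0 hb hc hd, conjx z0 hc hd hb]
    obtain ⟨S, hS, h⟩ := F.canonical hG hd hb hc (e ▸ hY.conj _)
      (by rw [show -d + b - c = b - c - d by abel]; exact l2)
      (by rw [show -d - b + c = -b + c - d by abel]; exact l3) h1
      (by rw [show d + b + c = b + c + d by abel]; exact q1)
    exact ⟨F.x * F.x, by simp, S, hS, by rw [e]; exact h⟩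
  · -- {2, 4}
    have e : ρ F.x * F.q 0 b c d * ρ F.x⁻¹ = F.q 0 c d b := conjx z0 hb hc hd
    obtain ⟨S, hS, h⟩ := F.canonical hG hc hd hb (e ▸ hY.conj _)
      (by rw [show -c + d - b = -b - c + d by abel]; exact l4)
      (by rw [show -c - d + b = b - c - d by abel]; exact l2) h1
      (by rw [show c + d + b = b + c + d by abel]; exact q1)
    exact ⟨F.x, by simp, S, hS, by rw [e]; exact h⟩
  · -- {3, 4}
    obtain ⟨S, hS, h⟩ := F.canonical hG hb hc hd hY l3 l4 h1 q1
    exact ⟨1, by simp, S, hS, by rw [c1]; exact h⟩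

theorem doubled (S : A) : 2 * F.Yq k S = F.q 0 0 (S - 1) (S + 1) := by
  have h2 := hG.two
  have key : ∀ u z : A, 2 * (u * (algebraMap k A 2⁻¹ * z)) = u * z := fun u z => by
    rw [← mul_assoc, (Commute.ofNat_left 2 u).eq, mul_assoc, two_half h2]
  simp only [Yq, q, mul_zero, add_zero, zero_add]
  rw [mul_add, key, key]

omit hG [Nontrivial A] in
theorem four_mul_sym (Y Z : A) :
    4 * (Y * Z + Z * Y) = (2 * Y) * (2 * Z) + (2 * Z) * (2 * Y) := by
  noncomm_ring

theorem inS_unique {S S' : A} (hS : F.InS k S) (hS' : F.InS k S') : S = S' := by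
  have h2 := hG.two
  obtain ⟨n4, n8, -, n64⟩ := nat_ne_zero hG
  obtain ⟨hSc, hS5, h5, hY⟩ := hS
  obtain ⟨hS'c, hS'5, -, hY'⟩ := hS'
  have d1 := F.doubled hG S
  have d2 := F.doubled hG S'
  have cancel2 : ∀ z : A, 2 * z = 0 → z = 0 := fun z hz => two_cancel h2 (by rw [hz, mul_zero])
  have hS1 : S ≠ 1 ∧ S ≠ -1 ∧ S' ≠ -1 := by
    refine ⟨?_, ?_, ?_⟩ <;> intro e
    · rw [e, one_mul] at hS5
      exact n4 (by rw [show (4 : A) = 5 - 1 by norm_num, ← hS5, sub_self])
    · rw [e, neg_mul_neg, one_mul] at hS5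
      exact n4 (by rw [show (4 : A) = 5 - 1 by norm_num, ← hS5, sub_self])
    · rw [e, neg_mul_neg, one_mul] at hS'5
      exact n4 (by rw [show (4 : A) = 5 - 1 by norm_num, ← hS'5, sub_self])
  have z0 := F.inC_zero
  have m1 := F.inC_sub hSc F.inC_one
  have p1 := F.inC_add hSc F.inC_one
  have m1' := F.inC_sub hS'c F.inC_one
  have p1' := F.inC_add hS'c F.inC_one
  set U := S * S' + S' * S with hU
  set C := S * S' - S' * S with hC
  have hCc : F.InC C := F.inC_sub (F.inC_mul hSc hS'c) (F.inC_mul hS'c hSc)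
  have hUc : F.InC U := F.inC_add (F.inC_mul hSc hS'c) (F.inC_mul hS'c hSc)
  have hCS : S * C + C * S = 0 := by
    calc S * C + C * S = S * S * S' - S' * (S * S) := by rw [hC]; noncomm_ring
      _ = 0 := by rw [hS5, ← (Commute.ofNat_left 5 S').eq, sub_self]
  have hCS' : S' * C + C * S' = 0 := by
    calc S' * C + C * S' = S * (S' * S') - S' * S' * S := by rw [hC]; noncomm_ring
      _ = 0 := by rw [hS'5, ← (Commute.ofNat_left 5 S).eq, sub_self]
  have hT1 : 4 * (F.Yq k S * F.Yq k S' + F.Yq k S' * F.Yq k S) = -2 * U - 4 := by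
    rw [four_mul_sym, d1, d2, F.q_mul z0 z0 m1 p1, F.q_mul z0 z0 m1' p1', F.q_add,
      ← F.q_scalar (-2 * U - 4)]
    congr 1 <;> (try simp only [hU]) <;> noncomm_ring
    norm_num
    abel
  have hT2 : 4 * (F.Yq k S * (ρ F.gj * F.Yq k S' * ρ F.gj⁻¹)
      + (ρ F.gj * F.Yq k S' * ρ F.gj⁻¹) * F.Yq k S) = 2 * F.q (2 * (S + S')) (-C) 0 0 := by
    have e : 2 * (ρ F.gj * F.Yq k S' * ρ F.gj⁻¹) = F.q 0 0 (S' - 1) (-(S' + 1)) := by
      rw [← mul_assoc, ← mul_assoc, (Commute.ofNat_left 2 (ρ F.gj)).eq, mul_assoc (ρ F.gj), d2,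
        F.conj_j z0 z0 m1' p1', neg_zero]
    rw [four_mul_sym, d1, e, F.q_mul z0 z0 m1 p1, F.q_mul z0 z0 m1' (F.inC_neg p1'), F.q_add,
      two_mul (F.q _ _ _ _), F.q_add]
    congr 1 <;> (try simp only [hC]) <;> noncomm_ring
  have hZ2 : F.q (2 * (S + S')) (-C) 0 0 * F.q (2 * (S + S')) (-C) 0 0 = 140 + 4 * U - U * U := by
    rw [F.q_mul (F.inC_mul F.inC_two (F.inC_add hSc hS'c)) (F.inC_neg hCc) z0 z0,
      ← F.q_scalar (140 + 4 * U - U * U)]
    congr 1
    · calc _ = 4 * (S * S) + 4 * (S * S' + S' * S) + 4 * (S' * S')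
            - (S * S' + S' * S) * (S * S' + S' * S)
            + 2 * (S * (S' * S') * S) + 2 * (S' * (S * S) * S') := by
            simp only [hC, mul_zero, sub_zero]; noncomm_ring
        _ = _ := by
            rw [hS5, hS'5, ← (Commute.ofNat_left 5 S).eq, ← (Commute.ofNat_left 5 S').eq,
              mul_assoc (5 : A), mul_assoc (5 : A), hS5, hS'5, hU]
            norm_num
            noncomm_ring
            norm_num
            rw [show (140 : A) = 40 + 100 by norm_num]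
            abel
    · calc _ = -2 * ((S * C + C * S) + (S' * C + C * S')) := by noncomm_ring
        _ = _ := by rw [hCS, hCS', add_zero, mul_zero]
    · simp
    · simp
  have ne2 : ρ F.gj * F.Yq k S' * ρ F.gj⁻¹ ≠ F.Yq k S ∧
      ρ F.gj * F.Yq k S' * ρ F.gj⁻¹ ≠ -F.Yq k S := by
    have e : 2 * (ρ F.gj * F.Yq k S' * ρ F.gj⁻¹) = F.q 0 0 (S' - 1) (-(S' + 1)) := by
      rw [← mul_assoc, ← mul_assoc, (Commute.ofNat_left 2 (ρ F.gj)).eq, mul_assoc (ρ F.gj), d2,
        F.conj_j z0 z0 m1' p1', neg_zero]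
    refine ⟨fun h => ?_, fun h => ?_⟩
    · rw [h, d1] at e
      obtain ⟨-, -, e3, e4⟩ := F.q_inj h2 z0 z0 m1 p1 z0 z0 m1' (F.inC_neg p1') e
      have hSS : S = S' := sub_left_inj.mp e3
      rw [← hSS] at e4
      exact hS1.2.1 (eq_neg_of_add_eq_zero_left (cancel2 _ (by
        rw [two_mul]; nth_rewrite 1 [e4]; rw [neg_add_cancel])))
    · rw [h, mul_neg, d1, F.q_neg, neg_zero] at e
      obtain ⟨-, -, e3, e4⟩ :=
        F.q_inj h2 z0 z0 (F.inC_neg m1) (F.inC_neg p1) z0 z0 m1' (F.inC_neg p1') e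
      have hSS : S = S' := add_right_cancel (neg_inj.mp e4)
      rw [← hSS] at e3
      exact hS1.1 (sub_eq_zero.mp (cancel2 _ (by
        rw [two_mul]; nth_rewrite 1 [← e3]; rw [neg_add_cancel])))
  -- the value of `4T² ` for the second pair
  have hV : 140 + 4 * U - U * U = 16 ∨ 140 + 4 * U - U * U = 80 := by
    set T := F.Yq k S * (ρ F.gj * F.Yq k S' * ρ F.gj⁻¹)
      + (ρ F.gj * F.Yq k S' * ρ F.gj⁻¹) * F.Yq k S
    have hTq : F.q (2 * (S + S')) (-C) 0 0 = 2 * T := two_cancel h2 (by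
      rw [← hT2]; noncomm_ring)
    rw [← hZ2, hTq, show (2 * T) * (2 * T) = 4 * (T * T) by noncomm_ring]
    rcases axes_cases hG hY (hY'.conj F.gj) with h | h | h | h | ⟨h, -⟩
    · exact absurd h ne2.1
    · exact absurd h ne2.2
    · exact Or.inl (by rw [show T = -2 from h]; norm_num)
    · exact Or.inl (by rw [show T = 2 from h]; norm_num)
    · exact Or.inr (by rw [show T * T = 20 from h]; norm_num)
  have h1 := axes_cases hG hY hY'
  set T1 := F.Yq k S * F.Yq k S' + F.Yq k S' * F.Yq k S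
  rcases h1 with h | h | h | h | ⟨h, -⟩
  · have e : 2 * F.Yq k S' = 2 * F.Yq k S := by rw [h]
    rw [d1, d2] at e
    obtain ⟨-, -, e3, -⟩ := F.q_inj h2 z0 z0 m1' p1' z0 z0 m1 p1 e
    exact (sub_left_inj.mp e3).symm
  · exfalso
    have e : 2 * F.Yq k S' = -(2 * F.Yq k S) := by rw [h, mul_neg]
    rw [d1, d2, F.q_neg, neg_zero] at e
    obtain ⟨-, -, e3, e4⟩ := F.q_inj h2 z0 z0 m1' p1' z0 z0 (F.inC_neg m1) (F.inC_neg p1) e
    exact n4 (by
      calc (4 : A) = ((S' + 1) - (S' - 1)) + ((S + 1) - (S - 1)) := by noncomm_ring; norm_num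
        _ = 0 := by rw [e3, e4]; abel)
  · -- U = 2
    exfalso
    rw [h] at hT1
    have hU2 : U = 2 := two_cancel h2 (by
      calc 2 * U = -(-2 * U - 4) - 4 := by noncomm_ring
        _ = 2 * 2 := by rw [← hT1]; norm_num)
    rw [hU2] at hV
    norm_num at hV
    rcases hV with hV | hV
    · exact n64 (two_cancel h2 (by
        rw [mul_zero, show (2 : A) * 64 = 144 - 16 by norm_num, hV, sub_self]))
    · exact n64 (by rw [show (64 : A) = 144 - 80 by norm_num, hV, sub_self])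
  · -- U = -6
    rw [h] at hT1
    have hU6 : U = -6 := two_cancel h2 (by
      calc 2 * U = -(-2 * U - 4) - 4 := by noncomm_ring
        _ = 2 * -6 := by rw [← hT1]; norm_num)
    have e3 : 2 * (ρ (F.x * F.x) * F.Yq k S' * ρ (F.x * F.x)⁻¹) = F.q 0 (S' + 1) 0 (S' - 1) := by
      rw [conj_conj, ← F.conj_x h2 z0 m1' p1' z0, ← F.conj_x h2 z0 z0 m1' p1', ← d2]
      simp only [← mul_assoc, ← (Commute.ofNat_left 2 (ρ F.x)).eq]
    set Y3 := ρ (F.x * F.x) * F.Yq k S' * ρ (F.x * F.x)⁻¹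
    have hR : 4 * (F.Yq k S * Y3 + Y3 * F.Yq k S) = F.q (8 + 2 * (S - S')) C C (-C) := by
      rw [four_mul_sym, d1, e3, F.q_mul z0 z0 m1 p1, F.q_mul z0 p1' z0 m1', F.q_add]
      congr 1
      · calc _ = -U + 2 * (S - S') + 2 := by simp only [hU]; noncomm_ring; norm_num; abel
          _ = _ := by rw [hU6, neg_neg, show (8 : A) = 6 + 2 by norm_num]; abel
      all_goals (simp only [hC]; noncomm_ring)
    have iR := F.inC_add (show F.InC (8 : A) by
      rw [show (8 : A) = ((8 : ℤ) : A) by simp]; exact F.inC_int 8)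
      (F.inC_mul F.inC_two (F.inC_sub hSc hS'c))
    rcases axes_cases hG hY (hY'.conj (F.x * F.x)) with h' | h' | h' | h' | ⟨h', -⟩
    · exfalso
      rw [show Y3 = F.Yq k S from h', d1] at e3
      obtain ⟨-, e, -, -⟩ := F.q_inj h2 z0 z0 m1 p1 z0 p1' z0 m1' e3
      exact hS1.2.2 (eq_neg_of_add_eq_zero_left e.symm)
    · exfalso
      rw [show Y3 = -F.Yq k S from h', mul_neg, d1, F.q_neg, neg_zero] at e3
      obtain ⟨-, e, -, -⟩ := F.q_inj h2 z0 z0 (F.inC_neg m1) (F.inC_neg p1) z0 p1' z0 m1' e3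
      exact hS1.2.2 (eq_neg_of_add_eq_zero_left e.symm)
    · exfalso
      rw [show F.Yq k S * Y3 + Y3 * F.Yq k S = -2 from h'] at hR
      obtain ⟨e, -, -, -⟩ := F.q_inj h2 iR hCc hCc (F.inC_neg hCc)
        (show F.InC (-8 : A) from F.inC_neg (by
          rw [show (8 : A) = ((8 : ℤ) : A) by simp]; exact F.inC_int 8)) z0 z0 z0
        (hR.symm.trans (by rw [F.q_scalar]; norm_num))
      have hS' : S' = S + 8 := two_cancel h2 (by
        calc 2 * S' = 2 * S + 8 - (8 + 2 * (S - S')) := by noncomm_ring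
          _ = 2 * (S + 8) := by rw [e, show (2 : A) * (S + 8) = 2 * S + (8 + 8) by (rw [mul_add]; norm_num)]; abel)
      have hneg : S + 1 = 0 := cancel2 _ (cancel2 _ (cancel2 _ (cancel2 _ (by
        calc 2 * (2 * (2 * (2 * (S + 1)))) = U + 6 := by
              rw [hU, hS', show S * (S + 8) = S * S + 8 * S by
                    rw [mul_add, (Commute.ofNat_left 8 S).eq],
                show (S + 8) * S = S * S + 8 * S by rw [add_mul], hS5]
              noncomm_ring; norm_num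
          _ = 0 := by rw [hU6]; norm_num))))
      exact hS1.2.1 (eq_neg_of_add_eq_zero_left hneg)
    · rw [show F.Yq k S * Y3 + Y3 * F.Yq k S = 2 from h'] at hR
      obtain ⟨e, -, -, -⟩ := F.q_inj h2 iR hCc hCc (F.inC_neg hCc)
        (show F.InC (8 : A) by rw [show (8 : A) = ((8 : ℤ) : A) by simp]; exact F.inC_int 8) z0 z0 z0
        (hR.symm.trans (by rw [F.q_scalar]; norm_num))
      exact sub_eq_zero.mp (cancel2 _ (add_eq_left.mp e))
    · exfalso
      have hRR : F.q (8 + 2 * (S - S')) C C (-C) * F.q (8 + 2 * (S - S')) C C (-C) = 320 := by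
        rw [← hR]
        calc _ = 16 * ((F.Yq k S * Y3 + Y3 * F.Yq k S) * (F.Yq k S * Y3 + Y3 * F.Yq k S)) := by
              noncomm_ring
          _ = 320 := by rw [show (F.Yq k S * Y3 + Y3 * F.Yq k S) * (F.Yq k S * Y3 + Y3 * F.Yq k S) = 20 from h']; norm_num
      rw [F.q_mul iR hCc hCc (F.inC_neg hCc)] at hRR
      replace hRR := hRR.trans (F.q_scalar _).symm
      have mm := fun p q (hp : F.InC p) (hq : F.InC q) => F.inC_mul hp hq
      obtain ⟨r0, r1, -, -⟩ := F.q_inj h2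
        (F.inC_sub (F.inC_sub (F.inC_sub (mm _ _ iR iR) (mm _ _ hCc hCc)) (mm _ _ hCc hCc))
          (mm _ _ (F.inC_neg hCc) (F.inC_neg hCc)))
        (F.inC_sub (F.inC_add (F.inC_add (mm _ _ iR hCc) (mm _ _ hCc iR))
          (mm _ _ hCc (F.inC_neg hCc))) (mm _ _ (F.inC_neg hCc) hCc))
        (F.inC_add (F.inC_add (F.inC_sub (mm _ _ iR hCc) (mm _ _ hCc (F.inC_neg hCc)))
          (mm _ _ hCc iR)) (mm _ _ (F.inC_neg hCc) hCc))
        (F.inC_add (F.inC_sub (F.inC_add (mm _ _ iR (F.inC_neg hCc)) (mm _ _ hCc hCc))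
          (mm _ _ hCc hCc)) (mm _ _ (F.inC_neg hCc) iR))
        (show F.InC (320 : A) by rw [show (320 : A) = ((320 : ℤ) : A) by simp]; exact F.inC_int 320)
        z0 z0 z0 hRR
      have hC0 : C = 0 := cancel2 _ (cancel2 _ (cancel2 _ (cancel2 _ (by
        calc 2 * (2 * (2 * (2 * C))) = ((8 + 2 * (S - S')) * C + C * (8 + 2 * (S - S')) + C * -C - -C * C)
              - 2 * ((S * C + C * S) - (S' * C + C * S')) := by noncomm_ring
          _ = 0 := by rw [r1, hCS, hCS']; noncomm_ring))))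
      rw [hC0] at r0
      have hZZ : (S - S') * (S - S') = 16 := by
        calc (S - S') * (S - S') = S * S + S' * S' - U := by rw [hU]; noncomm_ring
          _ = 16 := by rw [hS5, hS'5, hU6]; norm_num
      have hZ6 : S - S' = 6 := two_cancel h2 (two_cancel h2 (two_cancel h2 (two_cancel h2 (two_cancel h2 (by
        calc 2 * (2 * (2 * (2 * (2 * (S - S')))))
            = (8 + 2 * (S - S')) * (8 + 2 * (S - S')) - 0 * 0 - 0 * 0 - -0 * -0 - 64
              - 4 * ((S - S') * (S - S')) := by noncomm_ring; norm_num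
          _ = 2 * (2 * (2 * (2 * (2 * 6)))) := by rw [r0, hZZ]; norm_num)))))
      rw [hZ6] at hZZ
      have h20 : (20 : A) = 0 := by
        calc (20 : A) = 6 * 6 - 16 := by norm_num
          _ = 0 := by rw [hZZ, sub_self]
      refine ofNat_ne_zero' (A := A) (k := k) (n := 20) ?_ h20
      have := mul_ne_zero h2 (mul_ne_zero h2 h5)
      norm_num at this ⊢
      exact this
  · exfalso
    have e1 : (U + 2) * (U + 2) = 80 := by
      refine two_cancel h2 (two_cancel h2 ?_)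
      calc 2 * (2 * ((U + 2) * (U + 2))) = (-2 * U - 4) * (-2 * U - 4) := by noncomm_ring; norm_num
        _ = 16 * (T1 * T1) := by rw [← hT1]; noncomm_ring
        _ = 2 * (2 * 80) := by rw [h]; norm_num
    rcases hV with hV | hV
    · have hU' : U = -6 := two_cancel h2 (two_cancel h2 (two_cancel h2 (by
        calc 2 * (2 * (2 * U)) = (140 + 4 * U - U * U) + (U + 2) * (U + 2) - 144 := by
              noncomm_ring; norm_num
          _ = 2 * (2 * (2 * -6)) := by rw [hV, e1]; norm_num)))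
      rw [hU'] at e1
      norm_num at e1
      exact n64 (by rw [show (64 : A) = 80 - 16 by norm_num, ← e1, sub_self])
    · have hU' : U = 2 := two_cancel h2 (two_cancel h2 (two_cancel h2 (by
        calc 2 * (2 * (2 * U)) = (140 + 4 * U - U * U) + (U + 2) * (U + 2) - 144 := by
              noncomm_ring; norm_num
          _ = 2 * (2 * (2 * 2)) := by rw [hV, e1]; norm_num)))
      rw [hU'] at e1
      norm_num at e1
      exact n64 (by rw [show (64 : A) = 80 - 16 by norm_num, ← e1, sub_self])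

end Frame

end Cfsg.Agent.Zassenhaus
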