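import Cfsg.Agent.Lib.Zassenhaus.Structure

/-!
Finite multiplicative subgroups of domains act without fixed points on a lattice.
-/

set_option autoImplicit false

namespace Cfsg.Agent.Zassenhaus

variable {G : Type*} [Group G] [Finite G] {R : Type*} [Ring R] [IsDomain R]

theorem mul_left_eq_self (f : G →* R) (hf : Function.Injective f) {g : G} (hg : g ≠ 1) {v : R}
    (h : f g * v = v) : v = 0 := by
  have h0 : (f g - 1) * v = 0 := by rw [sub_mul, one_mul, h, sub_self]
  rcases mul_eq_zero.mp h0 with e | e
  · exact absurd (hf ((sub_eq_zero.mp e).trans (map_one f).symm)) hg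
  · exact e

theorem span_stable (f : G →* R) (g : G) {v : R} (hv : v ∈ Submodule.span ℤ (Set.range f)) :
    f g * v ∈ Submodule.span ℤ (Set.range f) := by
  induction hv using Submodule.span_induction with
  | mem x hx => obtain ⟨h, rfl⟩ := hx; exact Submodule.subset_span ⟨g * h, map_mul f g h⟩
  | zero => rw [mul_zero]; exact zero_mem _
  | add x y _ _ hx hy => rw [mul_add]; exact add_mem hx hy
  | smul c x _ hx => rw [mul_smul_comm]; exact Submodule.smul_mem _ c hx

theorem fc_of_domain_charP (f : G →* R) (hf : Function.Injective f) (p : ℕ) [hp : Fact p.Prime]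
    [CharP R p] : FC G := by
  let L := Submodule.span ℤ (Set.range f)
  haveI : Module.Finite ℤ L := Module.Finite.span_of_finite ℤ (Set.finite_range f)
  haveI : Finite L := Module.finite_of_fg_torsion L (by
    intro v
    refine ⟨⟨(p : ℤ), mem_nonZeroDivisors_of_ne_zero (by exact_mod_cast hp.out.ne_zero)⟩, ?_⟩
    refine Subtype.ext ?_
    show (p : ℤ) • (v : R) = 0
    rw [zsmul_eq_mul, Int.cast_natCast, CharP.cast_eq_zero, zero_mul])
  haveI : Nontrivial L := ⟨⟨⟨1, Submodule.subset_span ⟨1, map_one f⟩⟩, 0,
    fun e => one_ne_zero (congrArg Subtype.val e)⟩⟩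
  let ψ : G →* MulAut (Multiplicative L) := MonoidHom.mk'
    (fun g =>
      { toFun := fun v => Multiplicative.ofAdd ⟨f g * v.toAdd.1, span_stable f g v.toAdd.2⟩
        invFun := fun v => Multiplicative.ofAdd ⟨f g⁻¹ * v.toAdd.1, span_stable f g⁻¹ v.toAdd.2⟩
        left_inv := fun v => congrArg Multiplicative.ofAdd (Subtype.ext (by
          show f g⁻¹ * (f g * v.toAdd.1) = v.toAdd.1
          rw [← mul_assoc, ← map_mul, inv_mul_cancel, map_one, one_mul]))
        right_inv := fun v => congrArg Multiplicative.ofAdd (Subtype.ext (by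
          show f g * (f g⁻¹ * v.toAdd.1) = v.toAdd.1
          rw [← mul_assoc, ← map_mul, mul_inv_cancel, map_one, one_mul]))
        map_mul' := fun u v => congrArg Multiplicative.ofAdd (Subtype.ext (mul_add (f g) _ _)) })
    (fun g h => MulEquiv.ext fun v => congrArg Multiplicative.ofAdd (Subtype.ext (by
      show f (g * h) * v.toAdd.1 = f g * (f h * v.toAdd.1)
      rw [map_mul, mul_assoc])))
  refine fc_of_action_elementary (W := Multiplicative L) (q := p) (fun w => ?_) ψ fun g hg w hw => ?_
  · refine Multiplicative.toAdd.injective (Subtype.ext ?_)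
    show (p • w.toAdd).1 = 0
    rw [show (p • w.toAdd).1 = p • w.toAdd.1 from AddSubmonoidClass.coe_nsmul _ _, nsmul_eq_mul, CharP.cast_eq_zero, zero_mul]
  · exact Multiplicative.toAdd.injective (Subtype.ext
      (mul_left_eq_self f hf hg (congrArg (fun u : Multiplicative L => u.toAdd.1) hw)))

theorem fc_of_domain_charZero (f : G →* R) (hf : Function.Injective f) [CharZero R] : FC G := by
  classical
  haveI := Fintype.ofFinite G
  let L := Submodule.span ℤ (Set.range f)
  haveI : Module.Finite ℤ L := Module.Finite.span_of_finite ℤ (Set.finite_range f)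
  haveI : Nontrivial L := ⟨⟨⟨1, Submodule.subset_span ⟨1, map_one f⟩⟩, 0,
    fun e => one_ne_zero (congrArg Subtype.val e)⟩⟩
  haveI : Module.Free ℤ L := Module.free_of_finite_type_torsion_free'
  have hpos : 0 < Module.finrank ℤ L := Module.finrank_pos
  obtain ⟨n, hn⟩ := Nat.exists_eq_succ_of_ne_zero hpos.ne'
  let b : Module.Basis (Fin (n + 1)) ℤ L := (Module.finBasis ℤ L).reindex (finCongr hn)
  let T : G →* Module.End ℤ L :=
    { toFun := fun g =>
        { toFun := fun v => ⟨f g * v.1, span_stable f g v.2⟩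
          map_add' := fun u v => Subtype.ext (mul_add (f g) _ _)
          map_smul' := fun c v => Subtype.ext (mul_smul_comm c (f g) v.1) }
      map_one' := LinearMap.ext fun v => Subtype.ext (by
        show f 1 * v.1 = v.1
        rw [map_one, one_mul])
      map_mul' := fun g h => LinearMap.ext fun v => Subtype.ext (by
        show f (g * h) * v.1 = f g * (f h * v.1)
        rw [map_mul, mul_assoc]) }
  let ρ : G →* Matrix (Fin (n + 1)) (Fin (n + 1)) ℤ :=
    ((LinearMap.toMatrixAlgEquiv b).toMulEquiv.toMonoidHom).comp T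
  have hdet : ∀ g : G, g ≠ 1 → (ρ g - 1).det ≠ 0 := by
    intro g hg h0
    have e : LinearMap.toMatrixAlgEquiv b (T g) - 1 = LinearMap.toMatrixAlgEquiv b (T g - 1) := by
      rw [map_sub, map_one]
    change (LinearMap.toMatrixAlgEquiv b (T g) - 1).det = 0 at h0
    rw [e] at h0
    change (LinearMap.toMatrix b b (T g - 1)).det = 0 at h0
    obtain ⟨v, hv, hv0⟩ := Matrix.exists_mulVec_eq_zero_iff.mpr h0
    let w := b.equivFun.symm v
    have hw : (T g - 1) w = 0 := by
      apply b.equivFun.injective
      have := LinearMap.toMatrix_mulVec_repr b b (T g - 1) w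
      rw [map_zero]
      ext i
      have h1 := congrFun this i
      rw [show ⇑(b.repr w) = v by
        rw [← b.equivFun_apply]; exact b.equivFun.apply_symm_apply v, hv0] at h1
      exact h1.symm
    have hw' : f g * (w : R) = (w : R) := by
      have := congrArg Subtype.val (sub_eq_zero.mp
        (show T g w - w = 0 by simpa using hw))
      exact this
    exact hv (b.equivFun.symm.injective (by
      rw [map_zero]; exact Subtype.ext (mul_left_eq_self f hf hg hw')))
  obtain ⟨q, hqlt, hq⟩ := Nat.exists_infinite_primes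
    ((∏ g ∈ Finset.univ.filter (fun g : G => g ≠ 1), (ρ g - 1).det).natAbs + 1)
  haveI := Fact.mk hq
  refine ⟨q, ⟨hq⟩, n, ((Int.castRingHom (ZMod q)).mapMatrix.toMonoidHom).comp ρ, fun g hg h0 => ?_⟩
  have e : (Int.castRingHom (ZMod q)).mapMatrix (ρ g) - 1
      = (Int.castRingHom (ZMod q)).mapMatrix (ρ g - 1) := by
    rw [map_sub, map_one]
  change ((Int.castRingHom (ZMod q)).mapMatrix (ρ g) - 1).det = 0 at h0
  rw [e, ← RingHom.map_det, eq_intCast, ZMod.intCast_zmod_eq_zero_iff_dvd] at h0
  set Pr := ∏ g ∈ Finset.univ.filter (fun g : G => g ≠ 1), (ρ g - 1).det with hPr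
  have hP0 : Pr ≠ 0 := Finset.prod_ne_zero_iff.mpr fun g hg => hdet g (Finset.mem_filter.mp hg).2
  have hdvd : (ρ g - 1).det ∣ Pr :=
    Finset.dvd_prod_of_mem _ (Finset.mem_filter.mpr ⟨Finset.mem_univ g, hg⟩)
  have hle : (q : ℤ).natAbs ≤ Pr.natAbs :=
    Nat.le_of_dvd (Int.natAbs_pos.mpr hP0) (Int.natAbs_dvd_natAbs.mpr (h0.trans hdvd))
  rw [Int.natAbs_natCast] at hle
  omega

/-- finite multiplicative subgroups of domains have fixed-point-free representations -/
theorem fc_of_domain (f : G →* R) (hf : Function.Injective f) : FC G := by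
  obtain ⟨p, hp⟩ := CharP.exists R
  rcases CharP.char_is_prime_or_zero R p with h | h
  · haveI := Fact.mk h
    exact fc_of_domain_charP f hf p
  · subst h
    haveI := CharP.charP_to_charZero R
    exact fc_of_domain_charZero f hf

/-- representations give Frobenius complements -/
theorem FC.exists_complement [Nontrivial G] (h : FC G) :
    ∃ (L : Type) (_ : Group L) (_ : Finite L) (H : Subgroup L),
      Cfsg.IsFrobeniusComplement H ∧ Nonempty (G ≃* H) := by
  obtain ⟨q, hq, n, ρ, hρ⟩ := h
  exact FrobExamples.exists_of_matrix ρ hρ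

end Cfsg.Agent.Zassenhaus
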