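import Cfsg.Agent.Lib.Zassenhaus.Structure

/-!
A group containing a normal copy of `SL(2, 5)` acts on its five Sylow 2-subgroups.
-/

set_option autoImplicit false

namespace Cfsg.Agent.Zassenhaus

open Subgroup
open scoped Pointwise

/-- entries of a quaternion subgroup -/
def eightE : List (ZMod 5 × ZMod 5 × ZMod 5 × ZMod 5) :=
  [(1, 0, 0, 1), (4, 0, 0, 4), (0, 1, 4, 0), (0, 4, 1, 0), (2, 0, 0, 3), (3, 0, 0, 2), (0, 3, 3, 0), (0, 2, 2, 0)]

/-- entries of the inverse -/
def eInv (p : ZMod 5 × ZMod 5 × ZMod 5 × ZMod 5) : ZMod 5 × ZMod 5 × ZMod 5 × ZMod 5 :=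
  (p.2.2.2, -p.2.1, -p.2.2.1, p.1)

/-- normalising the quaternion subgroup -/
def inN (p : ZMod 5 × ZMod 5 × ZMod 5 × ZMod 5) : Bool :=
  eightE.all fun q => decide (eMul (eMul p q) (eInv p) ∈ eightE)

theorem table_eight_mul : (eightE.all fun p => eightE.all fun q => decide (eMul p q ∈ eightE)) = true := by
  decide +kernel

theorem table_eight_inv : (eightE.all fun p => decide (eInv p ∈ eightE)) = true := by
  decide +kernel

theorem table_eight_card : ((List.finRange 120).filter fun n => decide (entries n ∈ eightE)).length = 8 ∧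
    ((List.finRange 120).filter fun n => inN (entries n)).length = 24 := by
  decide +kernel

theorem table_eight_det : (eightE.all fun p => decide (p.1 * p.2.2.2 - p.2.1 * p.2.2.1 = 1)) = true := by
  decide +kernel

set_option maxHeartbeats 4000000 in
theorem table_core : ((List.finRange 120).all fun n =>
    !((List.finRange 120).all fun m => inN (eMul (eMul (entries m) (entries n)) (eInv (entries m)))) ||
      decide (eMul (entries n) (entries (stepX 0)) = eMul (entries (stepX 0)) (entries n) ∧
        eMul (entries n) (entries (stepY 0)) = eMul (entries (stepY 0)) (entries n))) = true := by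
  decide +kernel

theorem ent_inv (M : SL25) : ent M⁻¹ = eInv (ent M) := by
  rw [Matrix.SpecialLinearGroup.SL2_inv_expl]
  rfl

/-- the quaternion subgroup of `SL(2, 5)` -/
def eightSub : Subgroup SL25 where
  carrier := {M | ent M ∈ eightE}
  one_mem' := by show ent 1 ∈ eightE; rw [ent_one]; decide +kernel
  mul_mem' := fun {M N} hM hN => by show ent (M * N) ∈ eightE; rw [ent_mul]; exact decide_eq_true_eq.mp (List.all_eq_true.mp (List.all_eq_true.mp table_eight_mul _ hM) _ hN)
  inv_mem' := fun {M} hM => by show ent M⁻¹ ∈ eightE; rw [ent_inv]; exact decide_eq_true_eq.mp (List.all_eq_true.mp table_eight_inv _ hM)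

theorem card_subgroup_list (H : Subgroup SL25) (b : ZMod 5 × ZMod 5 × ZMod 5 × ZMod 5 → Bool)
    (h : ∀ M, M ∈ H ↔ b (ent M) = true) :
    Nat.card H = ((List.finRange 120).filter fun n => b (entries n)).length := by
  classical
  have e : (H : Set SL25) = matOf '' ↑(((List.finRange 120).filter fun n => b (entries n)).toFinset) := by
    ext M
    obtain ⟨n, rfl⟩ := matOf_bijective.2 M
    simp [h, ent_matOf, matOf_bijective.1.eq_iff]
  show Nat.card ↥(H : Set SL25) = _
  rw [Nat.card_coe_set_eq, e, Set.ncard_image_of_injective _ matOf_bijective.1, Set.ncard_coe_finset,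
    List.toFinset_card_of_nodup ((List.nodup_finRange 120).filter _)]

theorem card_eightSub : Nat.card eightSub = 8 := by
  rw [card_subgroup_list eightSub (fun p => decide (p ∈ eightE)) fun M => by
    rw [decide_eq_true_eq]; rfl]
  exact table_eight_card.1

theorem mem_normalizer_eightSub (M : SL25) :
    M ∈ normalizer (eightSub : Set SL25) ↔ inN (ent M) = true := by
  rw [inN, List.all_eq_true]
  constructor
  · intro h q hq
    rw [decide_eq_true_eq]
    obtain ⟨a, b, c, d⟩ := q
    obtain ⟨n, hn⟩ := table_surj a b c d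
      (decide_eq_true_eq.mp (List.all_eq_true.mp table_eight_det _ hq) :)
    have h1 := (mem_normalizer_iff.mp h (matOf n)).mp (show ent (matOf n) ∈ eightE by rwa [ent_matOf, hn])
    change ent (M * matOf n * M⁻¹) ∈ eightE at h1
    rwa [ent_mul, ent_mul, ent_inv, ent_matOf, hn] at h1
  · intro h
    have hf : ∀ x ∈ eightSub, M * x * M⁻¹ ∈ eightSub := fun x hx => by
      show ent (M * x * M⁻¹) ∈ eightE
      rw [ent_mul, ent_mul, ent_inv]
      simpa using h (ent x) hx
    haveI : Finite eightSub := inferInstance
    refine mem_normalizer_iff.mpr fun x => ⟨hf x, fun hx => ?_⟩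
    have hbij : Function.Surjective (fun y : eightSub => (⟨M * y * M⁻¹, hf y y.2⟩ : eightSub)) :=
      Finite.surjective_of_injective fun y y' e => Subtype.ext (by
        have := congrArg Subtype.val e
        exact mul_left_cancel (mul_right_cancel this))
    obtain ⟨y, hy⟩ := hbij ⟨_, hx⟩
    have := mul_left_cancel (mul_right_cancel (congrArg Subtype.val hy))
    exact this ▸ y.2

/-- the Sylow 2-subgroup -/
theorem exists_sylow_eight : ∃ P : Sylow 2 SL25, (P : Subgroup SL25) = eightSub := by
  haveI := Fact.mk Nat.prime_two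
  refine ⟨Sylow.ofCard eightSub ?_, rfl⟩
  rw [card_eightSub, card_SL25,
    show (120 : ℕ) = 2 ^ 3 * 15 by norm_num, Nat.factorization_mul (by norm_num) (by norm_num),
    Finsupp.add_apply, Nat.Prime.factorization_pow Nat.prime_two,
    Nat.factorization_eq_zero_of_not_dvd (by norm_num : ¬ 2 ∣ 15), Finsupp.single_eq_same]
  norm_num

theorem card_sylow_SL25 : Nat.card (Sylow 2 SL25) = 5 := by
  haveI := Fact.mk Nat.prime_two
  obtain ⟨P, hP⟩ := exists_sylow_eight
  have h24 : Nat.card (normalizer (eightSub : Set SL25)) = 24 := by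
    rw [card_subgroup_list _ inN mem_normalizer_eightSub]; exact table_eight_card.2
  have h := Subgroup.index_mul_card (normalizer (eightSub : Set SL25))
  rw [h24, card_SL25] at h
  rw [P.card_eq_index_normalizer]
  show (normalizer ((P : Subgroup SL25) : Set SL25)).index = 5
  rw [hP]
  omega

/-- an element normalising all Sylow 2-subgroups is central -/
theorem mem_center_of_normalizes {u : SL25}
    (h : ∀ S : Sylow 2 SL25, u ∈ normalizer ((S : Subgroup SL25) : Set SL25)) : u ∈ center SL25 := by
  haveI := Fact.mk Nat.prime_two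
  obtain ⟨P, hP⟩ := exists_sylow_eight
  obtain ⟨n, rfl⟩ := matOf_bijective.2 u
  have hall : ∀ m : Fin 120, inN (eMul (eMul (entries m) (entries n)) (eInv (entries m))) = true := by
    intro m
    have hm := Sylow.smul_eq_iff_mem_normalizer.mpr (h ((matOf m)⁻¹ • P))
    have h2 : matOf m * matOf n * (matOf m)⁻¹ ∈ normalizer ((P : Subgroup SL25) : Set SL25) :=
      Sylow.smul_eq_iff_mem_normalizer.mp (by rw [mul_smul, mul_smul, hm, smul_inv_smul])
    rw [hP, mem_normalizer_eightSub, ent_mul, ent_mul, ent_inv, ent_matOf, ent_matOf] at h2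
    exact h2
  have hb := List.all_eq_true.mp table_core n (List.mem_finRange n)
  rw [Bool.or_eq_true, Bool.not_eq_true'] at hb
  have hc : eMul (entries n) (entries (stepX 0)) = eMul (entries (stepX 0)) (entries n) ∧
      eMul (entries n) (entries (stepY 0)) = eMul (entries (stepY 0)) (entries n) := by
    rcases hb with hb | hb
    · have : ((List.finRange 120).all fun m => inN (eMul (eMul (entries m) (entries n)) (eInv (entries m)))) = true :=
        List.all_eq_true.mpr fun m _ => hall m
      rw [this] at hb; exact absurd hb (by simp)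
    · exact decide_eq_true_eq.mp hb
  refine mem_center_iff.mpr fun v => ?_
  have hv : v ∈ Subgroup.closure ({genA, genB} : Set SL25) := closure_gen ▸ mem_top v
  have hgen : ({genA, genB} : Set SL25) ⊆ (centralizer {matOf n} : Subgroup SL25) := by
    rintro y (rfl | rfl) <;> refine mem_centralizer_singleton_iff.mpr (ent_injective ?_) <;>
      simp only [ent_mul, genA, genB, ent_matOf]
    exacts [hc.1.symm, hc.2.symm]
  exact mem_centralizer_singleton_iff.mp ((closure_le _).mpr hgen hv)

variable {G : Type*} [Group G]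

/-- the action on the five Sylow 2-subgroups -/
theorem exists_five_action (θ : SL25 →* G) (hθ : Function.Injective θ) [θ.range.Normal] :
    ∃ f : G →* Equiv.Perm (Fin 5), f.ker = centralizer (θ.range : Set G) := by
  classical
  haveI := Fact.mk Nat.prime_two
  let e : SL25 ≃* θ.range := MonoidHom.ofInjective hθ
  let Φ : G →* MulAut SL25 :=
    (MulAut.congr e.symm).toMonoidHom.comp (MulAut.conjNormal (H := θ.range))
  have hΦ : ∀ g u, θ (Φ g u) = g * θ u * g⁻¹ := by
    intro g u
    have h1 : θ (Φ g u) = ((e (e.symm (MulAut.conjNormal g (e u)))) : G) := rfl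
    rw [h1, e.apply_symm_apply, MulAut.conjNormal_apply]
    rfl
  let act : G →* Equiv.Perm (Sylow 2 SL25) := (MulAction.toPermHom (MulAut SL25) (Sylow 2 SL25)).comp Φ
  haveI := Fintype.ofFinite (Sylow 2 SL25)
  let eS : Sylow 2 SL25 ≃ Fin 5 :=
    (Fintype.equivFin _).trans (finCongr (by rw [← Nat.card_eq_fintype_card, card_sylow_SL25]))
  refine ⟨(Equiv.permCongrHom eS).toMonoidHom.comp act, le_antisymm ?_ ?_⟩
  · intro k hk
    rw [MonoidHom.mem_ker, MonoidHom.comp_apply, MulEquiv.coe_toMonoidHom, MulEquiv.map_eq_one_iff] at hk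
    have hfix : ∀ S : Sylow 2 SL25, Φ k • S = S := fun S => Equiv.ext_iff.mp hk S
    have hinv : ∀ S : Sylow 2 SL25, (Φ k)⁻¹ • S = S := fun S => by
      conv_lhs => rw [← hfix S, inv_smul_smul]
    have hcen : ∀ u, Φ k u * u⁻¹ ∈ center SL25 := by
      intro u
      refine mem_center_of_normalizes fun S => Sylow.smul_eq_iff_mem_normalizer.mp ?_
      have hconj : MulAut.conj (Φ k u) = Φ k * MulAut.conj u * (Φ k)⁻¹ := MulEquiv.ext fun w => by
        show Φ k u * w * (Φ k u)⁻¹ = Φ k (u * (Φ k).symm w * u⁻¹)
        rw [map_mul, map_mul, map_inv, MulEquiv.apply_symm_apply]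
      show MulAut.conj (Φ k u * u⁻¹) • S = S
      rw [map_mul, hconj, mul_smul, mul_smul, mul_smul, hinv, hfix, ← mul_smul, ← map_mul,
        mul_inv_cancel, map_one, one_smul]
    have hfix3 : ∀ u : SL25, u ^ 3 = 1 → Φ k u = u := by
      intro u hu
      set c := Φ k u * u⁻¹ with hc
      have hku : Φ k u = c * u := by rw [hc, inv_mul_cancel_right]
      have hc2 : c ^ 2 = 1 := by
        have h1 : orderOf (⟨c, hcen u⟩ : center SL25) ∣ 2 := by
          refine (_root_.orderOf_dvd_natCard _).trans ?_
          have := Nat.card_pos (α := center SL25)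
          have := card_centre
          rcases (show Nat.card (center SL25) = 1 ∨ Nat.card (center SL25) = 2 by omega) with e | e <;>
            rw [e]
          norm_num
        exact congrArg Subtype.val (orderOf_dvd_iff_pow_eq_one.mp h1)
      have hc3 : c ^ 3 = 1 := by
        have h1 : (Φ k u) ^ 3 = 1 := by rw [← map_pow, hu, map_one]
        have hcu : Commute c u := (mem_center_iff.mp (hcen u) u).symm
        rwa [hku, hcu.mul_pow, hu, mul_one] at h1
      have hc1 : c = 1 := by
        rw [pow_succ, hc2, one_mul] at hc3; exact hc3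
      rw [hku, hc1, one_mul]
    obtain ⟨⟨-, ha3⟩, ⟨-, hb3⟩, -, -⟩ := isPair_gen
    refine mem_centralizer_iff.mpr ?_
    rintro _ ⟨u, rfl⟩
    have hall : Φ k u = u := by
      have hv : u ∈ Subgroup.closure ({genA, genB} : Set SL25) := closure_gen ▸ mem_top u
      induction hv using closure_induction with
      | mem x hx =>
        rcases hx with rfl | rfl
        exacts [hfix3 _ ha3, hfix3 _ hb3]
      | one => exact map_one _
      | mul x y _ _ hx hy => rw [map_mul, hx, hy]
      | inv x _ hx => rw [map_inv, hx]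
    have := hΦ k u
    rw [hall] at this
    exact (mul_inv_eq_iff_eq_mul.mp this.symm).symm
  · intro k hk
    have h1 : Φ k = 1 := MulEquiv.ext fun u => hθ (by
      rw [hΦ, MulAut.one_apply, ← mem_centralizer_iff.mp hk (θ u) ⟨u, rfl⟩, mul_inv_cancel_right])
    rw [MonoidHom.mem_ker, MonoidHom.comp_apply, MonoidHom.comp_apply, h1, map_one, map_one]

end Cfsg.Agent.Zassenhaus
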