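import Mathlib

/-!
Fixed-point-free linear groups: `ρ : G →* A` with `ρ g - 1` invertible for `g ≠ 1`.
-/

set_option autoImplicit false

namespace Cfsg.Agent.Zassenhaus

variable {G : Type*} [Group G]

/-- fixed-point-free representation in a ring -/
def IsFpf {A : Type*} [Ring A] (ρ : G →* A) : Prop := ∀ g : G, g ≠ 1 → IsUnit (ρ g - 1)

section Ring

variable {A : Type*} [Ring A] {ρ : G →* A}

theorem IsFpf.eq_one [Nontrivial A] (h : IsFpf ρ) {g : G} (hg : ρ g = 1) : g = 1 := by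
  by_contra hne
  have := h g hne
  rw [hg, sub_self] at this
  exact not_isUnit_zero this

theorem IsFpf.injective [Nontrivial A] (h : IsFpf ρ) : Function.Injective ρ :=
  (injective_iff_map_eq_one ρ).mpr fun _ => h.eq_one

theorem IsFpf.eq_zero_of_mul (h : IsFpf ρ) {g : G} (hg : g ≠ 1) {a : A} (ha : (ρ g - 1) * a = 0) :
    a = 0 := by
  obtain ⟨u, hu⟩ := h g hg
  rw [← hu] at ha
  simpa using congrArg (fun z => (↑u⁻¹ : A) * z) ha

theorem IsFpf.geom_sum (h : IsFpf ρ) {g : G} {r : ℕ} (hg : g ≠ 1) (hr : g ^ r = 1) :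
    ∑ i ∈ Finset.range r, ρ g ^ i = 0 :=
  h.eq_zero_of_mul hg (by rw [mul_geom_sum, ← map_pow, hr, map_one, sub_self])

/-- the square of a third root -/
theorem IsFpf.three (h : IsFpf ρ) {g : G} (hg : g ≠ 1) (h3 : g ^ 3 = 1) :
    ρ g * ρ g = -ρ g - 1 := by
  have := h.geom_sum hg h3
  simp [Finset.sum_range_succ, pow_two] at this
  rw [eq_sub_iff_add_eq, eq_neg_iff_add_eq_zero, ← this]
  abel

theorem IsFpf.eq_neg_one (h : IsFpf ρ) {g : G} (hg : g ≠ 1) (h2 : g ^ 2 = 1) : ρ g = -1 := by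
  have := h.geom_sum hg h2
  simp [Finset.sum_range_succ] at this
  exact eq_neg_iff_add_eq_zero.mpr (by rw [add_comm]; exact this)

/-- there is at most one involution, and it is central -/
theorem IsFpf.commute_invol [Nontrivial A] (h : IsFpf ρ) {g : G} (h2 : g ^ 2 = 1) (a : G) :
    Commute g a := by
  by_cases hg : g = 1
  · rw [hg]; exact Commute.one_left a
  apply h.injective
  rw [map_mul, map_mul, h.eq_neg_one hg h2, neg_one_mul, mul_neg, mul_one]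

theorem IsFpf.invol_unique [Nontrivial A] (h : IsFpf ρ) {g g' : G} (hg : g ≠ 1) (h2 : g ^ 2 = 1)
    (hg' : g' ≠ 1) (h2' : g' ^ 2 = 1) : g = g' :=
  h.injective (by rw [h.eq_neg_one hg h2, h.eq_neg_one hg' h2'])

/-- commuting elements of order three are powers of each other -/
theorem IsFpf.three_commute [Nontrivial A] (h : IsFpf ρ) {x y : G} (hx : x ≠ 1) (hy : y ≠ 1)
    (hx3 : x ^ 3 = 1) (hy3 : y ^ 3 = 1) (hc : Commute x y) : y = x ∨ y = x⁻¹ := by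
  by_contra hne
  push Not at hne
  have hu : x⁻¹ * y ≠ 1 := fun e => hne.1 (inv_mul_eq_one.mp e).symm
  have hxi : x⁻¹ = x ^ 2 := inv_eq_of_mul_eq_one_right (by rw [← pow_succ']; exact hx3)
  have h1 := h.three hx hx3
  have h2 := h.three hy hy3
  have hc' : ρ x * ρ y = ρ y * ρ x := by rw [← map_mul, ← map_mul, hc.eq]
  have e1 : (ρ y - ρ x) * (ρ y - ρ x⁻¹) = 0 := by
    rw [hxi, map_pow, pow_two, h1]
    calc (ρ y - ρ x) * (ρ y - (-ρ x - 1))
        = ρ y * ρ y + ρ y * ρ x + ρ y - ρ x * ρ y - ρ x * ρ x - ρ x := by noncomm_ring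
      _ = 0 := by rw [h1, h2, hc']; abel
  have e2 : ρ y - ρ x = ρ x * (ρ (x⁻¹ * y) - 1) := by
    rw [mul_sub, ← map_mul, mul_inv_cancel_left, mul_one]
  have hxu : IsUnit (ρ x) := (Group.isUnit x).map ρ
  have hu' : IsUnit (ρ y - ρ x) := e2 ▸ hxu.mul (h _ hu)
  have : ρ y = ρ x⁻¹ := sub_eq_zero.mp ((hu'.mul_right_eq_zero).mp e1)
  exact hne.2 (h.injective this)

variable (ρ)

/-- `w + w⁻¹` for `w = x y` -/
def tau (x y : G) : A := ρ (x * y) + ρ (x * y)⁻¹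

theorem tau_eq {x y : G} (hx : ρ x * ρ x = -ρ x - 1) (hy : ρ y * ρ y = -ρ y - 1)
    (hx3 : x ^ 3 = 1) (hy3 : y ^ 3 = 1) :
    tau ρ x y = ρ x * ρ y + ρ y * ρ x + ρ x + ρ y + 1 := by
  have hxi : x⁻¹ = x ^ 2 := inv_eq_of_mul_eq_one_right (by rw [← pow_succ']; exact hx3)
  have hyi : y⁻¹ = y ^ 2 := inv_eq_of_mul_eq_one_right (by rw [← pow_succ']; exact hy3)
  rw [tau, mul_inv_rev, hxi, hyi, map_mul, map_mul, map_pow, map_pow, pow_two, pow_two, hx, hy]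
  noncomm_ring

theorem tau_inv_eq {x y : G} (hx : ρ x * ρ x = -ρ x - 1) (hy : ρ y * ρ y = -ρ y - 1)
    (hx3 : x ^ 3 = 1) (hy3 : y ^ 3 = 1) : tau ρ x⁻¹ y = 1 - tau ρ x y := by
  have hxi : x⁻¹ = x ^ 2 := inv_eq_of_mul_eq_one_right (by rw [← pow_succ']; exact hx3)
  have h' : ρ x⁻¹ = -ρ x - 1 := by rw [hxi, map_pow, pow_two, hx]
  have hyi : y⁻¹ = y ^ 2 := inv_eq_of_mul_eq_one_right (by rw [← pow_succ']; exact hy3)
  rw [tau_eq ρ hx hy hx3 hy3, tau, mul_inv_rev, inv_inv, hyi, map_mul, map_mul, map_pow, h',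
    pow_two, hy]
  noncomm_ring

theorem tau_commute {x y : G} (hx : ρ x * ρ x = -ρ x - 1) (hy : ρ y * ρ y = -ρ y - 1)
    (hx3 : x ^ 3 = 1) (hy3 : y ^ 3 = 1) :
    Commute (tau ρ x y) (ρ x) ∧ Commute (tau ρ x y) (ρ y) := by
  rw [tau_eq ρ hx hy hx3 hy3]
  constructor
  · show _ = _
    calc (ρ x * ρ y + ρ y * ρ x + ρ x + ρ y + 1) * ρ x
        = ρ x * ρ y * ρ x + ρ y * (ρ x * ρ x) + ρ x * ρ x + ρ y * ρ x + ρ x := by noncomm_ring
      _ = ρ x * ρ y * ρ x - ρ y - 1 := by rw [hx]; noncomm_ring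
      _ = (ρ x * ρ x) * ρ y + ρ x * ρ y * ρ x + ρ x * ρ x + ρ x * ρ y + ρ x := by
          rw [hx]; noncomm_ring
      _ = ρ x * (ρ x * ρ y + ρ y * ρ x + ρ x + ρ y + 1) := by noncomm_ring
  · show _ = _
    calc (ρ x * ρ y + ρ y * ρ x + ρ x + ρ y + 1) * ρ y
        = ρ x * (ρ y * ρ y) + ρ y * ρ x * ρ y + ρ x * ρ y + ρ y * ρ y + ρ y := by noncomm_ring
      _ = ρ y * ρ x * ρ y - ρ x - 1 := by rw [hy]; noncomm_ring
      _ = ρ y * ρ x * ρ y + (ρ y * ρ y) * ρ x + ρ y * ρ x + ρ y * ρ y + ρ y := by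
          rw [hy]; noncomm_ring
      _ = ρ y * (ρ x * ρ y + ρ y * ρ x + ρ x + ρ y + 1) := by noncomm_ring

theorem xyx_eq {x y : G} (hx : ρ x * ρ x = -ρ x - 1) (hy : ρ y * ρ y = -ρ y - 1)
    (hx3 : x ^ 3 = 1) (hy3 : y ^ 3 = 1) :
    ρ x * ρ y * ρ x = tau ρ x y * ρ x + ρ y + 1 := by
  rw [tau_eq ρ hx hy hx3 hy3]
  calc ρ x * ρ y * ρ x = ρ x * ρ y * ρ x + ρ y * (ρ x * ρ x) + ρ x * ρ x + ρ y * ρ x + ρ x + ρ y + 1 := by
        rw [hx]; noncomm_ring
    _ = _ := by noncomm_ring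

theorem tau_commutator {x y : G} (hx : ρ x * ρ x = -ρ x - 1) (hy : ρ y * ρ y = -ρ y - 1)
    (hx3 : x ^ 3 = 1) (hy3 : y ^ 3 = 1) :
    tau ρ x (y * x⁻¹ * y⁻¹) = tau ρ x y * tau ρ x y - tau ρ x y := by
  have hxi : x⁻¹ = x ^ 2 := inv_eq_of_mul_eq_one_right (by rw [← pow_succ']; exact hx3)
  have hyi : y⁻¹ = y ^ 2 := inv_eq_of_mul_eq_one_right (by rw [← pow_succ']; exact hy3)
  have hx' : ρ x⁻¹ = -ρ x - 1 := by rw [hxi, map_pow, pow_two, hx]
  have hy' : ρ y⁻¹ = -ρ y - 1 := by rw [hyi, map_pow, pow_two, hy]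
  have exyx := xyx_eq ρ hx hy hx3 hy3
  obtain ⟨cx, cy⟩ := tau_commute ρ hx hy hx3 hy3
  have eyxy : ρ y * ρ x * ρ y = tau ρ x y * ρ y + ρ x + 1 := by
    rw [tau_eq ρ hx hy hx3 hy3]
    calc ρ y * ρ x * ρ y
        = ρ y * ρ x * ρ y + ρ x * (ρ y * ρ y) + ρ y * ρ y + ρ x * ρ y + ρ y + ρ x + 1 := by
          rw [hy]; noncomm_ring
      _ = _ := by noncomm_ring
  have eyx : ρ y * ρ x = tau ρ x y - ρ x * ρ y - ρ x - ρ y - 1 := by
    rw [tau_eq ρ hx hy hx3 hy3]; abel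
  have hinv : (x * (y * x⁻¹ * y⁻¹))⁻¹ = y * x * y⁻¹ * x⁻¹ := by group
  rw [show tau ρ x (y * x⁻¹ * y⁻¹) =
    ρ (x * (y * x⁻¹ * y⁻¹)) + ρ (x * (y * x⁻¹ * y⁻¹))⁻¹ from rfl, hinv]
  simp only [map_mul, hx', hy']
  set X := ρ x
  set Y := ρ y
  set t := tau ρ x y
  calc X * (Y * (-X - 1) * (-Y - 1)) + Y * X * (-Y - 1) * (-X - 1)
      = (X * Y) * (X * Y) + (Y * X) * (Y * X) + X * Y * X + Y * X * Y + X * (Y * Y) + X * Y
          + Y * (X * X) + Y * X := by noncomm_ring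
    _ = (X * Y) * (X * Y) + (Y * X) * (Y * X) + X * Y * X + Y * X * Y - X - Y := by
        rw [hx, hy]; noncomm_ring
    _ = (X * Y + Y * X) * (X * Y + Y * X) - X * (Y * Y) * X - Y * (X * X) * Y
          + X * Y * X + Y * X * Y - X - Y := by noncomm_ring
    _ = (X * Y + Y * X) * (X * Y + Y * X) + X * Y * X + X * X + Y * X * Y + Y * Y
          + X * Y * X + Y * X * Y - X - Y := by
        rw [show X * (Y * Y) * X = -(X * Y * X) - X * X by rw [hy]; noncomm_ring,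
          show Y * (X * X) * Y = -(Y * X * Y) - Y * Y by rw [hx]; noncomm_ring]
        noncomm_ring
    _ = (t - X - Y - 1) * (t - X - Y - 1) + X * Y * X + X * X + Y * X * Y + Y * Y
          + X * Y * X + Y * X * Y - X - Y := by
        rw [show X * Y + Y * X = t - X - Y - 1 by rw [eyx]; abel]
    _ = (t * t - t) + (t * X - X * t) + (t * Y - Y * t)
          + (X * Y + Y * X - t + X + Y + 1) := by
        rw [exyx, eyxy]
        calc _ = t * t - t + (t * X - X * t) + (t * Y - Y * t) + (X * Y + Y * X) - t + X + Y + 1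
              + 2 * (X * X + X + 1) + 2 * (Y * Y + Y + 1) := by noncomm_ring
          _ = _ := by rw [hx, hy]; noncomm_ring
    _ = t * t - t := by rw [cx.eq, cy.eq, eyx]; noncomm_ring

end Ring

end Cfsg.Agent.Zassenhaus

namespace Cfsg.Agent.Zassenhaus

variable {G : Type*} [Group G] {A : Type*} [Ring A] {ρ : G →* A}

theorem IsFpf.prime_natCast_ne_zero [Nontrivial A] {k : Type*} [Field k] [Algebra k A] (h : IsFpf ρ)
    {r : ℕ} [hr : Fact r.Prime] {g : G} (hg : orderOf g = r) : (r : k) ≠ 0 := by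
  intro h0
  haveI : CharP k r := ringChar.of_eq (by
    rcases (Nat.dvd_prime hr.out).mp (ringChar.dvd h0) with h1 | h1
    · exact absurd h1 CharP.ringChar_ne_one
    · exact h1)
  have hg1 : g ≠ 1 := fun e => hr.out.one_lt.ne (by rw [← hg, e, orderOf_one])
  have hp : ((Polynomial.X : Polynomial k) - 1) ^ r = Polynomial.X ^ r - 1 := by
    rw [sub_pow_char, one_pow]
  have h1 := congrArg (Polynomial.aeval (ρ g)) hp
  simp only [map_pow, map_sub, Polynomial.aeval_X, map_one] at h1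
  rw [← map_pow ρ g r, ← hg, pow_orderOf_eq_one, map_one, sub_self, hg] at h1
  exact not_isUnit_zero (h1 ▸ (h g hg1).pow r)

theorem IsFpf.natCast_ne_zero [Nontrivial A] {k : Type*} [Field k] [Algebra k A] (h : IsFpf ρ)
    [Finite G] {m : ℕ} (hm : m ∣ Nat.card G) : (m : k) ≠ 0 := by
  induction m using Nat.recOnMul with
  | zero => exact absurd (zero_dvd_iff.mp hm) Nat.card_pos.ne'
  | one => simp
  | prime p hp =>
    haveI := Fact.mk hp
    obtain ⟨g, hg⟩ := exists_prime_orderOf_dvd_card' p hm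
    exact h.prime_natCast_ne_zero hg
  | mul a b iha ihb =>
    rw [Nat.cast_mul]
    exact mul_ne_zero (iha ((dvd_mul_right a b).trans hm)) (ihb ((dvd_mul_left b a).trans hm))

end Cfsg.Agent.Zassenhaus
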