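import Cfsg.Agent.Lib.Zassenhaus.Classify

/-!
The icosian group: a copy of `SL(2, 5)` generated by two elements of order three.
-/

set_option autoImplicit false
set_option maxHeartbeats 1600000
set_option maxRecDepth 8000

namespace Cfsg.Agent.Zassenhaus

/-- four times a quaternion over `ℤ[√5, 1/2]` -/
abbrev Quad := ℤ√5 × ℤ√5 × ℤ√5 × ℤ√5

/-- quaternion product -/
def qMul (p q : Quad) : Quad :=
  let (a, b, c, d) := p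
  let (a', b', c', d') := q
  (a * a' - b * b' - c * c' - d * d', a * b' + b * a' + c * d' - d * c',
    a * c' - b * d' + c * a' + d * b', a * d' + b * c' - c * b' + d * a')

/-- four times a quaternion -/
def four (p : Quad) : Quad := (4 * p.1, 4 * p.2.1, 4 * p.2.2.1, 4 * p.2.2.2)

def icoL : List (Quad) := [
  (⟨4, 0⟩, ⟨0, 0⟩, ⟨0, 0⟩, ⟨0, 0⟩),
  (⟨-2, 0⟩, ⟨2, 0⟩, ⟨2, 0⟩, ⟨2, 0⟩),
  (⟨-2, 0⟩, ⟨0, 0⟩, ⟨-1, 1⟩, ⟨1, 1⟩),
  (⟨-2, 0⟩, ⟨-2, 0⟩, ⟨-2, 0⟩, ⟨-2, 0⟩),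
  (⟨1, -1⟩, ⟨0, 0⟩, ⟨-1, -1⟩, ⟨-2, 0⟩),
  (⟨1, -1⟩, ⟨-2, 0⟩, ⟨0, 0⟩, ⟨-1, -1⟩),
  (⟨-2, 0⟩, ⟨0, 0⟩, ⟨1, -1⟩, ⟨-1, -1⟩),
  (⟨1, 1⟩, ⟨0, 0⟩, ⟨2, 0⟩, ⟨1, -1⟩),
  (⟨1, 1⟩, ⟨1, -1⟩, ⟨0, 0⟩, ⟨2, 0⟩),
  (⟨1, 1⟩, ⟨-2, 0⟩, ⟨-1, 1⟩, ⟨0, 0⟩),
  (⟨1, 1⟩, ⟨2, 0⟩, ⟨1, -1⟩, ⟨0, 0⟩),
  (⟨1, 1⟩, ⟨2, 0⟩, ⟨-1, 1⟩, ⟨0, 0⟩),
  (⟨1, 1⟩, ⟨0, 0⟩, ⟨-2, 0⟩, ⟨-1, 1⟩),
  (⟨-2, 0⟩, ⟨1, 1⟩, ⟨0, 0⟩, ⟨-1, 1⟩),
  (⟨1, -1⟩, ⟨2, 0⟩, ⟨0, 0⟩, ⟨1, 1⟩),
  (⟨-2, 0⟩, ⟨-1, 1⟩, ⟨1, 1⟩, ⟨0, 0⟩),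
  (⟨-1, -1⟩, ⟨0, 0⟩, ⟨2, 0⟩, ⟨-1, 1⟩),
  (⟨1, -1⟩, ⟨1, 1⟩, ⟨2, 0⟩, ⟨0, 0⟩),
  (⟨1, -1⟩, ⟨-2, 0⟩, ⟨0, 0⟩, ⟨1, 1⟩),
  (⟨-1, -1⟩, ⟨-1, 1⟩, ⟨0, 0⟩, ⟨2, 0⟩),
  (⟨-2, 0⟩, ⟨0, 0⟩, ⟨1, -1⟩, ⟨1, 1⟩),
  (⟨1, -1⟩, ⟨0, 0⟩, ⟨1, 1⟩, ⟨2, 0⟩),
  (⟨-2, 0⟩, ⟨-2, 0⟩, ⟨2, 0⟩, ⟨2, 0⟩),
  (⟨1, -1⟩, ⟨-1, -1⟩, ⟨-2, 0⟩, ⟨0, 0⟩),
  (⟨0, 0⟩, ⟨-2, 0⟩, ⟨-1, -1⟩, ⟨1, -1⟩),
  (⟨-2, 0⟩, ⟨-1, -1⟩, ⟨0, 0⟩, ⟨1, -1⟩),
  (⟨0, 0⟩, ⟨2, 0⟩, ⟨-1, -1⟩, ⟨1, -1⟩),
  (⟨0, 0⟩, ⟨1, -1⟩, ⟨-2, 0⟩, ⟨-1, -1⟩),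
  (⟨0, 0⟩, ⟨-1, 1⟩, ⟨-2, 0⟩, ⟨-1, -1⟩),
  (⟨-2, 0⟩, ⟨1, -1⟩, ⟨-1, -1⟩, ⟨0, 0⟩),
  (⟨0, 0⟩, ⟨0, 0⟩, ⟨-4, 0⟩, ⟨0, 0⟩),
  (⟨0, 0⟩, ⟨1, -1⟩, ⟨2, 0⟩, ⟨-1, -1⟩),
  (⟨-2, 0⟩, ⟨0, 0⟩, ⟨-1, 1⟩, ⟨-1, -1⟩),
  (⟨0, 0⟩, ⟨-1, -1⟩, ⟨1, -1⟩, ⟨-2, 0⟩),
  (⟨0, 0⟩, ⟨-1, -1⟩, ⟨-1, 1⟩, ⟨-2, 0⟩),
  (⟨-2, 0⟩, ⟨2, 0⟩, ⟨-2, 0⟩, ⟨-2, 0⟩),
  (⟨0, 0⟩, ⟨0, 0⟩, ⟨0, 0⟩, ⟨-4, 0⟩),
  (⟨1, -1⟩, ⟨2, 0⟩, ⟨0, 0⟩, ⟨-1, -1⟩),
  (⟨-1, 1⟩, ⟨0, 0⟩, ⟨1, 1⟩, ⟨-2, 0⟩),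
  (⟨1, 1⟩, ⟨0, 0⟩, ⟨2, 0⟩, ⟨-1, 1⟩),
  (⟨2, 0⟩, ⟨1, -1⟩, ⟨1, 1⟩, ⟨0, 0⟩),
  (⟨1, 1⟩, ⟨-1, 1⟩, ⟨0, 0⟩, ⟨-2, 0⟩),
  (⟨2, 0⟩, ⟨2, 0⟩, ⟨2, 0⟩, ⟨-2, 0⟩),
  (⟨-1, 1⟩, ⟨-2, 0⟩, ⟨0, 0⟩, ⟨1, 1⟩),
  (⟨2, 0⟩, ⟨-1, -1⟩, ⟨0, 0⟩, ⟨-1, 1⟩),
  (⟨1, 1⟩, ⟨-1, 1⟩, ⟨0, 0⟩, ⟨2, 0⟩),
  (⟨2, 0⟩, ⟨0, 0⟩, ⟨1, -1⟩, ⟨1, 1⟩),
  (⟨2, 0⟩, ⟨-2, 0⟩, ⟨2, 0⟩, ⟨-2, 0⟩),
  (⟨2, 0⟩, ⟨-2, 0⟩, ⟨2, 0⟩, ⟨2, 0⟩),
  (⟨-1, 1⟩, ⟨-1, -1⟩, ⟨2, 0⟩, ⟨0, 0⟩),
  (⟨-1, 1⟩, ⟨1, 1⟩, ⟨-2, 0⟩, ⟨0, 0⟩),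
  (⟨2, 0⟩, ⟨1, 1⟩, ⟨0, 0⟩, ⟨-1, 1⟩),
  (⟨2, 0⟩, ⟨-1, 1⟩, ⟨-1, -1⟩, ⟨0, 0⟩),
  (⟨2, 0⟩, ⟨-1, 1⟩, ⟨1, 1⟩, ⟨0, 0⟩),
  (⟨2, 0⟩, ⟨1, 1⟩, ⟨0, 0⟩, ⟨1, -1⟩),
  (⟨-1, 1⟩, ⟨1, 1⟩, ⟨2, 0⟩, ⟨0, 0⟩),
  (⟨2, 0⟩, ⟨-2, 0⟩, ⟨-2, 0⟩, ⟨2, 0⟩),
  (⟨1, 1⟩, ⟨-2, 0⟩, ⟨1, -1⟩, ⟨0, 0⟩),
  (⟨2, 0⟩, ⟨2, 0⟩, ⟨-2, 0⟩, ⟨2, 0⟩),
  (⟨-1, 1⟩, ⟨0, 0⟩, ⟨-1, -1⟩, ⟨2, 0⟩),
  (⟨1, -1⟩, ⟨1, 1⟩, ⟨-2, 0⟩, ⟨0, 0⟩),
  (⟨0, 0⟩, ⟨1, 1⟩, ⟨1, -1⟩, ⟨2, 0⟩),
  (⟨-1, -1⟩, ⟨2, 0⟩, ⟨-1, 1⟩, ⟨0, 0⟩),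
  (⟨-2, 0⟩, ⟨1, 1⟩, ⟨0, 0⟩, ⟨1, -1⟩),
  (⟨0, 0⟩, ⟨0, 0⟩, ⟨0, 0⟩, ⟨4, 0⟩),
  (⟨-2, 0⟩, ⟨2, 0⟩, ⟨-2, 0⟩, ⟨2, 0⟩),
  (⟨0, 0⟩, ⟨-1, 1⟩, ⟨-2, 0⟩, ⟨1, 1⟩),
  (⟨1, -1⟩, ⟨0, 0⟩, ⟨1, 1⟩, ⟨-2, 0⟩),
  (⟨-1, -1⟩, ⟨0, 0⟩, ⟨2, 0⟩, ⟨1, -1⟩),
  (⟨0, 0⟩, ⟨2, 0⟩, ⟨1, 1⟩, ⟨1, -1⟩),
  (⟨-1, -1⟩, ⟨1, -1⟩, ⟨0, 0⟩, ⟨2, 0⟩),
  (⟨-2, 0⟩, ⟨1, -1⟩, ⟨1, 1⟩, ⟨0, 0⟩),
  (⟨-1, -1⟩, ⟨-2, 0⟩, ⟨-1, 1⟩, ⟨0, 0⟩),
  (⟨0, 0⟩, ⟨4, 0⟩, ⟨0, 0⟩, ⟨0, 0⟩),
  (⟨0, 0⟩, ⟨1, 1⟩, ⟨-1, 1⟩, ⟨2, 0⟩),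
  (⟨-2, 0⟩, ⟨2, 0⟩, ⟨2, 0⟩, ⟨-2, 0⟩),
  (⟨0, 0⟩, ⟨1, 1⟩, ⟨-1, 1⟩, ⟨-2, 0⟩),
  (⟨0, 0⟩, ⟨-1, -1⟩, ⟨1, -1⟩, ⟨2, 0⟩),
  (⟨-2, 0⟩, ⟨-2, 0⟩, ⟨-2, 0⟩, ⟨2, 0⟩),
  (⟨0, 0⟩, ⟨1, -1⟩, ⟨2, 0⟩, ⟨1, 1⟩),
  (⟨0, 0⟩, ⟨-1, -1⟩, ⟨-1, 1⟩, ⟨2, 0⟩),
  (⟨-1, -1⟩, ⟨2, 0⟩, ⟨1, -1⟩, ⟨0, 0⟩),
  (⟨0, 0⟩, ⟨1, -1⟩, ⟨-2, 0⟩, ⟨1, 1⟩),
  (⟨-1, -1⟩, ⟨0, 0⟩, ⟨-2, 0⟩, ⟨-1, 1⟩),
  (⟨1, -1⟩, ⟨0, 0⟩, ⟨-1, -1⟩, ⟨2, 0⟩),
  (⟨0, 0⟩, ⟨0, 0⟩, ⟨4, 0⟩, ⟨0, 0⟩),
  (⟨0, 0⟩, ⟨2, 0⟩, ⟨1, 1⟩, ⟨-1, 1⟩),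
  (⟨-2, 0⟩, ⟨-1, -1⟩, ⟨0, 0⟩, ⟨-1, 1⟩),
  (⟨0, 0⟩, ⟨-2, 0⟩, ⟨1, 1⟩, ⟨-1, 1⟩),
  (⟨1, -1⟩, ⟨-1, -1⟩, ⟨2, 0⟩, ⟨0, 0⟩),
  (⟨-1, 1⟩, ⟨-1, -1⟩, ⟨-2, 0⟩, ⟨0, 0⟩),
  (⟨-1, 1⟩, ⟨0, 0⟩, ⟨-1, -1⟩, ⟨-2, 0⟩),
  (⟨0, 0⟩, ⟨-2, 0⟩, ⟨-1, -1⟩, ⟨-1, 1⟩),
  (⟨2, 0⟩, ⟨1, -1⟩, ⟨-1, -1⟩, ⟨0, 0⟩),
  (⟨-2, 0⟩, ⟨-2, 0⟩, ⟨2, 0⟩, ⟨-2, 0⟩),
  (⟨-1, -1⟩, ⟨1, -1⟩, ⟨0, 0⟩, ⟨-2, 0⟩),
  (⟨0, 0⟩, ⟨-4, 0⟩, ⟨0, 0⟩, ⟨0, 0⟩),
  (⟨2, 0⟩, ⟨2, 0⟩, ⟨-2, 0⟩, ⟨-2, 0⟩),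
  (⟨-2, 0⟩, ⟨-1, 1⟩, ⟨-1, -1⟩, ⟨0, 0⟩),
  (⟨0, 0⟩, ⟨2, 0⟩, ⟨-1, -1⟩, ⟨-1, 1⟩),
  (⟨-1, 1⟩, ⟨-2, 0⟩, ⟨0, 0⟩, ⟨-1, -1⟩),
  (⟨0, 0⟩, ⟨1, 1⟩, ⟨1, -1⟩, ⟨-2, 0⟩),
  (⟨2, 0⟩, ⟨0, 0⟩, ⟨1, -1⟩, ⟨-1, -1⟩),
  (⟨-1, 1⟩, ⟨2, 0⟩, ⟨0, 0⟩, ⟨-1, -1⟩),
  (⟨-1, -1⟩, ⟨-2, 0⟩, ⟨1, -1⟩, ⟨0, 0⟩),
  (⟨-1, -1⟩, ⟨-1, 1⟩, ⟨0, 0⟩, ⟨-2, 0⟩),
  (⟨0, 0⟩, ⟨-1, 1⟩, ⟨2, 0⟩, ⟨-1, -1⟩),
  (⟨2, 0⟩, ⟨-2, 0⟩, ⟨-2, 0⟩, ⟨-2, 0⟩),
  (⟨0, 0⟩, ⟨-2, 0⟩, ⟨1, 1⟩, ⟨1, -1⟩),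
  (⟨2, 0⟩, ⟨-1, -1⟩, ⟨0, 0⟩, ⟨1, -1⟩),
  (⟨-1, -1⟩, ⟨0, 0⟩, ⟨-2, 0⟩, ⟨1, -1⟩),
  (⟨2, 0⟩, ⟨0, 0⟩, ⟨-1, 1⟩, ⟨-1, -1⟩),
  (⟨2, 0⟩, ⟨0, 0⟩, ⟨-1, 1⟩, ⟨1, 1⟩),
  (⟨-1, 1⟩, ⟨0, 0⟩, ⟨1, 1⟩, ⟨2, 0⟩),
  (⟨1, 1⟩, ⟨0, 0⟩, ⟨-2, 0⟩, ⟨1, -1⟩),
  (⟨2, 0⟩, ⟨2, 0⟩, ⟨2, 0⟩, ⟨2, 0⟩),
  (⟨-1, 1⟩, ⟨2, 0⟩, ⟨0, 0⟩, ⟨1, 1⟩),
  (⟨1, 1⟩, ⟨1, -1⟩, ⟨0, 0⟩, ⟨-2, 0⟩),
  (⟨-4, 0⟩, ⟨0, 0⟩, ⟨0, 0⟩, ⟨0, 0⟩),
  (⟨0, 0⟩, ⟨-1, 1⟩, ⟨2, 0⟩, ⟨1, 1⟩)]

def icoX : List ℕ := [1, 3, 5, 0, 8, 10, 12, 13, 15, 17, 2, 19, 21, 23, 25, 4, 27, 29, 31, 33, 34, 6, 36, 7, 39, 41, 43, 45, 46, 9, 48, 50, 52, 11, 54, 56, 58, 59, 60, 62, 63, 14, 65, 67, 69, 16, 71, 73, 75, 76, 18, 70, 79, 81, 20, 83, 85, 86, 22, 88, 77, 87, 24, 92, 94, 96, 89, 26, 91, 98, 100, 28, 102, 78, 104, 30, 84, 38, 47, 32, 106, 90, 108, 109, 49, 35, 110, 111, 37, 103, 53, 112, 40, 113, 97, 114, 42, 64, 44, 80, 51, 82, 116,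 66, 117, 93, 99, 115, 101, 55, 57, 61, 68, 105, 119, 118, 72, 74, 107, 95]

def icoY : List ℕ := [2, 4, 6, 7, 9, 11, 0, 14, 16, 1, 18, 20, 22, 24, 3, 26, 28, 30, 32, 27, 5, 35, 37, 38, 40, 42, 44, 39, 8, 47, 49, 51, 10, 53, 55, 57, 45, 12, 61, 19, 13, 64, 66, 68, 15, 70, 72, 74, 62, 17, 77, 78, 80, 65, 82, 84, 71, 21, 87, 89, 90, 23, 91, 93, 95, 33, 25, 50, 97, 99, 36, 101, 103, 92, 29, 52, 59, 67, 31, 105, 75, 107, 94, 100, 34, 60, 98, 106, 63, 76, 85, 48, 108, 88, 54, 41, 69, 43, 109, 96, 115, 56, 112, 46, 111, 114, 58, 113, 73, 86, 117, 116, 118, 81, 79, 83, 104, 119, 102, 110]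

def icoW : List (List Bool) := [
  [],
  [false],
  [true],
  [false, false],
  [false, true],
  [true, false],
  [true, true],
  [false, false, true],
  [false, true, false],
  [false, true, true],
  [true, false, false],
  [true, false, true],
  [true, true, false],
  [false, false, true, false],
  [false, false, true, true],
  [false, true, false, false],
  [false, true, false, true],
  [false, true, true, false],
  [true, false, false, true],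
  [true, false, true, false],
  [true, false, true, true],
  [true, true, false, false],
  [true, true, false, true],
  [false, false, true, false, false],
  [false, false, true, false, true],
  [false, false, true, true, false],
  [false, true, false, false, true],
  [false, true, false, true, false],
  [false, true, false, true, true],
  [false, true, true, false, false],
  [false, true, true, false, true],
  [true, false, false, true, false],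
  [true, false, false, true, true],
  [true, false, true, false, false],
  [true, false, true, true, false],
  [true, true, false, false, true],
  [true, true, false, true, false],
  [true, true, false, true, true],
  [false, false, true, false, false, true],
  [false, false, true, false, true, false],
  [false, false, true, false, true, true],
  [false, false, true, true, false, false],
  [false, false, true, true, false, true],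
  [false, true, false, false, true, false],
  [false, true, false, false, true, true],
  [false, true, false, true, false, false],
  [false, true, false, true, true, false],
  [false, true, true, false, false, true],
  [false, true, true, false, true, false],
  [false, true, true, false, true, true],
  [true, false, false, true, false, false],
  [true, false, false, true, false, true],
  [true, false, false, true, true, false],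
  [true, false, true, false, false, true],
  [true, false, true, true, false, false],
  [true, false, true, true, false, true],
  [true, true, false, false, true, false],
  [true, true, false, false, true, true],
  [true, true, false, true, false, false],
  [true, true, false, true, true, false],
  [false, false, true, false, false, true, false],
  [false, false, true, false, false, true, true],
  [false, false, true, false, true, false, false],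
  [false, false, true, false, true, true, false],
  [false, false, true, true, false, false, true],
  [false, false, true, true, false, true, false],
  [false, false, true, true, false, true, true],
  [false, true, false, false, true, false, false],
  [false, true, false, false, true, false, true],
  [false, true, false, false, true, true, false],
  [false, true, false, true, false, false, true],
  [false, true, false, true, true, false, false],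
  [false, true, false, true, true, false, true],
  [false, true, true, false, false, true, false],
  [false, true, true, false, false, true, true],
  [false, true, true, false, true, false, false],
  [false, true, true, false, true, true, false],
  [true, false, false, true, false, false, true],
  [true, false, false, true, false, true, true],
  [true, false, false, true, true, false, false],
  [true, false, false, true, true, false, true],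
  [true, false, true, false, false, true, false],
  [true, false, true, true, false, false, true],
  [true, false, true, true, false, true, false],
  [true, false, true, true, false, true, true],
  [true, true, false, false, true, false, false],
  [true, true, false, false, true, true, false],
  [true, true, false, true, false, false, true],
  [true, true, false, true, true, false, false],
  [true, true, false, true, true, false, true],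
  [false, false, true, false, false, true, false, true],
  [false, false, true, false, true, false, false, true],
  [false, false, true, false, true, true, false, false],
  [false, false, true, false, true, true, false, true],
  [false, false, true, true, false, false, true, false],
  [false, false, true, true, false, false, true, true],
  [false, false, true, true, false, true, false, false],
  [false, true, false, false, true, false, true, true],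
  [false, true, false, false, true, true, false, false],
  [false, true, false, false, true, true, false, true],
  [false, true, false, true, false, false, true, false],
  [false, true, false, true, true, false, false, true],
  [false, true, false, true, true, false, true, false],
  [false, true, false, true, true, false, true, true],
  [false, true, true, false, false, true, true, false],
  [true, false, false, true, true, false, false, true],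
  [true, false, false, true, true, false, true, false],
  [true, false, true, false, false, true, false, true],
  [true, false, true, true, false, false, true, false],
  [true, false, true, true, false, true, false, false],
  [true, true, false, false, true, true, false, false],
  [true, true, false, true, false, false, true, false],
  [false, false, true, false, true, false, false, true, false],
  [false, false, true, false, true, true, false, true, false],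
  [false, false, true, true, false, false, true, true, false],
  [false, true, false, true, false, false, true, false, true],
  [false, true, false, true, true, false, true, false, false],
  [false, true, true, false, false, true, true, false, false],
  [false, false, true, false, true, false, false, true, false, true],
  [false, false, true, true, false, false, true, true, false, false]]

def icoM : List (ℕ × ℕ × ℕ × ℕ) := [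
  (1, 0, 0, 1),
  (3, 4, 3, 1),
  (2, 4, 2, 2),
  (1, 1, 2, 3),
  (4, 0, 3, 4),
  (3, 2, 2, 0),
  (2, 1, 3, 2),
  (4, 1, 0, 4),
  (2, 1, 1, 1),
  (3, 1, 4, 0),
  (0, 4, 1, 3),
  (0, 1, 4, 3),
  (4, 4, 0, 4),
  (0, 2, 2, 4),
  (0, 3, 3, 3),
  (4, 4, 1, 0),
  (1, 0, 4, 1),
  (2, 3, 2, 1),
  (3, 3, 3, 0),
  (3, 1, 1, 4),
  (2, 2, 4, 2),
  (4, 0, 2, 4),
  (1, 4, 3, 3),
  (1, 2, 3, 2),
  (4, 4, 2, 1),
  (4, 3, 3, 0),
  (1, 4, 2, 4),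
  (3, 4, 0, 2),
  (2, 4, 0, 3),
  (0, 1, 4, 4),
  (0, 4, 1, 0),
  (3, 0, 4, 2),
  (2, 3, 1, 2),
  (2, 3, 0, 3),
  (2, 0, 3, 3),
  (3, 1, 2, 1),
  (0, 3, 3, 0),
  (0, 2, 2, 3),
  (1, 3, 0, 1),
  (4, 0, 4, 4),
  (1, 4, 1, 0),
  (1, 4, 4, 2),
  (4, 2, 1, 2),
  (0, 3, 3, 2),
  (0, 2, 2, 1),
  (1, 1, 1, 2),
  (3, 2, 4, 3),
  (2, 2, 1, 4),
  (2, 4, 3, 4),
  (3, 3, 2, 4),
  (4, 2, 3, 3),
  (1, 2, 2, 0),
  (0, 1, 4, 1),
  (0, 4, 1, 1),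
  (1, 3, 3, 0),
  (4, 3, 2, 3),
  (2, 3, 4, 4),
  (3, 4, 1, 0),
  (4, 3, 4, 2),
  (1, 2, 0, 1),
  (2, 2, 3, 1),
  (3, 0, 2, 2),
  (2, 1, 4, 0),
  (0, 3, 3, 4),
  (0, 2, 2, 0),
  (3, 3, 4, 1),
  (2, 0, 1, 3),
  (4, 3, 0, 4),
  (1, 1, 0, 1),
  (1, 2, 4, 4),
  (4, 1, 1, 3),
  (0, 4, 1, 4),
  (0, 1, 4, 2),
  (2, 0, 0, 3),
  (3, 2, 0, 2),
  (3, 2, 1, 1),
  (3, 0, 3, 2),
  (2, 0, 2, 3),
  (1, 3, 4, 3),
  (3, 1, 0, 2),
  (2, 2, 0, 3),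
  (2, 4, 1, 0),
  (3, 0, 1, 2),
  (1, 4, 0, 1),
  (4, 2, 0, 4),
  (0, 1, 4, 0),
  (1, 1, 3, 4),
  (4, 2, 2, 0),
  (4, 1, 3, 1),
  (1, 3, 2, 2),
  (3, 2, 3, 4),
  (1, 0, 3, 1),
  (4, 3, 1, 1),
  (1, 1, 4, 0),
  (1, 2, 1, 3),
  (4, 4, 4, 3),
  (3, 0, 0, 2),
  (4, 1, 2, 2),
  (4, 1, 4, 0),
  (1, 3, 1, 4),
  (0, 2, 2, 2),
  (3, 3, 0, 2),
  (3, 1, 3, 3),
  (2, 2, 2, 0),
  (0, 4, 1, 2),
  (3, 4, 4, 4),
  (2, 0, 4, 3),
  (2, 1, 2, 4),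
  (4, 2, 4, 1),
  (0, 3, 3, 1),
  (1, 0, 1, 1),
  (3, 3, 1, 3),
  (3, 4, 2, 3),
  (1, 0, 2, 1),
  (4, 0, 1, 4),
  (4, 4, 3, 2),
  (2, 3, 3, 0),
  (2, 4, 4, 1),
  (4, 0, 0, 4),
  (2, 1, 0, 3)]

/-- the quaternion of index `n` -/
def qOf (n : Fin 120) : Quad := icoL.getD n 0

/-- right multiplication by the first generator -/
def stepX (n : Fin 120) : Fin 120 := ⟨icoX.getD n 0 % 120, Nat.mod_lt _ (by decide)⟩

/-- right multiplication by the second generator -/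
def stepY (n : Fin 120) : Fin 120 := ⟨icoY.getD n 0 % 120, Nat.mod_lt _ (by decide)⟩

/-- the step by a letter -/
def step (n : Fin 120) : Bool → Fin 120
  | false => stepX n
  | true => stepY n

/-- the word of index `n` -/
def wordOf (n : Fin 120) : List Bool := icoW.getD n []

/-- the four times the first generator -/
def genX : Quad := (⟨-2, 0⟩, ⟨2, 0⟩, ⟨2, 0⟩, ⟨2, 0⟩)

/-- four times the second generator -/
def genY : Quad := (⟨-2, 0⟩, ⟨0, 0⟩, ⟨-1, 1⟩, ⟨1, 1⟩)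

theorem table_mul : ∀ n : Fin 120, qMul (qOf n) genX = four (qOf (stepX n)) ∧
    qMul (qOf n) genY = four (qOf (stepY n)) := by
  decide +kernel

theorem table_word : ∀ n : Fin 120, (wordOf n).foldl step 0 = n := by
  decide +kernel

theorem table_zero : qOf 0 = (⟨4, 0⟩, ⟨0, 0⟩, ⟨0, 0⟩, ⟨0, 0⟩) := by
  decide +kernel

/-- the norm of an element of `ℤ[√5]` -/
def nm (z : ℤ√5) : ℤ := z.re * z.re - 5 * (z.im * z.im)

theorem table_norm : ∀ n : Fin 120, n ≠ 0 →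
    (nm ((qOf n).1 - 4) ∣ 30 ^ 12) ∨ (nm (qOf n).2.1 ∣ 30 ^ 12) ∨
      (nm (qOf n).2.2.1 ∣ 30 ^ 12) ∨ (nm (qOf n).2.2.2 ∣ 30 ^ 12) := by
  decide +kernel

/-- the matrix of index `n` -/
def entries (n : Fin 120) : ZMod 5 × ZMod 5 × ZMod 5 × ZMod 5 :=
  let m := icoM.getD n (0, 0, 0, 0)
  ((m.1 : ZMod 5), (m.2.1 : ZMod 5), (m.2.2.1 : ZMod 5), (m.2.2.2 : ZMod 5))

theorem table_det : ∀ n : Fin 120,
    (entries n).1 * (entries n).2.2.2 - (entries n).2.1 * (entries n).2.2.1 = 1 := by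
  decide +kernel

/-- the matrix of index `n` in `SL(2, 5)` -/
def matOf (n : Fin 120) : Matrix.SpecialLinearGroup (Fin 2) (ZMod 5) :=
  ⟨!![(entries n).1, (entries n).2.1; (entries n).2.2.1, (entries n).2.2.2],
    (Matrix.det_fin_two_of _ _ _ _).trans (table_det n)⟩

theorem table_inj : ∀ n m : Fin 120, entries n = entries m → n = m := by
  decide +kernel

theorem table_surj : ∀ a b c d : ZMod 5, a * d - b * c = 1 → ∃ n : Fin 120, entries n = (a, b, c, d) := by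
  decide +kernel

/-- product of entries -/
def eMul (p q : ZMod 5 × ZMod 5 × ZMod 5 × ZMod 5) : ZMod 5 × ZMod 5 × ZMod 5 × ZMod 5 :=
  (p.1 * q.1 + p.2.1 * q.2.2.1, p.1 * q.2.1 + p.2.1 * q.2.2.2,
    p.2.2.1 * q.1 + p.2.2.2 * q.2.2.1, p.2.2.1 * q.2.1 + p.2.2.2 * q.2.2.2)

theorem table_mat : entries 0 = (1, 0, 0, 1) ∧ ∀ n : Fin 120,
    entries (stepX n) = eMul (entries n) (entries (stepX 0)) ∧
      entries (stepY n) = eMul (entries n) (entries (stepY 0)) := by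
  decide +kernel

theorem matOf_bijective : Function.Bijective matOf := by
  refine ⟨fun n m h => table_inj n m ?_, fun M => ?_⟩
  · have h' := congrArg Subtype.val h
    have h00 := congrFun (congrFun h' 0) 0
    have h01 := congrFun (congrFun h' 0) 1
    have h10 := congrFun (congrFun h' 1) 0
    have h11 := congrFun (congrFun h' 1) 1
    simp [matOf] at h00 h01 h10 h11
    exact Prod.ext h00 (Prod.ext h01 (Prod.ext h10 h11))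
  · have hd : M.1 0 0 * M.1 1 1 - M.1 0 1 * M.1 1 0 = 1 := by
      rw [← Matrix.det_fin_two]; exact M.2
    obtain ⟨n, hn⟩ := table_surj _ _ _ _ hd
    refine ⟨n, Subtype.ext (Matrix.ext fun i j => ?_)⟩
    fin_cases i <;> fin_cases j <;> simp [matOf, hn]

theorem matOf_mul : matOf 0 = 1 ∧ ∀ n : Fin 120,
    matOf (stepX n) = matOf n * matOf (stepX 0) ∧ matOf (stepY n) = matOf n * matOf (stepY 0) := by
  have key : ∀ n m l : Fin 120, entries l = eMul (entries n) (entries m) →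
      matOf l = matOf n * matOf m := by
    intro n m l h
    refine Subtype.ext (Matrix.ext fun i j => ?_)
    rw [Matrix.SpecialLinearGroup.coe_mul]
    fin_cases i <;> fin_cases j <;>
      simp [matOf, h, eMul, Matrix.mul_apply, Fin.sum_univ_two]
  refine ⟨?_, fun n => ⟨key _ _ _ (table_mat.2 n).1, key _ _ _ (table_mat.2 n).2⟩⟩
  refine Subtype.ext (Matrix.ext fun i j => ?_)
  fin_cases i <;> fin_cases j <;> simp [matOf, table_mat.1]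

section Embed

variable {G : Type*} [Group G] {k : Type*} [Field k] {A : Type*} [Ring A] [Algebra k A] [Nontrivial A]
  {ρ : G →* A}

/-- evaluation of `ℤ[√5]` at `S` -/
def evZ (S : A) (z : ℤ√5) : A := (z.re : A) + (z.im : A) * S

theorem evZ_mul {S : A} (hS : S * S = 5) (a b : ℤ√5) : evZ S (a * b) = evZ S a * evZ S b := by
  have h1 : ∀ m : ℤ, S * (m : A) = (m : A) * S := fun m => (Int.cast_commute m S).eq.symm
  simp only [evZ, Zsqrtd.re_mul, Zsqrtd.im_mul, Int.cast_add, Int.cast_mul, add_mul, mul_add]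
  rw [mul_assoc (a.im : A) S (b.re : A), h1, ← mul_assoc (a.im : A) (b.re : A) S,
    show (a.im : A) * S * ((b.im : A) * S) = (a.im : A) * (b.im : A) * (S * S) by
      rw [mul_assoc (a.im : A), ← mul_assoc S, h1, mul_assoc (b.im : A), ← mul_assoc],
    hS, show ((5 : ℤ) : A) = 5 by norm_num]
  rw [mul_assoc (5 : A), (Commute.ofNat_left 5 ((a.im : A) * (b.im : A))).eq]
  simp only [← mul_assoc]
  abel

theorem evZ_add (S : A) (a b : ℤ√5) : evZ S (a + b) = evZ S a + evZ S b := by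
  simp [evZ, add_mul]; abel

theorem evZ_sub (S : A) (a b : ℤ√5) : evZ S (a - b) = evZ S a - evZ S b := by
  simp [evZ, sub_mul]; abel

variable (F : Frame ρ)

/-- evaluation of a quaternion -/
def evQ (S : A) (p : Quad) : A := F.q (evZ S p.1) (evZ S p.2.1) (evZ S p.2.2.1) (evZ S p.2.2.2)

theorem evQ_mul {S : A} (hSc : F.InC S) (hS : S * S = 5) (p q : Quad) :
    evQ F S (qMul p q) = evQ F S p * evQ F S q := by
  have hc : ∀ z : ℤ√5, F.InC (evZ S z) := fun z =>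
    F.inC_add (F.inC_int z.re) (F.inC_mul (F.inC_int z.im) hSc)
  obtain ⟨a, b, c, d⟩ := p
  obtain ⟨a', b', c', d'⟩ := q
  simp only [evQ, qMul]
  rw [F.q_mul (hc a) (hc b) (hc c) (hc d)]
  simp only [evZ_add, evZ_sub, evZ_mul hS]

theorem evQ_four {S : A} (hS : S * S = 5) (p : Quad) : evQ F S (four p) = 4 * evQ F S p := by
  have h4 : evZ S (4 : ℤ√5) = 4 := by simp [evZ]
  simp only [evQ, four, evZ_mul hS, h4, Frame.q]
  have h : ∀ u : A, u * 4 = 4 * u := fun u => ((Commute.ofNat_left 4 u).eq).symm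
  simp only [mul_add, ← mul_assoc, h]

theorem icosian (hG : Geo k ρ) {S : A} (hS : F.InS k S) {y0 : G} (hy : ax ρ y0 = F.Yq k S) :
    ∃ θ : Matrix.SpecialLinearGroup (Fin 2) (ZMod 5) →* G, Function.Injective θ ∧
      θ.range = Subgroup.closure {F.x, y0} := by
  obtain ⟨hSc, hS5, h5, -⟩ := hS
  have h2 := hG.two
  have h4 : (4 : k) ≠ 0 := by
    rw [show (4 : k) = 2 * 2 by norm_num]; exact mul_ne_zero h2 h2
  have cancel4 : ∀ {a b : A}, (4 : A) * a = 4 * b → a = b := fun h =>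
    smul_cancel h4 (by rwa [map_ofNat])
  let gen : Bool → G := fun t => bif t then y0 else F.x
  let e : Fin 120 → G := fun n => ((wordOf n).map gen).prod
  have e4 : 4 * ρ F.x = evQ F S genX := by
    have h := F.two_x
    simp only [evQ, genX, evZ]
    rw [show (4 : A) * ρ F.x = 2 * ρ F.x + 2 * ρ F.x by rw [← add_mul]; norm_num, h, F.q_add]
    norm_num
  have e4' : 4 * ρ y0 = evQ F S genY := by
    have h : 2 * (2 * ρ y0 + 1) = F.q 0 0 (S - 1) (S + 1) := by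
      rw [← F.doubled hG S, ← hy, ax]
    have h' : 4 * ρ y0 = F.q 0 0 (S - 1) (S + 1) + F.q (-2) 0 0 0 := by
      rw [← h, F.q_scalar, mul_add, ← mul_assoc, mul_one]; norm_num
    rw [h', F.q_add]
    simp only [evQ, genY, evZ]
    norm_num
    congr 1 <;> abel
  have inj := hG.fpf.injective
  have hstep : ∀ (g : G) (n : Fin 120) (t : Bool), 4 * ρ g = evQ F S (qOf n) →
      4 * ρ (g * gen t) = evQ F S (qOf (step n t)) := by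
    intro g n t h
    refine cancel4 ?_
    have key : ∀ (u : G) (p : Quad), 4 * ρ u = evQ F S p →
        4 * (4 * ρ (g * u)) = evQ F S (qMul (qOf n) p) := by
      intro u p hu
      rw [evQ_mul F hSc hS5, ← h, ← hu, map_mul, mul_assoc 4 (ρ g), ← mul_assoc (ρ g) 4,
        ← (Commute.ofNat_left 4 (ρ g)).eq, mul_assoc]
    cases t
    · rw [show gen false = F.x from rfl, key _ _ e4, (table_mul n).1, evQ_four F hS5]; rfl
    · rw [show gen true = y0 from rfl, key _ _ e4', (table_mul n).2, evQ_four F hS5]; rfl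
  have hfold : ∀ (l : List Bool) (g : G) (n : Fin 120), 4 * ρ g = evQ F S (qOf n) →
      4 * ρ (g * (l.map gen).prod) = evQ F S (qOf (l.foldl step n)) := by
    intro l
    induction l with
    | nil => intro g n h; simpa using h
    | cons t l ih =>
      intro g n h
      rw [List.map_cons, List.prod_cons, ← mul_assoc, List.foldl_cons]
      exact ih _ _ (hstep g n t h)
  have he : ∀ n, 4 * ρ (e n) = evQ F S (qOf n) := by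
    intro n
    have h0 : 4 * ρ (1 : G) = evQ F S (qOf 0) := by
      rw [map_one, mul_one, table_zero]
      simp [evQ, evZ, F.q_scalar]
    have := hfold (wordOf n) 1 0 h0
    rwa [one_mul, table_word] at this
  have hequiv : ∀ n t, e n * gen t = e (step n t) := fun n t =>
    inj (cancel4 ((hstep _ n t (he n)).trans (he _).symm))
  have he0 : e 0 = 1 := by
    refine inj (cancel4 ((he 0).trans ?_))
    rw [map_one, mul_one, table_zero]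
    simp [evQ, evZ, F.q_scalar]
  let M : Fin 120 ≃ Matrix.SpecialLinearGroup (Fin 2) (ZMod 5) := Equiv.ofBijective _ matOf_bijective
  obtain ⟨hm0, hm⟩ := matOf_mul
  have hMstep : ∀ n t, matOf (step n t) = matOf n * matOf (step 0 t) := fun n t => by
    cases t
    · exact (hm n).1
    · exact (hm n).2
  have hMfold : ∀ (l : List Bool) (n : Fin 120),
      matOf (l.foldl step n) = matOf n * matOf (l.foldl step 0) ∧
        e (l.foldl step n) = e n * (l.map gen).prod := by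
    intro l
    induction l with
    | nil => intro n; simp [hm0]
    | cons t l ih =>
      intro n
      refine ⟨?_, ?_⟩
      · rw [List.foldl_cons, List.foldl_cons, (ih (step n t)).1, (ih (step 0 t)).1, hMstep n t,
          mul_assoc]
      · rw [List.foldl_cons, (ih (step n t)).2, ← hequiv, List.map_cons, List.prod_cons, mul_assoc]
  have hmul : ∀ a b, e (M.symm (a * b)) = e (M.symm a) * e (M.symm b) := by
    intro a b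
    have hw := table_word (M.symm b)
    obtain ⟨h1, h2'⟩ := hMfold (wordOf (M.symm b)) (M.symm a)
    rw [hw] at h1
    have hab : M.symm (a * b) = (wordOf (M.symm b)).foldl step (M.symm a) := by
      rw [Equiv.symm_apply_eq]
      show a * b = matOf _
      rw [h1, show matOf (M.symm a) = a from M.apply_symm_apply a,
        show matOf (M.symm b) = b from M.apply_symm_apply b]
    rw [hab, h2']
  let θ : Matrix.SpecialLinearGroup (Fin 2) (ZMod 5) →* G := MonoidHom.mk' (fun a => e (M.symm a)) hmul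
  have hgen : ∀ t, gen t ∈ Subgroup.closure ({F.x, y0} : Set G) := by
    intro t
    cases t
    · exact Subgroup.subset_closure (Set.mem_insert _ _)
    · exact Subgroup.subset_closure (Set.mem_insert_of_mem _ rfl)
  refine ⟨θ, (injective_iff_map_eq_one θ).mpr fun a ha => ?_, le_antisymm ?_ ?_⟩
  · by_contra hne
    have hn0 : M.symm a ≠ 0 := fun h => hne (by
      have := congrArg M h
      rw [M.apply_symm_apply] at this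
      rw [this]; exact hm0)
    have hq := he (M.symm a)
    rw [show e (M.symm a) = 1 from ha, map_one, mul_one] at hq
    have hc : ∀ z : ℤ√5, F.InC (evZ S z) := fun z =>
      F.inC_add (F.inC_int z.re) (F.inC_mul (F.inC_int z.im) hSc)
    obtain ⟨q1, q2, q3, q4⟩ := F.q_inj h2 (hc _) (hc _) (hc _) (hc _)
      (show F.InC (4 : A) by rw [show (4 : A) = ((4 : ℤ) : A) by simp]; exact F.inC_int 4)
      F.inC_zero F.inC_zero F.inC_zero (hq.symm.trans (F.q_scalar _).symm)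
    have h30 : (30 : k) ≠ 0 := by
      rw [show (30 : k) = 2 * 3 * 5 by norm_num]
      exact mul_ne_zero (mul_ne_zero h2 hG.three) h5
    have bad : ∀ z : ℤ√5, evZ S z = 0 → ¬ nm z ∣ 30 ^ 12 := by
      intro z hz hd
      have h1 : ((nm z : ℤ) : A) = 0 := by
        have h := evZ_mul hS5 z ⟨z.re, -z.im⟩
        rw [hz, zero_mul] at h
        have e1 : z * ⟨z.re, -z.im⟩ = ⟨nm z, 0⟩ := by
          ext
          · simp [nm]; ring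
          · simp; ring
        rw [e1] at h
        simpa [evZ] using h
      obtain ⟨c, hc⟩ := hd
      have h2' : ((30 ^ 12 : ℤ) : A) = 0 := by rw [hc, Int.cast_mul, h1, zero_mul]
      rw [← map_intCast (algebraMap k A), ← map_zero (algebraMap k A)] at h2'
      have := algMap_inj h2'
      rw [Int.cast_pow] at this
      exact h30 (eq_zero_of_pow_eq_zero (n := 12) (by simpa only [Int.cast_ofNat] using this))
    rcases table_norm _ hn0 with h | h | h | h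
    · refine bad _ ?_ h
      rw [evZ_sub, q1]
      simp [evZ]
    · exact bad _ q2 h
    · exact bad _ q3 h
    · exact bad _ q4 h
  · rintro _ ⟨a, rfl⟩
    refine list_prod_mem fun g hg => ?_
    obtain ⟨t, -, rfl⟩ := List.mem_map.mp hg
    exact hgen t
  · refine (Subgroup.closure_le _).mpr ?_
    have hone : θ 1 = 1 := map_one θ
    have hmem : ∀ t, gen t ∈ θ.range := fun t => ⟨matOf (step 0 t), by
      show e (M.symm (M (step 0 t))) = _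
      rw [M.symm_apply_apply, ← hequiv, he0, one_mul]⟩
    rintro g (rfl | rfl)
    · exact hmem false
    · exact hmem true

end Embed

end Cfsg.Agent.Zassenhaus
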