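import Cfsg.Agent.Lib.Zassenhaus.Rep

/-!
Abelian groups of odd order with a quaternion of automorphisms have square order.
-/

set_option autoImplicit false

namespace Cfsg.Agent.Zassenhaus

/-- two anticommuting square roots of `-1` split the space -/
theorem eigen_split {p : ℕ} [Fact p.Prime] (hp2 : p ≠ 2) {V : Type*} [AddCommGroup V]
    [Module (ZMod p) V] [Finite V] (I J : Module.End (ZMod p) V) (hII : I * I = -1) (hJJ : J * J = -1)
    (hJI : J * I = -(I * J)) : ∃ Vp : Submodule (ZMod p) V, Nat.card V = Nat.card Vp * Nat.card Vp ∧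
      ∀ T : Module.End (ZMod p) V, Commute T I → Commute T J → ∀ v ∈ Vp, T v ∈ Vp := by
  have hp : p.Prime := Fact.out
  obtain ⟨a, b, hab⟩ := ZMod.sq_add_sq p (-1)
  set U := a • I + b • J with hU
  have hUU : U * U = 1 := by
    rw [hU]
    simp only [add_mul, mul_add, smul_mul_smul_comm, hII, hJJ, hJI, smul_neg, mul_comm b a]
    rw [show -((a * a) • (1 : Module.End (ZMod p) V)) + -((a * b) • (I * J)) + ((a * b) • (I * J) + -((b * b) • 1))
      = -((a * a + b * b) • (1 : Module.End (ZMod p) V)) by rw [add_smul]; abel,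
      ← pow_two, ← pow_two, hab]
    simp
  set K' := I * J with hK'
  have hKU : K' * U = -(U * K') := by
    rw [hU, hK']
    simp only [mul_add, add_mul, mul_smul_comm, smul_mul_assoc, neg_add, ← smul_neg]
    congr 1
    · rw [mul_assoc, hJI, mul_neg, ← mul_assoc]
    · rw [← mul_assoc J, hJI, neg_mul, neg_neg]
  have h2 : (2 : ZMod p) ≠ 0 := by
    intro h
    rw [show (2 : ZMod p) = ((2 : ℕ) : ZMod p) from Nat.cast_ofNat.symm, ZMod.natCast_eq_zero_iff] at h
    have := Nat.le_of_dvd (by norm_num) h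
    have := hp.two_le
    omega
  have hKinj : Function.Injective K' := by
    intro u v e
    have hK2 : K' * K' = -1 := by
      rw [hK', mul_assoc, ← mul_assoc J, hJI, neg_mul, mul_assoc, hJJ, mul_neg_one, neg_neg, hII]
    have := congrArg K' e
    rw [← Module.End.mul_apply, ← Module.End.mul_apply, hK2] at this
    simpa using this
  let Vp : Submodule (ZMod p) V := LinearMap.ker (U - 1)
  let Vm : Submodule (ZMod p) V := LinearMap.ker (U + 1)
  have hmem_p : ∀ v, v ∈ Vp ↔ U v = v := fun v => by simp [Vp, sub_eq_zero]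
  have hmem_m : ∀ v, v ∈ Vm ↔ U v = -v := fun v => by simp [Vm, eq_neg_iff_add_eq_zero]
  have hUUv : ∀ v, U (U v) = v := fun v => by rw [← Module.End.mul_apply, hUU]; rfl
  have hswap : ∀ v, U (K' v) = -(K' (U v)) := fun v => by
    rw [← Module.End.mul_apply, ← Module.End.mul_apply, hKU, LinearMap.neg_apply, neg_neg]
  have hpm : Nat.card Vp = Nat.card Vm := le_antisymm
    (Nat.card_le_card_of_injective (fun v : Vp => (⟨K' v, (hmem_m _).mpr (by
      rw [hswap, (hmem_p _).mp v.2])⟩ : Vm)) (fun u v e => Subtype.ext (hKinj (congrArg Subtype.val e))))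
    (Nat.card_le_card_of_injective (fun v : Vm => (⟨K' v, (hmem_p _).mpr (by
      rw [hswap, (hmem_m _).mp v.2, map_neg, neg_neg])⟩ : Vp))
      (fun u v e => Subtype.ext (hKinj (congrArg Subtype.val e))))
  have hsplit : Nat.card V = Nat.card Vp * Nat.card Vm := by
    rw [← Nat.card_prod]
    refine (Nat.card_eq_of_bijective (fun x : Vp × Vm => (x.1 : V) + x.2) ⟨?_, ?_⟩).symm
    · rintro ⟨⟨u, hu⟩, ⟨w, hw⟩⟩ ⟨⟨u', hu'⟩, ⟨w', hw'⟩⟩ e
      simp only at e
      have e' := congrArg U e
      rw [map_add, map_add, (hmem_p u).mp hu, (hmem_m w).mp hw, (hmem_p u').mp hu', (hmem_m w').mp hw'] at e'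
      have e2 : (2 : ZMod p) • u = (2 : ZMod p) • u' := by
        rw [two_smul, two_smul]
        calc u + u = (u + w) + (u + -w) := by abel
          _ = (u' + w') + (u' + -w') := by rw [e, e']
          _ = u' + u' := by abel
      have eu := smul_right_injective V h2 e2
      subst eu
      exact Prod.ext rfl (Subtype.ext (add_left_cancel e))
    · intro v
      refine ⟨(⟨(2 : ZMod p)⁻¹ • (v + U v), (hmem_p _).mpr ?_⟩, ⟨(2 : ZMod p)⁻¹ • (v - U v), (hmem_m _).mpr ?_⟩), ?_⟩
      · rw [map_smul, map_add, hUUv, add_comm]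
      · rw [map_smul, map_sub, hUUv, ← smul_neg, neg_sub]
      · show _ • _ + _ • _ = v
        rw [← smul_add, show v + U v + (v - U v) = (2 : ZMod p) • v by rw [two_smul]; abel, smul_smul,
          inv_mul_cancel₀ h2, one_smul]
  refine ⟨Vp, by rw [hsplit, ← hpm], fun T hTI hTJ v hv => ?_⟩
  rw [hmem_p, ← Module.End.mul_apply, ← ((hTI.smul_right a).add_right (hTJ.smul_right b)).eq,
    Module.End.mul_apply, (hmem_p v).mp hv]

/-- two anticommuting square roots of `-1` force a square cardinality -/
theorem card_square_of_anticommute {p : ℕ} [Fact p.Prime] (hp2 : p ≠ 2) {V : Type*} [AddCommGroup V]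
    [Module (ZMod p) V] [Finite V] (I J : Module.End (ZMod p) V) (hII : I * I = -1) (hJJ : J * J = -1)
    (hJI : J * I = -(I * J)) : IsSquare (Nat.card V) :=
  let ⟨Vp, h, _⟩ := eigen_split hp2 I J hII hJJ hJI
  ⟨Nat.card Vp, h⟩

/-- two automorphisms generating a quaternion group force a square order -/
theorem isSquare_card_of_quaternion {A : Type*} [CommGroup A] [Finite A] (hodd : Odd (Nat.card A))
    (I J : A →* A) (hII : ∀ x, I (I x) = x⁻¹) (hJJ : ∀ x, J (J x) = x⁻¹)
    (hJI : ∀ x, J (I x) = (I (J x))⁻¹) : IsSquare (Nat.card A) := by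
  classical
  induction hn : Nat.card A using Nat.strong_induction_on generalizing A with
  | _ n ih =>
  subst hn
  rcases eq_or_ne (Nat.card A) 1 with h1 | h1
  · exact h1 ▸ ⟨1, rfl⟩
  obtain ⟨q, hq, hqd⟩ := Nat.exists_prime_and_dvd h1
  haveI := Fact.mk hq
  have hq2 : q ≠ 2 := by
    rintro rfl
    rw [Nat.odd_iff] at hodd; omega
  set P : A →* A := powMonoidHom q with hP
  have hcard : Nat.card A = Nat.card P.ker * Nat.card P.range := by
    rw [← Subgroup.card_mul_index P.ker, Subgroup.index_ker]
  have hinv : ∀ (f : A →* A), (∀ x, x ∈ P.ker → f x ∈ P.ker) ∧ (∀ x, x ∈ P.range → f x ∈ P.range) := by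
    intro f
    refine ⟨fun x hx => ?_, ?_⟩
    · rw [MonoidHom.mem_ker, hP, powMonoidHom_apply] at hx ⊢
      rw [← map_pow, hx, map_one]
    · rintro _ ⟨y, rfl⟩
      exact ⟨f y, by simp [hP]⟩
  -- the kernel
  obtain ⟨x, hx⟩ := exists_prime_orderOf_dvd_card' (G := A) q hqd
  have hK : IsSquare (Nat.card P.ker) := by
    letI : Module (ZMod q) (Additive P.ker) := AddCommGroup.zmodModule (n := q) (fun u =>
      Additive.toMul.injective (Subtype.ext (by
        show ((u.toMul : P.ker) : A) ^ q = 1
        exact u.toMul.2)))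
    let T : (A →* A) → Module.End (ZMod q) (Additive P.ker) := fun f => AddMonoidHom.toZModLinearMap q
      (MonoidHom.toAdditive ((f.comp P.ker.subtype).codRestrict P.ker fun u => (hinv f).1 u u.2))
    have h := card_square_of_anticommute hq2 (T I) (T J) ?_ ?_ ?_
    · rwa [Nat.card_congr (Additive.ofMul (α := P.ker)).symm] at h
    all_goals
      refine LinearMap.ext fun u => Additive.toMul.injective (Subtype.ext ?_)
    · exact hII _
    · exact hJJ _
    · exact hJI _
  -- the image
  have hlt : Nat.card P.range < Nat.card A := by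
    have h2 : 1 < Nat.card P.ker := by
      rw [Finite.one_lt_card_iff_nontrivial]
      refine ⟨⟨⟨x, by rw [MonoidHom.mem_ker, hP, powMonoidHom_apply, ← hx, pow_orderOf_eq_one]⟩, 1, ?_⟩⟩
      intro h
      rw [show x = 1 from congrArg Subtype.val h, orderOf_one] at hx
      exact hq.one_lt.ne hx
    rw [hcard]
    exact lt_mul_of_one_lt_left Nat.card_pos h2
  have hM : IsSquare (Nat.card P.range) := by
    refine ih _ hlt (A := P.range) (hodd.of_dvd_nat (Subgroup.card_subgroup_dvd_card _))
      ((I.comp P.range.subtype).codRestrict P.range fun u => (hinv I).2 u u.2)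
      ((J.comp P.range.subtype).codRestrict P.range fun u => (hinv J).2 u u.2)
      (fun u => Subtype.ext ?_) (fun u => Subtype.ext ?_) (fun u => Subtype.ext ?_) rfl
    · exact hII _
    · exact hJJ _
    · exact hJI _
  rw [hcard]
  exact hK.mul hM

end Cfsg.Agent.Zassenhaus
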