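import Cfsg.Agent.Lib.Zassenhaus.Sl25
import Cfsg.Agent.Lib.FrobExamples.Basic

/-!
`SL(2, 5)` as a fixed-point-free matrix group over a field with eleven elements.
-/

set_option autoImplicit false

namespace Cfsg.Agent.Zassenhaus

/-- homomorphisms from the step table -/
theorem exists_hom_of_table {A : Type*} [Monoid A] (img : Fin 120 → A) (h0 : img 0 = 1)
    (hx : ∀ n, img (stepX n) = img n * img (stepX 0)) (hy : ∀ n, img (stepY n) = img n * img (stepY 0)) :
    ∃ f : SL25 →* A, ∀ n, f (matOf n) = img n := by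
  let M : Fin 120 ≃ SL25 := Equiv.ofBijective _ matOf_bijective
  have hfold : ∀ (l : List Bool) (n : Fin 120),
      matOf (l.foldl step n) = matOf n * matOf (l.foldl step 0) ∧
        img (l.foldl step n) = img n * img (l.foldl step 0) := by
    intro l
    induction l with
    | nil => intro n; simp [matOf_mul.1, h0]
    | cons t l ih =>
      intro n
      rw [List.foldl_cons, List.foldl_cons, (ih (step n t)).1, (ih (step 0 t)).1, (ih (step n t)).2,
        (ih (step 0 t)).2, ← mul_assoc, ← mul_assoc]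
      cases t
      · exact ⟨by rw [show step n false = stepX n from rfl, (matOf_mul.2 n).1]; rfl,
          by rw [show step n false = stepX n from rfl, hx]; rfl⟩
      · exact ⟨by rw [show step n true = stepY n from rfl, (matOf_mul.2 n).2]; rfl,
          by rw [show step n true = stepY n from rfl, hy]; rfl⟩
  refine ⟨{ toFun := fun a => img (M.symm a), map_one' := ?_, map_mul' := fun a b => ?_ },
    fun n => congrArg img (M.symm_apply_apply n)⟩
  · rw [← matOf_mul.1]; exact (congrArg img (M.symm_apply_apply 0)).trans h0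
  · obtain ⟨n, rfl⟩ := M.surjective a
    obtain ⟨m, rfl⟩ := M.surjective b
    obtain ⟨h1, h2⟩ := hfold (wordOf m) n
    rw [table_word] at h1 h2
    show img (M.symm (M n * M m)) = img (M.symm (M n)) * img (M.symm (M m))
    rw [M.symm_apply_apply, M.symm_apply_apply, show M n * M m = M ((wordOf m).foldl step n) from h1.symm,
      M.symm_apply_apply, h2]

/-- reduction of a scalar -/
def ev11 (z : ℤ√5) : ZMod 11 := 3 * ((z.re : ZMod 11) + 4 * (z.im : ZMod 11))

/-- the matrix of an index over the field with eleven elements -/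
def mat11 (n : Fin 120) : Matrix (Fin 2) (Fin 2) (ZMod 11) :=
  let q := qOf n
  !![ev11 q.1 + ev11 q.2.2.1 - 3 * ev11 q.2.2.2, -ev11 q.2.1 + 3 * ev11 q.2.2.1 + ev11 q.2.2.2;
    ev11 q.2.1 + 3 * ev11 q.2.2.1 + ev11 q.2.2.2, ev11 q.1 - ev11 q.2.2.1 + 3 * ev11 q.2.2.2]

theorem table11 : mat11 0 = 1 ∧ ∀ n : Fin 120,
    mat11 (stepX n) = mat11 n * mat11 (stepX 0) ∧ mat11 (stepY n) = mat11 n * mat11 (stepY 0) := by
  decide +kernel

theorem table11_det : ∀ n : Fin 120, n ≠ 0 → (mat11 n - 1).det ≠ 0 := by
  decide +kernel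

theorem sl25_complement : ∃ (L : Type) (_ : Group L) (_ : Finite L) (H : Subgroup L),
    Cfsg.IsFrobeniusComplement H ∧ Nonempty (SL25 ≃* H) := by
  haveI : Fact (Nat.Prime 11) := ⟨by norm_num⟩
  haveI : Nontrivial SL25 := ⟨matOf 1, matOf 0, fun e => absurd (matOf_bijective.1 e) (by decide)⟩
  obtain ⟨f, hf⟩ := exists_hom_of_table mat11 table11.1 (fun n => (table11.2 n).1) (fun n => (table11.2 n).2)
  refine FrobExamples.exists_of_matrix f fun g hg => ?_
  obtain ⟨n, rfl⟩ := matOf_bijective.2 g
  rw [hf]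
  exact table11_det n fun e => hg (e ▸ matOf_mul.1)

end Cfsg.Agent.Zassenhaus
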