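import Mathlib

/-!
The five small quotients of a fixed-point-free group by a Z-group.
-/

set_option autoImplicit false

namespace Cfsg.Agent.Zassenhaus

open Subgroup

variable {G : Type*} [Group G]

/-- the condition on the quotient by `N` -/
def IsType (N : Subgroup G) : Prop :=
  (∃ f : G →* DihedralGroup 2, Function.Surjective f ∧ f.ker = N) ∨
  (∃ f : G →* alternatingGroup (Fin 4), Function.Surjective f ∧ f.ker = N) ∨
  (∃ f : G →* Equiv.Perm (Fin 4), Function.Surjective f ∧ f.ker = N) ∨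
  (∃ f : G →* alternatingGroup (Fin 5), Function.Surjective f ∧ f.ker = N) ∨
  (∃ f : G →* Equiv.Perm (Fin 5), Function.Surjective f ∧ f.ker = N)

/-- two distinct commuting involutions -/
def HasFour (T : Type*) [Group T] : Prop :=
  ∃ a b : T, a ≠ 1 ∧ b ≠ 1 ∧ a ≠ b ∧ a * a = 1 ∧ b * b = 1 ∧ a * b = b * a

theorem not_isZGroup_of_hasFour {T : Type*} [Group T] [Finite T] (h : HasFour T) : ¬ IsZGroup T := by
  obtain ⟨a, b, ha, hb, hne, ha2, hb2, hab⟩ := h
  intro hT
  haveI := Fact.mk Nat.prime_two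
  let K : Subgroup T := closure {a, b}
  haveI : IsMulCommutative K := isMulCommutative_closure (by
    rintro x (rfl | rfl) y (rfl | rfl)
    exacts [rfl, hab, hab.symm, rfl])
  have hK : IsPGroup 2 K := fun u => ⟨1, Subtype.ext (by
    have key : ∀ v ∈ closure ({a, b} : Set T), v * v = 1 := by
      intro v hv
      induction hv using closure_induction with
      | mem x hx => rcases hx with rfl | rfl <;> assumption
      | one => exact one_mul 1
      | mul x y hx hy ex ey =>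
        have hc : x * y = y * x := congrArg Subtype.val (mul_comm' (⟨x, hx⟩ : K) ⟨y, hy⟩)
        calc x * y * (x * y) = x * (y * x) * y := by group
          _ = (x * x) * (y * y) := by rw [← hc]; group
          _ = 1 := by rw [ex, ey, one_mul]
      | inv x _ ex => rw [← mul_inv_rev, ex, inv_one]
    simpa [pow_two] using key u u.2)⟩
  haveI : IsCyclic K := hK.isCyclic_of_isZGroup
  have hz : ∀ c : T, c ≠ 1 → c * c = 1 → c ∈ K →
      ∀ d : T, d ≠ 1 → d * d = 1 → d ∈ K → c = d := by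
    intro c hc hc2 hcK d hd hd2 hdK
    have horder : ∀ e : K, (e : T) ≠ 1 → (e : T) * e = 1 → Nat.card (zpowers e) = 2 := fun e he he2 => by
      rw [Nat.card_zpowers, ← Subgroup.orderOf_coe]
      exact orderOf_eq_prime (by rw [pow_two]; exact he2) he
    have e1 : zpowers (⟨c, hcK⟩ : K) = zpowers ⟨d, hdK⟩ := by
      letI : CommGroup K := IsCyclic.commGroup
      have key : ∀ C : Subgroup K, Nat.card C = 2 → C = (powMonoidHom 2 : K →* K).ker := fun C hC => by
        refine Subgroup.eq_of_le_of_card_ge (fun x hx => ?_) ?_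
        · rw [MonoidHom.mem_ker, powMonoidHom_apply, ← orderOf_dvd_iff_pow_eq_one, ← hC]
          exact Subgroup.orderOf_dvd_natCard C hx
        · rw [IsCyclic.card_powMonoidHom_ker, hC]
          exact Nat.le_of_dvd (by norm_num) (Nat.gcd_dvd_right _ _)
      rw [key _ (horder ⟨c, hcK⟩ hc hc2), key _ (horder ⟨d, hdK⟩ hd hd2)]
    have hm : (⟨d, hdK⟩ : K) ∈ zpowers (⟨c, hcK⟩ : K) := e1 ▸ mem_zpowers _
    obtain ⟨i, hi⟩ := Subgroup.mem_zpowers_iff.mp hm
    have hi' : c ^ i = d := congrArg Subtype.val hi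
    rcases Int.even_or_odd' i with ⟨j, rfl | rfl⟩
    · exfalso; apply hd
      rw [← hi', zpow_mul, zpow_two, hc2, one_zpow]
    · rw [← hi', zpow_add, zpow_mul, zpow_two, hc2, one_zpow, one_mul, zpow_one]
  exact hne (hz a ha ha2 (subset_closure (Set.mem_insert _ _)) b hb hb2
    (subset_closure (Set.mem_insert_of_mem _ rfl)))

theorem hasFour_V4 : HasFour (DihedralGroup 2) := by unfold HasFour; decide +kernel
theorem hasFour_A4 : HasFour (alternatingGroup (Fin 4)) := by
  refine ⟨⟨Equiv.swap 0 1 * Equiv.swap 2 3, by rw [Equiv.Perm.mem_alternatingGroup]; decide +kernel⟩,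
    ⟨Equiv.swap 0 2 * Equiv.swap 1 3, by rw [Equiv.Perm.mem_alternatingGroup]; decide +kernel⟩, ?_, ?_, ?_, ?_, ?_, ?_⟩ <;> decide +kernel
theorem hasFour_S4 : HasFour (Equiv.Perm (Fin 4)) := by
  refine ⟨Equiv.swap 0 1, Equiv.swap 2 3, ?_, ?_, ?_, ?_, ?_, ?_⟩ <;> decide +kernel
theorem hasFour_A5 : HasFour (alternatingGroup (Fin 5)) := by
  refine ⟨⟨Equiv.swap 0 1 * Equiv.swap 2 3, by rw [Equiv.Perm.mem_alternatingGroup]; decide +kernel⟩,
    ⟨Equiv.swap 0 2 * Equiv.swap 1 3, by rw [Equiv.Perm.mem_alternatingGroup]; decide +kernel⟩, ?_, ?_, ?_, ?_, ?_, ?_⟩ <;> decide +kernel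
theorem hasFour_S5 : HasFour (Equiv.Perm (Fin 5)) := by
  refine ⟨Equiv.swap 0 1, Equiv.swap 2 3, ?_, ?_, ?_, ?_, ?_, ?_⟩ <;> decide +kernel

theorem no_odd_normal_A4 : ∀ x : alternatingGroup (Fin 4), x ≠ 1 → x * x ≠ 1 →
    ∃ g : alternatingGroup (Fin 4), x⁻¹ * (g * x * g⁻¹) ≠ 1 ∧
      x⁻¹ * (g * x * g⁻¹) * (x⁻¹ * (g * x * g⁻¹)) = 1 := by
  decide +kernel

theorem no_odd_normal_S4 : ∀ x : Equiv.Perm (Fin 4), x ≠ 1 → x * x * x = 1 →
    ∃ g : Equiv.Perm (Fin 4), x⁻¹ * (g * x * g⁻¹) ≠ 1 ∧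
      x⁻¹ * (g * x * g⁻¹) * (x⁻¹ * (g * x * g⁻¹)) = 1 := by
  decide +kernel

theorem no_central_A4 : ∀ x : alternatingGroup (Fin 4), x ≠ 1 → ∃ g, x * g ≠ g * x := by
  decide +kernel

theorem no_central_S4 : ∀ x : Equiv.Perm (Fin 4), x ≠ 1 → ∃ g, x * g ≠ g * x := by
  decide +kernel

theorem no_central_S5 : ∀ x : Equiv.Perm (Fin 5), x ≠ 1 → ∃ g, x * g ≠ g * x := by
  decide +kernel

theorem card_A4 : Nat.card (alternatingGroup (Fin 4)) = 12 := by
  rw [Nat.card_eq_fintype_card]; decide +kernel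

theorem card_A5 : Nat.card (alternatingGroup (Fin 5)) = 60 := by
  have h := two_mul_card_alternatingGroup (α := Fin 5)
  rw [Fintype.card_perm, Fintype.card_fin, show Nat.factorial 5 = 120 by decide] at h
  rw [Nat.card_eq_fintype_card]; omega

theorem card_S5 : Nat.card (Equiv.Perm (Fin 5)) = 120 := by
  rw [Nat.card_perm, Nat.card_fin]; decide

end Cfsg.Agent.Zassenhaus
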