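import Cfsg.Agent.Lib.Zassenhaus.QuatAut
import Cfsg.Agent.Lib.Zassenhaus.Targets
import Cfsg.Agent.Lib.Basics.Cores

/-!
Solvable groups without odd normal subgroups whose 2-subgroups are cyclic or quaternion and
whose Sylow 2-subgroups are not cyclic.
-/

set_option autoImplicit false

namespace Cfsg.Agent.Zassenhaus

open Subgroup QuaternionGroup

/-- all 2-subgroups are cyclic or quaternion -/
def TwoQuat (Q : Type*) [Group Q] : Prop :=
  ∀ D : Subgroup Q, IsPGroup 2 D → IsCyclic D ∨ ∃ n : ℕ, Nonempty (D ≃* QuaternionGroup (2 ^ n))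

/-- some 2-subgroup is not cyclic -/
def TwoNoncyclic (Q : Type*) [Group Q] : Prop := ∃ D : Subgroup Q, IsPGroup 2 D ∧ ¬ IsCyclic D

variable {Q : Type*} [Group Q] [Finite Q]

/-- the case of a 2-group -/
theorem types_of_two_group (h2 : TwoQuat Q) (hnc : TwoNoncyclic Q) (hQ : IsPGroup 2 Q) :
    ∃ (f : Q →* DihedralGroup 2), Function.Surjective f ∧ IsCyclic f.ker ∧
      ∀ K : Subgroup Q, ∀ [K.Normal], K.index = 4 → (∀ q : Q, q * q ∈ K) → K = f.ker := by
  obtain ⟨n, ⟨e0⟩⟩ := (h2 ⊤ (hQ.of_equiv topEquiv.symm)).resolve_left (fun hc => by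
    obtain ⟨D, -, hD⟩ := hnc
    haveI := hc
    exact hD (Subgroup.isCyclic_of_le (le_top (a := D))))
  let e : Q ≃* QuaternionGroup (2 ^ n) := topEquiv.symm.trans e0
  have hn : 1 ≤ n := by
    by_contra hn0
    obtain rfl : n = 0 := by omega
    obtain ⟨D, -, hD⟩ := hnc
    haveI : IsCyclic (QuaternionGroup (2 ^ 0)) :=
      isCyclic_of_orderOf_eq_card (xa (0 : ZMod (2 * 2 ^ 0))) (by
        rw [orderOf_xa, Nat.card_eq_fintype_card, QuaternionGroup.card]; rfl)
    haveI : IsCyclic Q := e.isCyclic.mpr inferInstance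
    exact hD inferInstance
  haveI : NeZero (2 ^ n) := ⟨by positivity⟩
  haveI : NeZero (2 * 2 ^ n) := ⟨by positivity⟩
  have h22 : 2 ∣ 2 * 2 ^ n := dvd_mul_right 2 _
  let r2 : ZMod (2 * 2 ^ n) →+* ZMod 2 := ZMod.castHom h22 (ZMod 2)
  have hm : r2 ((2 ^ n : ℕ) : ZMod (2 * 2 ^ n)) = 0 := by
    rw [map_natCast, ZMod.natCast_eq_zero_iff]
    exact dvd_pow_self 2 (by omega)
  let g : QuaternionGroup (2 ^ n) → DihedralGroup 2 := fun u => match u with
    | a i => DihedralGroup.r (r2 i)
    | xa i => DihedralGroup.sr (r2 i)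
  have hn0 : n ≠ 0 := by omega
  have h20' : r2 2 = 0 := by
    rw [show (2 : ZMod (2 * 2 ^ n)) = ((2 : ℕ) : ZMod _) from Nat.cast_ofNat.symm, map_natCast,
      ZMod.natCast_self]
  let φ : QuaternionGroup (2 ^ n) →* DihedralGroup 2 := MonoidHom.mk' g (by
    rintro (i | i) (j | j) <;> simp [g, map_add, map_sub, hm, h20', hn0] <;> rfl)
  have hr2 : Function.Surjective r2 := ZMod.castHom_surjective h22
  let f : Q →* DihedralGroup 2 := φ.comp e.toMonoidHom
  have hf : Function.Surjective f := by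
    intro y
    rcases y with j | j <;> obtain ⟨i, rfl⟩ := hr2 j
    · exact ⟨e.symm (a i), by simp [f, φ, g]⟩
    · exact ⟨e.symm (xa i), by simp [f, φ, g]⟩
  have hker : f.ker = Subgroup.zpowers (e.symm (a 2)) := by
    refine le_antisymm (fun q hq => ?_) (zpowers_le.mpr ?_)
    · rw [MonoidHom.mem_ker] at hq
      simp only [f, MonoidHom.comp_apply, MulEquiv.coe_toMonoidHom] at hq
      rw [← e.symm_apply_apply q]
      rcases h : e q with i | i <;> rw [h] at hq
      · have hi : r2 i = 0 := by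
          simpa [φ, g, DihedralGroup.one_def, -DihedralGroup.r_zero] using hq
        rw [← ZMod.natCast_zmod_val i, map_natCast, ZMod.natCast_eq_zero_iff] at hi
        obtain ⟨c, hc⟩ := hi
        rw [← ZMod.natCast_zmod_val i, hc, ← a_one_pow, pow_mul, map_pow, a_one_pow, Nat.cast_ofNat]
        exact Subgroup.pow_mem _ (mem_zpowers _) _
      · simp [φ, g, DihedralGroup.one_def, -DihedralGroup.r_zero] at hq
    · rw [MonoidHom.mem_ker]
      have h20 : r2 2 = 0 := by
        rw [show (2 : ZMod (2 * 2 ^ n)) = ((2 : ℕ) : ZMod _) from Nat.cast_ofNat.symm, map_natCast,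
          ZMod.natCast_self]
      simp [f, φ, g, h20]
  refine ⟨f, hf, hker ▸ inferInstance, fun K _ hK hsq => ?_⟩
  have hfi : f.ker.index = 4 := by
    rw [Subgroup.index_ker, MonoidHom.range_eq_top.mpr hf, Subgroup.card_top, Nat.card_eq_fintype_card,
      DihedralGroup.card]
  have hle : f.ker ≤ K := by
    rw [hker, zpowers_le, show (a 2 : QuaternionGroup (2 ^ n)) = a 1 * a 1 by
      rw [a_mul_a]; norm_num, map_mul]
    exact hsq _
  refine (Subgroup.eq_of_le_of_card_ge hle ?_).symm
  have h1 := Subgroup.index_mul_card f.ker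
  have h2' := Subgroup.index_mul_card K
  rw [hfi] at h1
  rw [hK] at h2'
  omega

/-- the case with an element of odd order -/
theorem types_of_odd [Group.IsSolvable Q] (hO : Cfsg.pPrimeCore 2 Q = ⊥) (h2 : TwoQuat Q)
    (hQ : ¬ IsPGroup 2 Q) :
    ∃ (f : Q →* Equiv.Perm (Fin 4)), Nat.card f.ker = 2 ∧ f.range.index ≤ 2 ∧
      f.ker ≤ center Q ∧ (∀ K : Subgroup Q, ∀ [K.Normal], IsZGroup K → K ≤ f.ker) := by
  classical
  haveI := Fact.mk Nat.prime_two
  haveI := Fact.mk Nat.prime_three
  set R := Cfsg.pCore 2 Q with hR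
  have hRp : IsPGroup 2 R := Basics.pCore_isPGroup 2
  have hcent : centralizer (R : Set Q) ≤ R := Basics.centralizer_pCore_le hO
  -- an element of odd order acts nontrivially
  obtain ⟨p, hp, hpd, hp2⟩ : ∃ p, p.Prime ∧ p ∣ Nat.card Q ∧ p ≠ 2 := by
    by_contra hcon
    simp only [not_exists, not_and, not_not] at hcon
    obtain ⟨k, hk⟩ : ∃ k, Nat.card Q = 2 ^ k :=
      ⟨_, Nat.eq_prime_pow_of_unique_prime_dvd Nat.card_pos.ne' fun {d} hd hdvd => hcon d hd hdvd⟩
    exact hQ (IsPGroup.of_card hk)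
  haveI := Fact.mk hp
  let ψ : Q →* MulAut R := MulAut.conjNormal
  have hψker : ∀ g, ψ g = 1 → g ∈ R := fun g hg => hcent (mem_centralizer_iff.mpr fun r hr => by
    have h1 := congrArg Subtype.val (DFunLike.congr_fun hg ⟨r, hr⟩)
    simp only [ψ, MulAut.conjNormal_apply, MulAut.one_apply] at h1
    exact (mul_inv_eq_iff_eq_mul.mp h1).symm)
  have hodd_ne : ∀ g : Q, g ≠ 1 → Odd (orderOf g) → ψ g ≠ 1 := by
    intro g hg ho hψ
    obtain ⟨j, hj⟩ := hRp ⟨g, hψker g hψ⟩
    exact hg (orderOf_eq_one_iff.mp (Nat.eq_one_of_dvd_coprimes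
      ((Nat.coprime_two_left.mpr ho).pow_left j)
      (orderOf_dvd_of_pow_eq_one (congrArg Subtype.val hj)) dvd_rfl))
  obtain ⟨g, hg⟩ := exists_prime_orderOf_dvd_card' (G := Q) p hpd
  have hg1 : g ≠ 1 := fun e => hp.one_lt.ne (by rw [← hg, e, orderOf_one])
  have hψg : ψ g ≠ 1 := hodd_ne g hg1 (hg ▸ hp.odd_of_ne_two hp2)
  have hψodd : Odd (orderOf (ψ g)) :=
    (hp.odd_of_ne_two hp2).of_dvd_nat (hg ▸ orderOf_map_dvd ψ g)
  have hRq : ∃ n : ℕ, Nonempty (R ≃* QuaternionGroup (2 ^ n)) := by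
    refine (h2 R hRp).resolve_left fun hc => hψg ?_
    haveI : IsCyclic (⊤ : Subgroup R) := topEquiv.isCyclic.mpr hc
    exact eq_one_of_stable hRp (C := ⊤) (fun x y hx _ => absurd (mem_top x) hx) _ hψodd
      (Subgroup.map_top_of_surjective _ (ψ g).surjective)
  obtain ⟨n, ⟨e⟩⟩ := hRq
  obtain rfl : n = 1 := quaternion_n_eq_one e (ψ g) hψodd hψg
  have h3 : p = 3 := by
    by_contra hp3
    refine hψg (mulAut_eq_one hRp (h2 R hRp) _ ?_)
    refine Nat.Coprime.coprime_dvd_left (hg ▸ orderOf_map_dvd ψ g) ?_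
    rw [hp.coprime_iff_not_dvd]
    intro hd
    rcases (Nat.Prime.dvd_mul hp).mp (show p ∣ 2 * 3 from hd) with h | h
    · exact hp2 ((Nat.prime_dvd_prime_iff_eq hp Nat.prime_two).mp h)
    · exact hp3 ((Nat.prime_dvd_prime_iff_eq hp Nat.prime_three).mp h)
  subst h3
  -- generators of `R`
  obtain ⟨tc, tcard, ⟨t1, t2, t3, t4, t5, t6⟩, tinv⟩ := q8_table
  set ia : R := e.symm (a 1) with hia
  set ib : R := e.symm (xa 0) with hib
  set z : R := e.symm (a 2) with hz
  have hRgen : ∀ c : Q, c * ia = ia * c → c * ib = ib * c → c ∈ centralizer (R : Set Q) := by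
    intro c ca cb
    refine mem_centralizer_iff.mpr fun r hr => ?_
    have key : ∀ u : QuaternionGroup 2, c * (e.symm u : R) = (e.symm u : R) * c := by
      have hai : ∀ i, c * (e.symm (a i) : R) = (e.symm (a i) : R) * c := fun i => by
        rw [← ZMod.natCast_zmod_val i, ← a_one_pow, map_pow, Subgroup.coe_pow]
        exact (Commute.pow_right (ca : Commute c ia) _).eq
      rintro (i | i)
      · exact hai i
      · rw [show (xa i : QuaternionGroup 2) = xa 0 * a i by rw [xa_mul_a, zero_add], map_mul,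
          Subgroup.coe_mul]
        exact (Commute.mul_right cb (hai i)).eq
    have := key (e ⟨r, hr⟩)
    rw [e.symm_apply_apply] at this
    exact this.symm
  have hzne : (z : Q) ≠ 1 := fun h => t5 (e.symm.injective (by rw [map_one]; exact Subtype.ext h))
  have hzz : (z : Q) * z = 1 := congrArg Subtype.val (show z * z = 1 by rw [hz, ← map_mul, t4, map_one])
  have hzcent : (z : Q) ∈ center Q := mem_center_iff.mpr fun q => by
    have hm : q * z * q⁻¹ ∈ R := Normal.conj_mem inferInstance _ z.2 q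
    have hsq : (⟨_, hm⟩ : R) * ⟨_, hm⟩ = 1 := Subtype.ext (by
      show q * z * q⁻¹ * (q * z * q⁻¹) = 1
      rw [← mul_inv_cancel q]; nth_rewrite 4 [← mul_one q]; rw [← hzz]; group)
    rcases tinv (e ⟨_, hm⟩) (by rw [← map_mul, hsq, map_one]) with h | h
    · exact absurd (congrArg Subtype.val (e.injective (h.trans (map_one e).symm)))
        (fun h' => hzne (conj_eq_one_iff.mp h'))
    · have := congrArg Subtype.val (e.eq_symm_apply.mpr h)
      exact mul_inv_eq_iff_eq_mul.mp this
  have hcentR : ∀ c ∈ centralizer (R : Set Q), c = 1 ∨ c = z := by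
    intro c hc
    have hcR := hcent hc
    have hc' : ∀ u : R, (⟨c, hcR⟩ : R) * u = u * ⟨c, hcR⟩ := fun u =>
      Subtype.ext (mem_centralizer_iff.mp hc u u.2).symm
    rcases tc (e ⟨c, hcR⟩) (by rw [← e.apply_symm_apply (a 1), ← map_mul, ← map_mul, hc'])
      (by rw [← e.apply_symm_apply (xa 0), ← map_mul, ← map_mul, hc']) with h | h
    · exact Or.inl (congrArg Subtype.val (e.injective (h.trans (map_one e).symm)))
    · exact Or.inr (congrArg Subtype.val (e.eq_symm_apply.mpr h))
  let Z : Subgroup Q := zpowers (z : Q)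
  have hZcard : Nat.card Z = 2 := by
    rw [Nat.card_zpowers]; exact orderOf_eq_prime (by rw [pow_two]; exact hzz) hzne
  haveI hZn : Z.Normal := ⟨fun x hx q => by
    rwa [mem_center_iff.mp (zpowers_le.mpr hzcent hx) q, mul_inv_cancel_right]⟩
  have hcZ : centralizer (R : Set Q) ≤ Z := fun c hc => by
    rcases hcentR c hc with rfl | rfl
    exacts [one_mem _, mem_zpowers _]
  have hab : (ib : Q) * ia = z * (ia * ib) := congrArg Subtype.val
    (show ib * ia = z * (ia * ib) by rw [hia, hib, hz, ← map_mul, ← map_mul, ← map_mul, t3])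
  -- the order
  have hQ48 : Nat.card Q ≤ 48 := by
    let pr : Q → {p : QuaternionGroup 2 × QuaternionGroup 2 //
        p.1 * p.1 ≠ 1 ∧ p.2 * p.2 ≠ 1 ∧ p.1 * p.2 ≠ p.2 * p.1} := fun q =>
      ⟨(e (ψ q ia), e (ψ q ib)), by
        refine ⟨?_, ?_, ?_⟩
        · rw [← map_mul, ← map_mul, ne_eq, MulEquiv.map_eq_one_iff, MulEquiv.map_eq_one_iff]
          intro h; apply t5; rw [← t1]
          exact e.symm.injective (by rw [map_mul, map_one]; exact h)
        · rw [← map_mul, ← map_mul, ne_eq, MulEquiv.map_eq_one_iff, MulEquiv.map_eq_one_iff]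
          intro h; apply t5; rw [← t2]
          exact e.symm.injective (by rw [map_mul, map_one]; exact h)
        · intro h
          rw [← map_mul e, ← map_mul e] at h
          have h2 := e.injective h
          rw [← map_mul (ψ q), ← map_mul (ψ q)] at h2
          have h' := congrArg Subtype.val ((ψ q).injective h2)
          rw [Subgroup.coe_mul, Subgroup.coe_mul, hab] at h'
          exact hzne (mul_eq_right.mp h'.symm)⟩
    have hfac : ∀ q q', pr q = pr q' → q⁻¹ * q' ∈ Z := by
      intro q q' h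
      refine hcZ (hRgen _ ?_ ?_)
      · have h1 := congrArg Subtype.val (e.injective (congrArg (fun p => p.1.1) h))
        simp only [ψ, MulAut.conjNormal_apply] at h1
        calc q⁻¹ * q' * ia = q⁻¹ * (q' * ia * q'⁻¹) * q' := by group
          _ = _ := by rw [← h1]; group
      · have h1 := congrArg Subtype.val (e.injective (congrArg (fun p => p.1.2) h))
        simp only [ψ, MulAut.conjNormal_apply] at h1
        calc q⁻¹ * q' * ib = q⁻¹ * (q' * ib * q'⁻¹) * q' := by group
          _ = _ := by rw [← h1]; group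
    have h24 : Nat.card (Q ⧸ Z) ≤ 24 := by
      refine (Nat.card_le_card_of_injective (fun c : Q ⧸ Z => pr c.out) fun c c' h => ?_).trans
        (by rw [Nat.card_eq_fintype_card]; exact tcard.le)
      exact (QuotientGroup.out_eq' c).symm.trans ((QuotientGroup.eq.mpr (hfac _ _ h)).trans
        (QuotientGroup.out_eq' c'))
    rw [← Subgroup.index_mul_card Z, hZcard]
    rw [← Subgroup.index_eq_card] at h24
    omega
  have hRcard : Nat.card R = 8 := by
    rw [Nat.card_congr e.toEquiv, Nat.card_eq_fintype_card, QuaternionGroup.card]; norm_num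
  have hd24 : 24 ∣ Nat.card Q := by
    have h8 : 8 ∣ Nat.card Q := hRcard ▸ R.card_subgroup_dvd_card
    exact Nat.Coprime.mul_dvd_of_dvd_of_dvd (by norm_num : Nat.Coprime 8 3) h8 hpd
  have hcases : Nat.card Q = 24 ∨ Nat.card Q = 48 := by
    have := Nat.card_pos (α := Q); omega
  -- elements which are inner on `R` modulo `Z`
  have hinner : ∀ k : Q, (∀ r ∈ R, ∃ u ∈ Z, k * r * k⁻¹ = u * r) → k ∈ R := by
    intro k hk
    have hzc : ∀ q : Q, q * z = z * q := mem_center_iff.mp hzcent
    have hZel : ∀ u ∈ Z, u = 1 ∨ u = z := by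
      intro u hu
      obtain ⟨i, rfl⟩ := mem_zpowers_iff.mp hu
      rcases Int.even_or_odd' i with ⟨j, rfl | rfl⟩
      · exact Or.inl (by rw [zpow_mul, zpow_two, hzz, one_zpow])
      · exact Or.inr (by rw [zpow_add, zpow_mul, zpow_two, hzz, one_zpow, one_mul, zpow_one])
    have fin : ∀ r0 ∈ R, k * ia * k⁻¹ = r0 * ia * r0⁻¹ → k * ib * k⁻¹ = r0 * ib * r0⁻¹ → k ∈ R := by
      intro r0 hr0 ea eb
      have hc : r0⁻¹ * k ∈ centralizer (R : Set Q) := by
        refine hRgen _ ?_ ?_
        · calc r0⁻¹ * k * ia = r0⁻¹ * (k * ia * k⁻¹) * k := by group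
            _ = _ := by rw [ea]; group
        · calc r0⁻¹ * k * ib = r0⁻¹ * (k * ib * k⁻¹) * k := by group
            _ = _ := by rw [eb]; group
      have := mul_mem hr0 (hcent hc)
      rwa [mul_inv_cancel_left] at this
    have hba : (ia : Q) * ib * (ia : Q)⁻¹ = z * ib := by
      rw [mul_inv_eq_iff_eq_mul, mul_assoc, hab, ← mul_assoc (z : Q), hzz, one_mul]
    have hab' : (ib : Q) * ia * (ib : Q)⁻¹ = z * ia := by
      rw [mul_inv_eq_iff_eq_mul, hab, mul_assoc]
    have hconjz : ∀ r : Q, r * z * r⁻¹ = z := fun r => by rw [hzc r, mul_inv_cancel_right]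
    obtain ⟨u, hu, hua⟩ := hk ia ia.2
    obtain ⟨v, hv, hvb⟩ := hk ib ib.2
    rcases hZel u hu with rfl | rfl <;> rcases hZel v hv with rfl | rfl
    · exact fin 1 (one_mem _) (by rw [hua]; group) (by rw [hvb]; group)
    · exact fin ia ia.2 (by rw [hua]; group) (by rw [hvb, hba])
    · exact fin ib ib.2 (by rw [hua, hab']) (by rw [hvb]; group)
    · refine fin (ia * ib) (mul_mem ia.2 ib.2) ?_ ?_
      · rw [hua, mul_inv_rev, show (ia : Q) * ib * ia * ((ib : Q)⁻¹ * (ia : Q)⁻¹)
          = ia * (ib * ia * (ib : Q)⁻¹) * (ia : Q)⁻¹ by group, hab',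
          show (ia : Q) * (z * ia) * (ia : Q)⁻¹ = ia * z * (ia : Q)⁻¹ * ia by group, hconjz]
      · rw [hvb, mul_inv_rev, show (ia : Q) * ib * ib * ((ib : Q)⁻¹ * (ia : Q)⁻¹)
          = ia * ib * (ia : Q)⁻¹ by group, hba]
  have hnormal_le : ∀ K : Subgroup Q, ∀ [K.Normal], K ⊓ R ≤ Z → K ≤ Z := by
    intro K _ hKR k hk
    refine hKR (mem_inf.mpr ⟨hk, hinner k fun r hr => ⟨k * r * k⁻¹ * r⁻¹, hKR (mem_inf.mpr ⟨?_, ?_⟩), ?_⟩⟩)
    · rw [show k * r * k⁻¹ * r⁻¹ = k * (r * k⁻¹ * r⁻¹) by group]
      exact mul_mem hk (Normal.conj_mem inferInstance _ (inv_mem hk) r)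
    · exact mul_mem (Normal.conj_mem inferInstance _ hr k) (inv_mem hr)
    · group
  -- a normal subgroup meeting `R` in a cyclic group meets it in `Z`
  have hcyc_le : ∀ C : Subgroup Q, ∀ [C.Normal], C ≤ R → IsCyclic C → C ≤ Z := by
    intro C hCn hCR hC c hc
    haveI := hC
    by_contra hcZ'
    let C' : Subgroup R := C.subgroupOf R
    haveI : IsCyclic C' := (subgroupOfEquivOfLe hCR).isCyclic.mpr hC
    have hc4 : orderOf c = 4 := by
      have hc4' : c ^ 4 = 1 := by
        have := congrArg Subtype.val (show (⟨c, hCR hc⟩ : R) ^ 4 = 1 from e.injective (by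
          rw [map_pow, map_one]; exact (by decide +kernel : ∀ x : QuaternionGroup 2, x ^ 4 = 1) _))
        exact this
      have hc2 : ¬ c ^ 2 = 1 := fun h => hcZ' (by
        rcases tinv (e ⟨c, hCR hc⟩) (by
          rw [← map_mul, ← map_one e]; exact congrArg e (Subtype.ext (by rw [← pow_two]; exact h)))
          with h' | h'
        · rw [show c = 1 from congrArg Subtype.val (e.injective (h'.trans (map_one e).symm))]
          exact one_mem _
        · rw [show c = z from congrArg Subtype.val (e.eq_symm_apply.mpr h')]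
          exact mem_zpowers _)
      exact orderOf_eq_prime_pow (p := 2) (n := 1) (by simpa using hc2) (by simpa using hc4')
    have hC'4 : 4 ∣ Nat.card C' := by
      rw [← hc4, Nat.card_congr (subgroupOfEquivOfLe hCR).toEquiv]
      exact Subgroup.orderOf_dvd_natCard C hc
    have hC'8 : Nat.card C' ∣ 8 := hRcard ▸ C'.card_subgroup_dvd_card
    have hC'ne : Nat.card C' ≠ 8 := fun h => by
      have htop : C' = ⊤ := Subgroup.eq_top_of_card_eq _ (h.trans hRcard.symm)
      haveI : IsCyclic R := topEquiv.isCyclic.mp (htop ▸ (inferInstance : IsCyclic C'))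
      letI := IsCyclic.commGroup (α := R)
      have h' : (ib : Q) * ia = ia * ib := congrArg Subtype.val (mul_comm ib ia)
      rw [h'] at hab
      exact hzne (mul_eq_right.mp hab.symm)
    have hidx : C'.index = 2 := by
      have h1 := C'.index_mul_card
      rw [hRcard] at h1
      have : Nat.card C' = 4 := by
        have := Nat.le_of_dvd (by norm_num) hC'8
        rcases hC'4 with ⟨k, hk⟩
        have := Nat.card_pos (α := C')
        omega
      rw [this] at h1; omega
    refine hψg (eq_one_of_stable hRp (C := C') (fun x y hx hy => ?_) (ψ g) hψodd ?_)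
    · rw [Subgroup.mul_mem_iff_of_index_two hidx, inv_mem_iff]; tauto
    · refine Subgroup.eq_of_le_of_card_ge ?_ (le_of_eq (Subgroup.card_map_of_injective (ψ g).injective).symm)
      rintro _ ⟨x, hx, rfl⟩
      show ((ψ g x : R) : Q) ∈ C
      exact Normal.conj_mem hCn _ (show (x : Q) ∈ C from hx) g
  -- the Sylow 3-subgroups
  obtain ⟨P⟩ := (inferInstance : Nonempty (Sylow 3 Q))
  have hgpow : g ^ 3 = 1 := hg ▸ pow_orderOf_eq_one g
  have hPcard : Nat.card P = 3 := by
    obtain ⟨k, hk⟩ := P.isPGroup'.exists_card_eq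
    have hd3 : 3 ∣ Nat.card P := P.dvd_card_of_dvd_card hpd
    have hle := P.toSubgroup.card_subgroup_dvd_card
    rw [hk] at hd3 hle ⊢
    rcases k with _ | _ | k
    · norm_num at hd3
    · norm_num
    · exfalso
      have : 3 ^ 2 ∣ Nat.card Q := (pow_dvd_pow 3 (by omega)).trans hle
      rcases hcases with h | h <;> rw [h] at this <;> norm_num at this
  have hns3 : ∀ S : Sylow 3 Q, ¬ ((S : Subgroup Q).Normal) := by
    intro S hS
    obtain ⟨x, hx⟩ := exists_prime_orderOf_dvd_card' (G := S) 3 (by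
      have : Nat.card S = Nat.card P := Nat.card_congr (Sylow.equiv S P).toEquiv
      rw [this, hPcard])
    rw [← Subgroup.orderOf_coe] at hx
    refine hodd_ne x (fun e' => by rw [e', orderOf_one] at hx; omega) (by rw [hx]; exact ⟨1, rfl⟩) ?_
    refine MulEquiv.ext fun r => Subtype.ext ?_
    have hdis : Disjoint (S : Subgroup Q) R := by
      rw [Subgroup.disjoint_def]
      intro y hyS hyR
      obtain ⟨i, hi⟩ := hRp ⟨y, hyR⟩
      obtain ⟨j, hj⟩ := S.isPGroup' ⟨y, hyS⟩
      exact orderOf_eq_one_iff.mp (Nat.eq_one_of_dvd_coprimes (Nat.Coprime.pow i j (by norm_num))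
        (orderOf_dvd_of_pow_eq_one (congrArg Subtype.val hi))
        (orderOf_dvd_of_pow_eq_one (congrArg Subtype.val hj)))
    have hc := Subgroup.commute_of_normal_of_disjoint _ _ hS inferInstance hdis _ _ x.2 r.2
    show ((ψ x r : R) : Q) = r
    simp only [ψ, MulAut.conjNormal_apply]
    rw [hc.eq, mul_inv_cancel_right]
  have hn3 : Nat.card (Sylow 3 Q) = 4 := by
    have hne1 : Nat.card (Sylow 3 Q) ≠ 1 := fun h => by
      haveI := (Nat.card_eq_one_iff_unique.mp h).1
      exact hns3 P (Sylow.normal_of_subsingleton (P := P))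
    have hmod := card_sylow_modEq_one 3 Q
    have hN : 6 ∣ Nat.card (normalizer ((P : Subgroup Q) : Set Q)) := by
      refine Nat.Coprime.mul_dvd_of_dvd_of_dvd (by norm_num : Nat.Coprime 2 3) ?_ ?_
      · refine (dvd_of_eq hZcard.symm).trans (Subgroup.card_dvd_of_le fun x hx => ?_)
        exact Subgroup.center_le_normalizer _ (zpowers_le.mpr hzcent hx)
      · exact (dvd_of_eq hPcard.symm).trans (Subgroup.card_dvd_of_le Subgroup.le_normalizer)
    have hidx : Nat.card (Sylow 3 Q) * 6 ∣ Nat.card Q := by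
      rw [P.card_eq_index_normalizer, ← Subgroup.index_mul_card (normalizer ((P : Subgroup Q) : Set Q))]
      exact mul_dvd_mul_left _ hN
    rw [Nat.ModEq] at hmod
    rcases hcases with h | h <;> rw [h] at hidx
    · have := Nat.le_of_dvd (by norm_num) hidx
      omega
    · have := Nat.le_of_dvd (by norm_num) hidx
      rcases Nat.lt_or_ge (Nat.card (Sylow 3 Q)) 5 with h' | h'
      · omega
      · exfalso
        have hd : Nat.card (Sylow 3 Q) ∣ 8 :=
          Nat.dvd_of_mul_dvd_mul_right (by norm_num : 0 < 6) hidx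
        have : Nat.card (Sylow 3 Q) = 7 := by
          have := Nat.le_of_dvd (by norm_num) hd
          omega
        rw [this] at hd
        norm_num at hd
  haveI := Fintype.ofFinite (Sylow 3 Q)
  let eS : Sylow 3 Q ≃ Fin 4 := (Fintype.equivFin _).trans (finCongr (by rw [← Nat.card_eq_fintype_card, hn3]))
  let f : Q →* Equiv.Perm (Fin 4) := (Equiv.permCongrHom eS).toMonoidHom.comp (MulAction.toPermHom Q (Sylow 3 Q))
  have hkmem : ∀ k, k ∈ f.ker ↔ ∀ S : Sylow 3 Q, k ∈ normalizer ((S : Subgroup Q) : Set Q) := by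
    intro k
    rw [MonoidHom.mem_ker]
    simp only [f, MonoidHom.comp_apply, MulEquiv.coe_toMonoidHom, MulEquiv.map_eq_one_iff,
      Equiv.ext_iff, MulAction.toPermHom_apply, MulAction.toPerm_apply, Equiv.Perm.one_apply]
    exact forall_congr' fun S => Sylow.smul_eq_iff_mem_normalizer
  have hkerZ : f.ker = Z := by
    refine le_antisymm (hnormal_le _ fun k hk => ?_) fun k hk => (hkmem k).mpr fun S =>
      Subgroup.center_le_normalizer _ (zpowers_le.mpr hzcent hk)
    obtain ⟨hkK, hkR⟩ := mem_inf.mp hk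
    by_contra hkZ
    -- `k` commutes with every element of order three
    have hcomm3 : ∀ x : Q, x ^ 3 = 1 → Commute k x := by
      intro x hx
      obtain ⟨S, hS⟩ := (IsPGroup.iff_orderOf.mpr fun y : zpowers x => by
        have hd : orderOf (y : Q) ∣ 3 := (Subgroup.orderOf_dvd_natCard _ y.2).trans
          (by rw [Nat.card_zpowers]; exact orderOf_dvd_of_pow_eq_one hx)
        rw [← Subgroup.orderOf_coe]
        rcases (Nat.dvd_prime Nat.prime_three).mp hd with h | h <;> rw [h]
        exacts [⟨0, rfl⟩, ⟨1, rfl⟩] : IsPGroup 3 (zpowers x)).exists_le_sylow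
      have hxS : x ∈ (S : Subgroup Q) := hS (mem_zpowers x)
      have h1 : k * x * k⁻¹ * x⁻¹ ∈ (S : Subgroup Q) :=
        mul_mem ((mem_normalizer_iff.mp ((hkmem k).mp hkK S) x).mp hxS) (inv_mem hxS)
      have h2' : k * x * k⁻¹ * x⁻¹ ∈ R := by
        rw [show k * x * k⁻¹ * x⁻¹ = k * (x * k⁻¹ * x⁻¹) by group]
        exact mul_mem hkR (Normal.conj_mem inferInstance _ (inv_mem hkR) x)
      obtain ⟨i, hi⟩ := hRp ⟨_, h2'⟩
      obtain ⟨j, hj⟩ := S.isPGroup' ⟨_, h1⟩
      have h0 : k * x * k⁻¹ * x⁻¹ = 1 := orderOf_eq_one_iff.mp (Nat.eq_one_of_dvd_coprimes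
        (Nat.Coprime.pow i j (by norm_num)) (orderOf_dvd_of_pow_eq_one (congrArg Subtype.val hi))
        (orderOf_dvd_of_pow_eq_one (congrArg Subtype.val hj)))
      exact mul_inv_eq_iff_eq_mul.mp (mul_inv_eq_one.mp h0)
    have hkg : ψ g ⟨k, hkR⟩ = ⟨k, hkR⟩ := Subtype.ext (by
      simp only [ψ, MulAut.conjNormal_apply]
      rw [← (hcomm3 g hgpow).eq, mul_inv_cancel_right])
    let C' : Subgroup R := zpowers (⟨k, hkR⟩ : R)
    have hC4 : Nat.card C' = 4 := by
      rw [Nat.card_zpowers]
      refine orderOf_eq_prime_pow (p := 2) (n := 1) (fun h => hkZ ?_) (e.injective (by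
        rw [map_pow, map_one]; exact (by decide +kernel : ∀ x : QuaternionGroup 2, x ^ (2 ^ 2) = 1) _))
      rw [pow_one, pow_two] at h
      rcases tinv (e ⟨k, hkR⟩) (by rw [← map_mul, h, map_one]) with h' | h'
      · rw [show k = 1 from congrArg Subtype.val (e.injective (h'.trans (map_one e).symm))]
        exact one_mem _
      · rw [show k = z from congrArg Subtype.val (e.eq_symm_apply.mpr h')]
        exact mem_zpowers _
    have hidx : C'.index = 2 := by
      have h1 := C'.index_mul_card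
      rw [hRcard, hC4] at h1; omega
    refine hψg (eq_one_of_stable hRp (C := C') (fun x y hx hy => ?_) (ψ g) hψodd ?_)
    · rw [Subgroup.mul_mem_iff_of_index_two hidx, inv_mem_iff]; tauto
    · show (zpowers _).map _ = zpowers _
      rw [MonoidHom.map_zpowers, MonoidHom.coe_coe, hkg]
  refine ⟨f, hkerZ ▸ hZcard, ?_, hkerZ ▸ zpowers_le.mpr hzcent, fun K _ hK => ?_⟩
  · have h1 := Subgroup.index_mul_card f.range
    have h2' := Subgroup.index_mul_card f.ker
    rw [Subgroup.index_ker, hkerZ, hZcard] at h2'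
    rw [Nat.card_perm, Nat.card_fin] at h1
    have : Nat.factorial 4 = 24 := by decide
    rcases hcases with h | h <;> nlinarith
  · rw [hkerZ]
    haveI := hK
    refine hnormal_le K (hcyc_le (K ⊓ R) inf_le_right ?_)
    haveI := ((hRp.to_le (inf_le_right : K ⊓ R ≤ R)).comap_of_injective
      (K.subtype) K.subtype_injective).isCyclic_of_isZGroup
    exact (subgroupOfEquivOfLe (inf_le_left : K ⊓ R ≤ K)).isCyclic.mp
      this

end Cfsg.Agent.Zassenhaus
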