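import Cfsg.Agent.Lib.Zassenhaus.Rep

/-!
In a fixed-point-free group elements of prime order normalising each other commute.
-/

set_option autoImplicit false

namespace Cfsg.Agent.Zassenhaus

open Subgroup

variable {G : Type*} [Group G] [Finite G]

theorem IsFpf.sum_eq_zero {A : Type*} [Ring A] {ρ : G →* A} (hf : IsFpf ρ) (K : Subgroup G)
    [Fintype K] (hK : K ≠ ⊥) : ∑ u : K, ρ u = 0 := by
  obtain ⟨h, hh, h1⟩ := (Subgroup.ne_bot_iff_exists_ne_one.mp hK).elim fun h hh =>
    (⟨h, h.2, fun e => hh (Subtype.ext e)⟩ : ∃ h, h ∈ K ∧ h ≠ 1)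
  refine hf.eq_zero_of_mul h1 ?_
  rw [sub_mul, one_mul, Finset.mul_sum, sub_eq_zero]
  exact Fintype.sum_equiv (Equiv.mulLeft (⟨h, hh⟩ : K)) _ _ fun u => by simp [map_mul]

/-- elements of prime order normalising each other commute -/
theorem FC.prime_commute (hFC : FC G) {p q : ℕ} [hp : Fact p.Prime] [hq : Fact q.Prime] {a b : G}
    (ha : orderOf a = p) (hb : orderOf b = q) (hn : a * b * a⁻¹ ∈ zpowers b) : Commute a b := by
  classical
  by_contra hc
  obtain ⟨k, _, _, n, ρ, hf⟩ := hFC.exists_fpf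
  set K := zpowers b with hK
  haveI := Fintype.ofFinite K
  have hKcard : Nat.card K = q := by rw [Nat.card_zpowers, hb]
  have hKne : K ≠ ⊥ := fun e => hq.out.one_lt.ne (by rw [← hKcard, e, Subgroup.card_bot])
  have haN : ∀ u ∈ K, a * u * a⁻¹ ∈ K := fun u hu => by
    obtain ⟨i, rfl⟩ := mem_zpowers_iff.mp hu
    rw [← conj_zpow]; exact zpow_mem hn i
  have hpowN : ∀ (j : ℕ), ∀ u ∈ K, a ^ j * u * (a ^ j)⁻¹ ∈ K := fun j => by
    induction j with
    | zero => intro u hu; simpa using hu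
    | succ j ih =>
      intro u hu
      rw [pow_succ', show a * a ^ j * u * (a * a ^ j)⁻¹ = a * (a ^ j * u * (a ^ j)⁻¹) * a⁻¹ by group]
      exact haN _ (ih u hu)
  -- the conjugates of `a ^ j` fill a coset
  have hcoset : ∀ j ∈ Finset.range p, j ≠ 0 → ∑ u : K, ρ ((u : G) * a ^ j * (u : G)⁻¹) = 0 := by
    intro j hj hj0
    let g : K → K := fun u => u * ⟨a ^ j * (u : G)⁻¹ * (a ^ j)⁻¹, hpowN j _ (inv_mem u.2)⟩
    have hg : Function.Bijective g := by
      rw [← Finite.injective_iff_bijective]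
      intro u v huv
      by_contra hne
      apply hc
      have h1 : (u : G) * (a ^ j * (u : G)⁻¹ * (a ^ j)⁻¹) = v * (a ^ j * (v : G)⁻¹ * (a ^ j)⁻¹) :=
        congrArg Subtype.val huv
      set w : G := (v : G)⁻¹ * u with hw
      have hwK : w ∈ K := mul_mem (inv_mem v.2) u.2
      have hcw : Commute (a ^ j) w := by
        have hcomm : ∀ x ∈ K, ∀ y ∈ K, x * y = y * x := fun x hx y hy => by
          obtain ⟨i, rfl⟩ := mem_zpowers_iff.mp hx
          obtain ⟨i', rfl⟩ := mem_zpowers_iff.mp hy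
          exact (Commute.zpow_zpow (Commute.refl b) i i').eq
        have h2 : w = a ^ j * ((v : G)⁻¹ * u) * (a ^ j)⁻¹ := by
          have h3 : w * (a ^ j * (u : G)⁻¹ * (a ^ j)⁻¹) = a ^ j * (v : G)⁻¹ * (a ^ j)⁻¹ := by
            rw [hw, mul_assoc, h1]; group
          calc w = w * (a ^ j * (u : G)⁻¹ * (a ^ j)⁻¹) * (a ^ j * u * (a ^ j)⁻¹) := by group
            _ = _ := by rw [h3]; group
        show a ^ j * w = w * a ^ j
        calc a ^ j * w = a ^ j * ((v : G)⁻¹ * u) * (a ^ j)⁻¹ * a ^ j := by rw [hw]; group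
          _ = w * a ^ j := by rw [← h2]
      have hwne : w ≠ 1 := fun e => hne (Subtype.ext (inv_mul_eq_one.mp e).symm)
      have hzw : zpowers w = K := by
        refine Subgroup.eq_of_le_of_card_ge (zpowers_le.mpr hwK) ?_
        rw [hKcard, Nat.card_zpowers]
        have hd := Subgroup.orderOf_dvd_natCard K hwK
        rw [hKcard] at hd
        rcases (Nat.dvd_prime hq.out).mp hd with h | h
        · exact absurd (orderOf_eq_one_iff.mp h) hwne
        · rw [h]
      have hza : a ∈ zpowers (a ^ j) := by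
        have hcop : (orderOf a).Coprime j := by
          rw [ha, hp.out.coprime_iff_not_dvd]
          intro hd
          exact absurd (Nat.le_of_dvd (Nat.pos_of_ne_zero hj0) hd) (not_le.mpr (Finset.mem_range.mp hj))
        obtain ⟨m, hm⟩ := exists_pow_eq_self_of_coprime hcop.symm
        exact ⟨m, by simpa using hm⟩
      obtain ⟨m, hm⟩ := mem_zpowers_iff.mp hza
      obtain ⟨m', hm'⟩ := mem_zpowers_iff.mp (show b ∈ zpowers w from hzw ▸ mem_zpowers b)
      rw [← hm, ← hm']
      exact hcw.zpow_zpow m m'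
    have e : ∀ u : K, ρ ((u : G) * a ^ j * (u : G)⁻¹) = ρ (g u : G) * ρ (a ^ j) := fun u => by
      rw [← map_mul]
      congr 1
      show (u : G) * a ^ j * (u : G)⁻¹ = (u : G) * (a ^ j * (u : G)⁻¹ * (a ^ j)⁻¹) * a ^ j
      group
    rw [Finset.sum_congr rfl fun u _ => e u, ← Finset.sum_mul,
      Fintype.sum_bijective g hg (fun u => ρ (g u : G)) (fun u => ρ (u : G)) (fun _ => rfl),
      hf.sum_eq_zero K hKne, zero_mul]
  have ha1 : a ≠ 1 := fun e => hp.out.one_lt.ne (by rw [← ha, e, orderOf_one])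
  have htot : ∑ u : K, ∑ j ∈ Finset.range p, ρ ((u : G) * a ^ j * (u : G)⁻¹) = 0 := by
    refine Finset.sum_eq_zero fun u _ => ?_
    have hs := hf.geom_sum (g := (u : G) * a * (u : G)⁻¹) (r := p)
      (fun e => ha1 (conj_eq_one_iff.mp e)) (by rw [conj_pow, ← ha, pow_orderOf_eq_one, mul_one, mul_inv_cancel])
    rw [← hs]
    exact Finset.sum_congr rfl fun j _ => by rw [← map_pow, conj_pow]
  rw [Finset.sum_comm, Finset.sum_eq_single 0 hcoset (fun h => absurd (Finset.mem_range.mpr hp.out.pos) h)] at htot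
  simp only [pow_zero, mul_one, mul_inv_cancel, map_one, Finset.sum_const, Finset.card_univ] at htot
  rw [← Nat.card_eq_fintype_card, hKcard, nsmul_one] at htot
  have hq0 := hf.natCast_ne_zero (k := k) (m := q) (hb ▸ orderOf_dvd_natCard b)
  refine hq0 ?_
  have := congrArg (fun f : Module.End k (Fin (n + 1) → k) => f (fun _ => 1) 0) htot
  simpa [Module.End.natCast_apply] using this

end Cfsg.Agent.Zassenhaus
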