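import Cfsg.Agent.Lib.Zassenhaus.Fpf

/-!
Elements of order three relative to a quaternion frame: a finite fixed-point-free group has at
most ten subgroups of order three.
-/

set_option autoImplicit false
set_option maxHeartbeats 800000

namespace Cfsg.Agent.Zassenhaus

variable {G : Type*} [Group G] {k : Type*} [Field k] {A : Type*} [Ring A] [Algebra k A]

/-- the axis of an element of order three -/
def ax (ρ : G →* A) (x : G) : A := 2 * ρ x + 1

/-- axes -/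
def IsAxis (ρ : G →* A) (Y : A) : Prop := ∃ y : G, y ≠ 1 ∧ y ^ 3 = 1 ∧ ax ρ y = Y

/-- the consequences of the pair lemma -/
structure Geo (k : Type*) [Field k] [Algebra k A] (ρ : G →* A) : Prop where
  fpf : IsFpf ρ
  two : (2 : k) ≠ 0
  three : (3 : k) ≠ 0
  pair : ∀ x y : G, x ≠ 1 → y ≠ 1 → x ^ 3 = 1 → y ^ 3 = 1 → ¬ Commute x y →
    tau ρ x y = 0 ∨ tau ρ x y = 1 ∨ (tau ρ x y * tau ρ x y = tau ρ x y + 1 ∧ (5 : k) ≠ 0)

section Basic

variable {ρ : G →* A}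

theorem algMap_inj [Nontrivial A] {c d : k} (h : algebraMap k A c = algebraMap k A d) : c = d :=
  FaithfulSMul.algebraMap_injective k A h

theorem smul_cancel {c : k} (hc : c ≠ 0) {a b : A} (h : algebraMap k A c * a = algebraMap k A c * b) :
    a = b := by
  have := congrArg (fun z => algebraMap k A c⁻¹ * z) h
  simpa [← mul_assoc, ← map_mul, inv_mul_cancel₀ hc] using this

theorem two_cancel (h2 : (2 : k) ≠ 0) {a b : A} (h : (2 : A) * a = 2 * b) : a = b :=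
  smul_cancel h2 (by rwa [map_ofNat])

theorem ax_sq {x : G} (h : ρ x * ρ x = -ρ x - 1) : ax ρ x * ax ρ x = -3 := by
  rw [ax, show (2 * ρ x + 1) * (2 * ρ x + 1) = 4 * (ρ x * ρ x) + 4 * ρ x + 1 by (noncomm_ring <;> norm_num <;> abel), h]
  noncomm_ring <;> norm_num <;> abel

theorem ax_inv {x : G} (hx3 : x ^ 3 = 1) (h : ρ x * ρ x = -ρ x - 1) : ax ρ x⁻¹ = -ax ρ x := by
  have hxi : x⁻¹ = x ^ 2 := inv_eq_of_mul_eq_one_right (by rw [← pow_succ']; exact hx3)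
  rw [ax, ax, hxi, map_pow, pow_two, h]
  noncomm_ring <;> norm_num <;> abel

theorem ax_conj (g x : G) : ρ g * ax ρ x * ρ g⁻¹ = ax ρ (g * x * g⁻¹) := by
  rw [ax, ax, map_mul, map_mul, mul_add, add_mul, mul_one, ← map_mul ρ g g⁻¹, mul_inv_cancel,
    map_one]
  congr 1
  rw [two_mul, two_mul, mul_add, add_mul]

theorem ax_sym {x y : G} (hx : ρ x * ρ x = -ρ x - 1) (hy : ρ y * ρ y = -ρ y - 1)
    (hx3 : x ^ 3 = 1) (hy3 : y ^ 3 = 1) :
    ax ρ x * ax ρ y + ax ρ y * ax ρ x = 4 * tau ρ x y - 2 := by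
  rw [tau_eq ρ hx hy hx3 hy3, ax, ax]
  rw [show (4 : A) = 1 + 1 + 1 + 1 by norm_num, show (2 : A) = 1 + 1 by norm_num]
  noncomm_ring

variable (hG : Geo k ρ)
include hG

theorem IsAxis.sq {Y : A} (hY : IsAxis ρ Y) : Y * Y = -3 := by
  obtain ⟨y, hy1, hy3, rfl⟩ := hY
  exact ax_sq (hG.fpf.three hy1 hy3)

theorem IsAxis.neg {Y : A} (hY : IsAxis ρ Y) : IsAxis ρ (-Y) := by
  obtain ⟨y, hy1, hy3, rfl⟩ := hY
  exact ⟨y⁻¹, inv_ne_one.mpr hy1, by rw [inv_pow, hy3, inv_one],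
    ax_inv hy3 (hG.fpf.three hy1 hy3)⟩

omit hG in
theorem IsAxis.conj {Y : A} (hY : IsAxis ρ Y) (g : G) : IsAxis ρ (ρ g * Y * ρ g⁻¹) := by
  obtain ⟨y, hy1, hy3, rfl⟩ := hY
  exact ⟨g * y * g⁻¹, fun e => hy1 (conj_eq_one_iff.mp e), by rw [conj_pow, hy3, mul_one,
    mul_inv_cancel], (ax_conj g y).symm⟩

theorem axes_cases [Nontrivial A] {Y Z : A} (hY : IsAxis ρ Y) (hZ : IsAxis ρ Z) :
    Z = Y ∨ Z = -Y ∨ Y * Z + Z * Y = -2 ∨ Y * Z + Z * Y = 2 ∨
      ((Y * Z + Z * Y) * (Y * Z + Z * Y) = 20 ∧ (5 : k) ≠ 0) := by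
  obtain ⟨y, hy1, hy3, rfl⟩ := hY
  obtain ⟨z, hz1, hz3, rfl⟩ := hZ
  have hy := hG.fpf.three hy1 hy3
  have hz := hG.fpf.three hz1 hz3
  by_cases hc : Commute y z
  · rcases hG.fpf.three_commute hy1 hz1 hy3 hz3 hc with rfl | rfl
    · exact Or.inl rfl
    · exact Or.inr (Or.inl (ax_inv hy3 hy))
  rw [ax_sym hy hz hy3 hz3]
  rcases hG.pair y z hy1 hz1 hy3 hz3 hc with h | h | ⟨h, h5⟩
  · right; right; left; rw [h]; noncomm_ring <;> norm_num <;> abel
  · right; right; right; left; rw [h]; noncomm_ring <;> norm_num <;> abel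
  · right; right; right; right
    refine ⟨?_, h5⟩
    rw [show (4 * tau ρ y z - 2) * (4 * tau ρ y z - 2) =
      16 * (tau ρ y z * tau ρ y z) - 16 * tau ρ y z + 4 by (noncomm_ring <;> norm_num <;> abel), h]
    noncomm_ring <;> norm_num <;> abel

end Basic

/-- a quaternion frame -/
structure Frame (ρ : G →* A) where
  gi : G
  gj : G
  x : G
  x1 : x ≠ 1
  x3 : x ^ 3 = 1
  ii : ρ gi * ρ gi = -1
  jj : ρ gj * ρ gj = -1
  ji : ρ gj * ρ gi = -(ρ gi * ρ gj)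
  axx : ax ρ x = ρ gi + ρ gj + ρ gi * ρ gj

theorem exists_frame_of_tau {ρ : G →* A} [Nontrivial A] (hf : IsFpf ρ) {x y : G} (hx1 : x ≠ 1)
    (hy1 : y ≠ 1) (hx3 : x ^ 3 = 1) (hy3 : y ^ 3 = 1) (ht : tau ρ x y = 0) :
    ∃ F : Frame ρ, F.x = x ∧ F.gi = (x * y)⁻¹ ∧ F.gj = (y * x)⁻¹ := by
  have hx := hf.three hx1 hx3
  have hy := hf.three hy1 hy3
  have t0 : tau ρ y x = 0 := by
    rw [tau_eq ρ hy hx hy3 hx3, ← ht, tau_eq ρ hx hy hx3 hy3]; abel
  have inv_eq : ∀ u v : G, tau ρ u v = 0 → ρ (u * v)⁻¹ = -(ρ u * ρ v) := by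
    intro u v h
    rw [← map_mul]
    exact eq_neg_of_add_eq_zero_right h
  have e1 := inv_eq x y ht
  have e2 := inv_eq y x t0
  have w1 : ρ x * ρ y * (ρ x * ρ y) = -1 := by
    have h : ρ (x * y) * ρ (x * y)⁻¹ = 1 := by rw [← map_mul, mul_inv_cancel, map_one]
    rw [e1, map_mul, mul_neg] at h
    exact neg_eq_iff_eq_neg.mp h
  have w2 : ρ y * ρ x * (ρ y * ρ x) = -1 := by
    have h : ρ (y * x) * ρ (y * x)⁻¹ = 1 := by rw [← map_mul, mul_inv_cancel, map_one]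
    rw [e2, map_mul, mul_neg] at h
    exact neg_eq_iff_eq_neg.mp h
  have hs : ρ x * ρ y + ρ y * ρ x = -ρ x - ρ y - 1 := by
    have h := tau_eq ρ hx hy hx3 hy3
    rw [ht] at h
    linear_combination (norm := abel) -h
  have xyx : ρ x * ρ y * ρ x = ρ y + 1 := by
    have := xyx_eq ρ hx hy hx3 hy3
    rwa [ht, zero_mul, zero_add] at this
  have yxy : ρ y * ρ x * ρ y = ρ x + 1 := by
    have := xyx_eq ρ hy hx hy3 hx3
    rwa [t0, zero_mul, zero_add] at this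
  refine ⟨{ gi := (x * y)⁻¹, gj := (y * x)⁻¹, x := x, x1 := hx1, x3 := hx3,
            ii := ?_, jj := ?_, ji := ?_, axx := ?_ }, rfl, rfl, rfl⟩
  · rw [e1, neg_mul_neg, w1]
  · rw [e2, neg_mul_neg, w2]
  · rw [e1, e2, neg_mul_neg, neg_mul_neg, eq_neg_iff_add_eq_zero]
    calc ρ y * ρ x * (ρ x * ρ y) + ρ x * ρ y * (ρ y * ρ x)
        = ρ y * (ρ x * ρ x) * ρ y + ρ x * (ρ y * ρ y) * ρ x := by noncomm_ring
      _ = -(ρ y * ρ x * ρ y) - ρ y * ρ y - (ρ x * ρ y * ρ x) - ρ x * ρ x := by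
          rw [show ρ y * (ρ x * ρ x) * ρ y = -(ρ y * ρ x * ρ y) - ρ y * ρ y by rw [hx]; noncomm_ring,
            show ρ x * (ρ y * ρ y) * ρ x = -(ρ x * ρ y * ρ x) - ρ x * ρ x by rw [hy]; noncomm_ring]
          abel
      _ = 0 := by rw [xyx, yxy, hx, hy]; abel
  · rw [e1, e2, neg_mul_neg, ax,
      show ρ x * ρ y * (ρ y * ρ x) = ρ x * (ρ y * ρ y) * ρ x by noncomm_ring,
      show ρ x * (ρ y * ρ y) * ρ x = -(ρ x * ρ y * ρ x) - ρ x * ρ x by rw [hy]; noncomm_ring,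
      xyx, hx, show -(ρ x * ρ y) + -(ρ y * ρ x) = -(ρ x * ρ y + ρ y * ρ x) by abel, hs, two_mul]
    abel

theorem exists_frame {ρ : G →* A} [Nontrivial A] (hG : Geo k ρ) {x y : G} (hx1 : x ≠ 1) (hy1 : y ≠ 1)
    (hx3 : x ^ 3 = 1) (hy3 : y ^ 3 = 1) (hne : ¬ Commute x y) :
    ∃ F : Frame ρ, F.x = x ∧ F.gi ∈ Subgroup.closure {x, y} ∧ F.gj ∈ Subgroup.closure {x, y} := by
  have hx := hG.fpf.three hx1 hx3
  have hy := hG.fpf.three hy1 hy3
  have mx : x ∈ Subgroup.closure {x, y} := Subgroup.subset_closure (Set.mem_insert _ _)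
  have my : y ∈ Subgroup.closure {x, y} := Subgroup.subset_closure (Set.mem_insert_of_mem _ rfl)
  have fin : ∀ y' : G, y' ≠ 1 → y' ^ 3 = 1 → y' ∈ Subgroup.closure {x, y} → tau ρ x y' = 0 →
      ∃ F : Frame ρ, F.x = x ∧ F.gi ∈ Subgroup.closure {x, y} ∧ F.gj ∈ Subgroup.closure {x, y} := by
    intro y' h1 h3 hm ht
    obtain ⟨F, e1, e2, e3⟩ := exists_frame_of_tau hG.fpf hx1 h1 hx3 h3 ht
    exact ⟨F, e1, e2 ▸ inv_mem (mul_mem mx hm), e3 ▸ inv_mem (mul_mem hm mx)⟩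
  have flip : ∀ y' : G, y' ≠ 1 → y' ^ 3 = 1 → tau ρ x y'⁻¹ = 1 - tau ρ x y' := by
    intro y' h1 h3
    have hy' := hG.fpf.three h1 h3
    have h3' : y'⁻¹ ^ 3 = 1 := by rw [inv_pow, h3, inv_one]
    rw [tau_eq ρ hx (hG.fpf.three (inv_ne_one.mpr h1) h3') hx3 h3', tau_eq ρ hx hy' hx3 h3]
    have e : ρ y'⁻¹ = -ρ y' - 1 := by
      rw [show y'⁻¹ = y' ^ 2 from inv_eq_of_mul_eq_one_right (by rw [← pow_succ']; exact h3),
        map_pow, pow_two, hy']
    rw [e]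
    noncomm_ring
  rcases hG.pair x y hx1 hy1 hx3 hy3 hne with h | h | ⟨h, -⟩
  · exact fin y hy1 hy3 my h
  · exact fin y⁻¹ (inv_ne_one.mpr hy1) (by rw [inv_pow, hy3, inv_one]) (inv_mem my)
      (by rw [flip y hy1 hy3, h, sub_self])
  · have hc1 : y * x⁻¹ * y⁻¹ ≠ 1 := fun e => hx1 (inv_eq_one.mp (conj_eq_one_iff.mp e))
    have hc3 : (y * x⁻¹ * y⁻¹) ^ 3 = 1 := by
      rw [conj_pow, inv_pow, hx3, inv_one, mul_one, mul_inv_cancel]
    refine fin (y * x⁻¹ * y⁻¹)⁻¹ (inv_ne_one.mpr hc1) (by rw [inv_pow, hc3, inv_one])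
      (inv_mem (mul_mem (mul_mem my (inv_mem mx)) (inv_mem my))) ?_
    rw [flip _ hc1 hc3, tau_commutator ρ hx hy hx3 hy3, h]
    abel

variable {ρ : G →* A} (F : Frame ρ)

namespace Frame

/-- quaternion combination -/
def q (a b c d : A) : A := a + ρ F.gi * b + ρ F.gj * c + ρ F.gi * ρ F.gj * d

/-- the commutant of the frame -/
def InC (a : A) : Prop := Commute a (ρ F.gi) ∧ Commute a (ρ F.gj)

theorem inC_add {a b : A} (ha : F.InC a) (hb : F.InC b) : F.InC (a + b) :=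
  ⟨ha.1.add_left hb.1, ha.2.add_left hb.2⟩

theorem inC_sub {a b : A} (ha : F.InC a) (hb : F.InC b) : F.InC (a - b) :=
  ⟨ha.1.sub_left hb.1, ha.2.sub_left hb.2⟩

theorem inC_neg {a : A} (ha : F.InC a) : F.InC (-a) := ⟨ha.1.neg_left, ha.2.neg_left⟩

theorem inC_mul {a b : A} (ha : F.InC a) (hb : F.InC b) : F.InC (a * b) :=
  ⟨ha.1.mul_left hb.1, ha.2.mul_left hb.2⟩

theorem inC_alg (c : k) : F.InC (algebraMap k A c) :=
  ⟨Algebra.commutes c _, Algebra.commutes c _⟩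

theorem inC_int (n : ℤ) : F.InC (n : A) := ⟨Int.cast_commute n _, Int.cast_commute n _⟩

theorem inC_zero : F.InC (0 : A) := ⟨Commute.zero_left _, Commute.zero_left _⟩

theorem inC_one : F.InC (1 : A) := ⟨Commute.one_left _, Commute.one_left _⟩

theorem inC_two : F.InC (2 : A) := one_add_one_eq_two (R := A) ▸ F.inC_add F.inC_one F.inC_one

theorem rules : ∀ z : A, ρ F.gi * (ρ F.gi * z) = -z ∧ ρ F.gj * (ρ F.gj * z) = -z ∧
    ρ F.gj * (ρ F.gi * z) = -(ρ F.gi * (ρ F.gj * z)) := fun z => by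
  refine ⟨?_, ?_, ?_⟩
  · rw [← mul_assoc, F.ii, neg_one_mul]
  · rw [← mul_assoc, F.jj, neg_one_mul]
  · rw [← mul_assoc, F.ji, neg_mul, mul_assoc]

theorem inC_rules {a : A} (ha : F.InC a) :
    (a * ρ F.gi = ρ F.gi * a ∧ a * ρ F.gj = ρ F.gj * a) ∧
    (∀ z : A, a * (ρ F.gi * z) = ρ F.gi * (a * z)) ∧ ∀ z : A, a * (ρ F.gj * z) = ρ F.gj * (a * z) :=
  ⟨⟨ha.1.eq, ha.2.eq⟩, fun z => by rw [← mul_assoc, ha.1.eq, mul_assoc],
    fun z => by rw [← mul_assoc, ha.2.eq, mul_assoc]⟩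

theorem q_mul {a b c d : A} (ha : F.InC a) (hb : F.InC b) (hc : F.InC c) (hd : F.InC d)
    (a' b' c' d' : A) :
    F.q a b c d * F.q a' b' c' d' = F.q (a * a' - b * b' - c * c' - d * d')
      (a * b' + b * a' + c * d' - d * c') (a * c' - b * d' + c * a' + d * b')
      (a * d' + b * c' - c * b' + d * a') := by
  obtain ⟨⟨a1, a2⟩, a3, a4⟩ := F.inC_rules ha
  obtain ⟨⟨b1, b2⟩, b3, b4⟩ := F.inC_rules hb
  obtain ⟨⟨c1, c2⟩, c3, c4⟩ := F.inC_rules hc
  obtain ⟨⟨d1, d2⟩, d3, d4⟩ := F.inC_rules hd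
  have r := F.rules
  simp only [q, mul_add, add_mul, mul_sub, mul_assoc, a3, a4, b3, b4, c3, c4, d3, d4,
    (r _).1, (r _).2.1, (r _).2.2, mul_neg, neg_neg]
  abel

theorem q_add (a b c d a' b' c' d' : A) :
    F.q a b c d + F.q a' b' c' d' = F.q (a + a') (b + b') (c + c') (d + d') := by
  simp only [q, mul_add]; abel

theorem q_scalar (a : A) : F.q a 0 0 0 = a := by simp [q]

theorem q_neg (a b c d : A) : -F.q a b c d = F.q (-a) (-b) (-c) (-d) := by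
  simp only [q, mul_neg]; abel

theorem q_fst (h2 : (2 : k) ≠ 0) {a b c d : A} (ha : F.InC a) (hb : F.InC b) (hc : F.InC c)
    (hd : F.InC d) (h : F.q a b c d = 0) : a = 0 := by
  have e1 : F.q 0 1 0 0 * F.q a b c d * F.q 0 1 0 0 = 0 := by rw [h, mul_zero, zero_mul]
  rw [F.q_mul F.inC_zero F.inC_one F.inC_zero F.inC_zero,
    F.q_mul (by simpa using F.inC_neg hb) (by simpa using ha) (by simpa using F.inC_neg hd)
      (by simpa using hc)] at e1
  simp only [zero_mul, one_mul, mul_zero, mul_one, sub_zero, zero_sub, zero_add, add_zero] at e1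
  have e2 := congrArg₂ (· + ·) h (congrArg Neg.neg e1)
  simp only [neg_zero, add_zero, q_neg, q_add, neg_neg, add_neg_cancel] at e2
  have e3 : F.q 0 0 1 0 * F.q (a + a) (b + b) 0 0 * F.q 0 0 1 0 = 0 := by
    rw [e2, mul_zero, zero_mul]
  rw [F.q_mul F.inC_zero F.inC_zero F.inC_one F.inC_zero,
    F.q_mul (by simpa using F.inC_zero) (by simpa using F.inC_zero)
      (by simpa using F.inC_add ha ha) (by simpa using F.inC_neg (F.inC_add hb hb))] at e3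
  simp only [zero_mul, one_mul, mul_zero, mul_one, sub_zero, zero_sub, zero_add, add_zero] at e3
  have e4 := congrArg₂ (· + ·) e2 (congrArg Neg.neg e3)
  simp only [neg_zero, add_zero, q_neg, q_add, neg_neg, add_neg_cancel, q_scalar] at e4
  refine two_cancel h2 (two_cancel h2 ?_)
  rw [mul_zero, mul_zero, ← e4]
  noncomm_ring

theorem q_inj (h2 : (2 : k) ≠ 0) {a b c d a' b' c' d' : A} (ha : F.InC a) (hb : F.InC b)
    (hc : F.InC c) (hd : F.InC d) (ha' : F.InC a') (hb' : F.InC b') (hc' : F.InC c')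
    (hd' : F.InC d') (h : F.q a b c d = F.q a' b' c' d') : a = a' ∧ b = b' ∧ c = c' ∧ d = d' := by
  have h0 : F.q (a - a') (b - b') (c - c') (d - d') = 0 := by
    rw [← sub_self (F.q a' b' c' d')]
    nth_rewrite 1 [← h]
    simp only [q, mul_sub]; abel
  have A1 := F.inC_sub ha ha'
  have B1 := F.inC_sub hb hb'
  have C1 := F.inC_sub hc hc'
  have D1 := F.inC_sub hd hd'
  refine ⟨sub_eq_zero.mp (F.q_fst h2 A1 B1 C1 D1 h0), ?_, ?_, ?_⟩ <;> refine sub_eq_zero.mp ?_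
  · have e := F.q_mul (F.inC_zero) (F.inC_neg F.inC_one) F.inC_zero F.inC_zero
      (a - a') (b - b') (c - c') (d - d')
    rw [h0, mul_zero] at e
    simp only [zero_mul, neg_one_mul, sub_zero, zero_sub, neg_neg, zero_add, add_zero] at e
    exact F.q_fst h2 B1 (F.inC_neg A1) D1 (F.inC_neg C1) e.symm
  · have e := F.q_mul (F.inC_zero) F.inC_zero (F.inC_neg F.inC_one) F.inC_zero
      (a - a') (b - b') (c - c') (d - d')
    rw [h0, mul_zero] at e
    simp only [zero_mul, neg_one_mul, sub_zero, zero_sub, neg_neg, zero_add, add_zero] at e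
    exact F.q_fst h2 C1 (F.inC_neg D1) (F.inC_neg A1) B1 e.symm
  · have e := F.q_mul (F.inC_zero) F.inC_zero F.inC_zero (F.inC_neg F.inC_one)
      (a - a') (b - b') (c - c') (d - d')
    rw [h0, mul_zero] at e
    simp only [zero_mul, neg_one_mul, sub_zero, zero_sub, neg_neg, zero_add, add_zero] at e
    exact F.q_fst h2 D1 C1 (F.inC_neg B1) (F.inC_neg A1) e.symm

theorem exists_q (h2 : (2 : k) ≠ 0) (Y : A) :
    ∃ a b c d : A, F.InC a ∧ F.InC b ∧ F.InC c ∧ F.InC d ∧ Y = F.q a b c d := by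
  set h : A := algebraMap k A ((2 : k)⁻¹ * (2 : k)⁻¹) with hh
  have hci : ρ F.gi * h = h * ρ F.gi := (Algebra.commutes _ _).symm
  have hcj : ρ F.gj * h = h * ρ F.gj := (Algebra.commutes _ _).symm
  let av : A → A := fun Z => Z - ρ F.gi * Z * ρ F.gi - ρ F.gj * Z * ρ F.gj -
    ρ F.gi * ρ F.gj * Z * (ρ F.gi * ρ F.gj)
  have r := F.rules
  have hav : ∀ Z, F.InC (h * av Z) := by
    intro Z
    constructor
    · refine Commute.mul_left hci.symm ?_
      show _ = _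
      simp only [av, mul_sub, sub_mul, mul_assoc, F.ii, F.jj, F.ji, (r _).1, (r _).2.1, (r _).2.2,
        mul_neg, neg_neg, mul_one, neg_mul, one_mul]
      abel
    · refine Commute.mul_left hcj.symm ?_
      show _ = _
      simp only [av, mul_sub, sub_mul, mul_assoc, F.ii, F.jj, F.ji, (r _).1, (r _).2.1, (r _).2.2,
        mul_neg, neg_neg, mul_one, neg_mul, one_mul]
      abel
  refine ⟨h * av Y, h * av (-(ρ F.gi * Y)), h * av (-(ρ F.gj * Y)),
    h * av (-(ρ F.gi * ρ F.gj * Y)), hav _, hav _, hav _, hav _, ?_⟩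
  have e : Y = h * (Y + Y + Y + Y) := by
    rw [show Y + Y + Y + Y = algebraMap k A (2 * 2) * Y by rw [map_mul, map_ofNat]; noncomm_ring,
      ← mul_assoc, hh, ← map_mul, show (2 : k)⁻¹ * 2⁻¹ * (2 * 2) = 1 by field_simp, map_one, one_mul]
  have key : ∀ u z : A, u * h = h * u → u * (h * z) = h * (u * z) := fun u z hu => by
    rw [← mul_assoc, hu, mul_assoc]
  rw [q, key _ _ hci, key _ _ hcj, key _ _ (by rw [mul_assoc, hcj, ← mul_assoc, hci, mul_assoc]),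
    ← mul_add, ← mul_add, ← mul_add]
  refine e.trans ?_
  congr 1
  simp only [av, mul_sub, sub_mul, mul_assoc, F.ii, F.jj, F.ji, (r _).1, (r _).2.1, (r _).2.2,
    mul_neg, neg_neg, mul_one, neg_mul, one_mul]
  abel

theorem inv_i : ρ F.gi⁻¹ = -ρ F.gi := by
  have h : ρ F.gi⁻¹ * (ρ F.gi * ρ F.gi) = ρ F.gi := by
    rw [← mul_assoc, ← map_mul, inv_mul_cancel, map_one, one_mul]
  rw [F.ii, mul_neg, mul_one] at h
  exact neg_eq_iff_eq_neg.mp h

theorem inv_j : ρ F.gj⁻¹ = -ρ F.gj := by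
  have h : ρ F.gj⁻¹ * (ρ F.gj * ρ F.gj) = ρ F.gj := by
    rw [← mul_assoc, ← map_mul, inv_mul_cancel, map_one, one_mul]
  rw [F.jj, mul_neg, mul_one] at h
  exact neg_eq_iff_eq_neg.mp h

theorem gi_q : ρ F.gi = F.q 0 1 0 0 := by simp [q]

theorem gj_q : ρ F.gj = F.q 0 0 1 0 := by simp [q]

theorem conj_i {a b c d : A} (ha : F.InC a) (hb : F.InC b) (hc : F.InC c) (hd : F.InC d) :
    ρ F.gi * F.q a b c d * ρ F.gi⁻¹ = F.q a b (-c) (-d) := by
  rw [F.inv_i, F.gi_q, F.q_neg, F.q_mul F.inC_zero F.inC_one F.inC_zero F.inC_zero,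
    F.q_mul (by simpa using F.inC_neg hb) (by simpa using ha) (by simpa using F.inC_neg hd)
      (by simpa using hc)]
  simp only [zero_mul, one_mul, neg_zero, mul_zero, mul_neg, mul_one, neg_neg, sub_zero, zero_sub,
    zero_add, add_zero]

theorem conj_j {a b c d : A} (ha : F.InC a) (hb : F.InC b) (hc : F.InC c) (hd : F.InC d) :
    ρ F.gj * F.q a b c d * ρ F.gj⁻¹ = F.q a (-b) c (-d) := by
  rw [F.inv_j, F.gj_q, F.q_neg, F.q_mul F.inC_zero F.inC_zero F.inC_one F.inC_zero,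
    F.q_mul (by simpa using F.inC_neg hc) (by simpa using hd) (by simpa using ha)
      (by simpa using F.inC_neg hb)]
  simp only [zero_mul, one_mul, neg_zero, mul_zero, mul_neg, mul_one, neg_neg, sub_zero, zero_sub,
    zero_add, add_zero]

theorem two_x : 2 * ρ F.x = F.q (-1) 1 1 1 := by
  have h : 2 * ρ F.x + 1 = ρ F.gi + ρ F.gj + ρ F.gi * ρ F.gj := F.axx
  rw [eq_sub_of_add_eq h, q, mul_one, mul_one, mul_one]
  abel

theorem conj_x (h2 : (2 : k) ≠ 0) {a b c d : A} (ha : F.InC a) (hb : F.InC b) (hc : F.InC c)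
    (hd : F.InC d) : ρ F.x * F.q a b c d * ρ F.x⁻¹ = F.q a c d b := by
  have step : F.q (-1) 1 1 1 * F.q a b c d = F.q a c d b * F.q (-1) 1 1 1 := by
    rw [F.q_mul (F.inC_neg F.inC_one) F.inC_one F.inC_one F.inC_one, F.q_mul ha hc hd hb]
    simp only [q, neg_one_mul, one_mul, mul_neg, mul_one]
    congr 1 <;> [skip; (congr 1; abel)]
    congr 1 <;> [skip; (congr 1; abel)]
    congr 1 <;> [abel; (congr 1; abel)]
  rw [← F.two_x] at step
  have h : ρ F.x * F.q a b c d = F.q a c d b * ρ F.x := two_cancel h2 (by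
    rw [← mul_assoc, step, ← mul_assoc, ← mul_assoc, (Commute.ofNat_left 2 (F.q a c d b)).eq])
  rw [h, mul_assoc, ← map_mul, mul_inv_cancel, map_one, mul_one]

end Frame

end Cfsg.Agent.Zassenhaus
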