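import Cfsg.Agent.Lib.Zassenhaus.Aut2

/-!
A quaternion 2-group with an automorphism of odd order is the quaternion group of order eight.
-/

set_option autoImplicit false

namespace Cfsg.Agent.Zassenhaus

open QuaternionGroup

variable {D : Type*} [Group D] [Finite D]

theorem isPGroup_two_of_quaternion {n : ℕ} (e : D ≃* QuaternionGroup (2 ^ n)) : IsPGroup 2 D := by
  haveI : NeZero (2 ^ n) := ⟨by positivity⟩
  refine IsPGroup.of_card (n := n + 2) ?_
  rw [Nat.card_congr e.toEquiv, Nat.card_eq_fintype_card, QuaternionGroup.card]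
  ring

theorem quaternion_n_eq_one {n : ℕ} (e : D ≃* QuaternionGroup (2 ^ n)) (φ : MulAut D)
    (hφ : Odd (orderOf φ)) (hne : φ ≠ 1) : n = 1 := by
  by_contra hn
  apply hne
  haveI : NeZero (2 ^ n) := ⟨by positivity⟩
  haveI : NeZero (2 * 2 ^ n) := ⟨by positivity⟩
  have hD := isPGroup_two_of_quaternion e
  rcases Nat.lt_or_ge n 1 with h0 | h2
  · obtain rfl : n = 0 := by omega
    haveI : IsCyclic D := e.isCyclic.mpr (isCyclic_of_orderOf_eq_card (xa (0 : ZMod (2 * 2 ^ 0))) (by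
      rw [orderOf_xa, Nat.card_eq_fintype_card, QuaternionGroup.card]; rfl))
    haveI : IsCyclic (⊤ : Subgroup D) := Subgroup.topEquiv.isCyclic.mpr inferInstance
    exact eq_one_of_stable hD (C := ⊤) (fun x y hx _ => absurd (Subgroup.mem_top x) hx) φ hφ
      (Subgroup.map_top_of_surjective _ φ.surjective)
  have hn2 : 2 ≤ n := by omega
  set a₁ := e.symm (a 1) with ha₁
  let C : Subgroup D := Subgroup.zpowers a₁
  have hpow : ∀ m : ℕ, e (a₁ ^ m) = a m := fun m => by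
    rw [map_pow, ha₁, e.apply_symm_apply, a_one_pow]
  have hCx : ∀ z, z ∈ C ↔ ∃ i, e z = a i := fun z => by
    constructor
    · intro hz
      obtain ⟨m, hm⟩ := (isOfFinOrder_of_finite a₁).mem_powers_iff_mem_zpowers.mpr hz
      exact ⟨m, by rw [← hm]; exact hpow m⟩
    · rintro ⟨i, hi⟩
      rw [← ZMod.natCast_zmod_val i, ← hpow, e.apply_eq_iff_eq] at hi
      exact hi ▸ Subgroup.pow_mem _ (Subgroup.mem_zpowers _) _
  have hC2 : ∀ x y : D, x ∉ C → y ∉ C → x⁻¹ * y ∈ C := by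
    intro x y hx hy
    rw [hCx] at hx hy ⊢
    rcases hex : e x with i | i
    · exact absurd ⟨i, hex⟩ hx
    rcases hey : e y with j | j
    · exact absurd ⟨j, hey⟩ hy
    exact ⟨_, by rw [map_mul, map_inv, hex, hey]; rfl⟩
  refine eq_one_of_stable hD hC2 φ hφ ?_
  have hmem : φ a₁ ∈ C := by
    rw [hCx]
    rcases h : e (φ a₁) with i | i
    · exact ⟨i, rfl⟩
    · exfalso
      have h4 : orderOf (e (φ a₁)) = 4 := by rw [h, orderOf_xa]
      rw [MulEquiv.orderOf_eq, MulEquiv.orderOf_eq, ha₁, MulEquiv.orderOf_eq, orderOf_a_one] at h4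
      have h8 : 2 ^ 2 ≤ 2 ^ n := Nat.pow_le_pow_right (by norm_num) hn2
      omega
  refine Subgroup.eq_of_le_of_card_ge ?_ (le_of_eq ?_)
  · rw [MonoidHom.map_zpowers]
    exact Subgroup.zpowers_le.mpr hmem
  · exact (Subgroup.card_map_of_injective φ.injective).symm

/-- facts about the quaternion group of order eight -/
theorem q8_table :
    (∀ x : QuaternionGroup 2, x * a 1 = a 1 * x → x * xa 0 = xa 0 * x → x = 1 ∨ x = a 2) ∧
    Fintype.card {p : QuaternionGroup 2 × QuaternionGroup 2 //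
      p.1 * p.1 ≠ 1 ∧ p.2 * p.2 ≠ 1 ∧ p.1 * p.2 ≠ p.2 * p.1} = 24 ∧
    (a 1 * a 1 = (a 2 : QuaternionGroup 2) ∧ xa 0 * xa 0 = (a 2 : QuaternionGroup 2) ∧
      xa 0 * a 1 = a 2 * (a 1 * (xa 0 : QuaternionGroup 2)) ∧ (a 2 : QuaternionGroup 2) * a 2 = 1 ∧
      (a 2 : QuaternionGroup 2) ≠ 1 ∧ ∀ x : QuaternionGroup 2, a 2 * x = x * a 2) ∧
    (∀ x : QuaternionGroup 2, x * x = 1 → x = 1 ∨ x = a 2) := by
  decide +kernel

end Cfsg.Agent.Zassenhaus
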