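import Cfsg.Agent.Lib.Zassenhaus.Amitsur

/-!
Nonsolvable linear groups regular on nonzero vectors.
-/

set_option autoImplicit false

namespace Cfsg.Agent.Zassenhaus

open Subgroup

/-- a free action: the order of the group divides the size of the set -/
theorem card_dvd_of_free {M X : Type*} [Group M] [MulAction M X] [Finite M] [Finite X]
    (h : ∀ (g : M) (x : X), g • x = x → g = 1) : Nat.card M ∣ Nat.card X := by
  classical
  haveI := Fintype.ofFinite (MulAction.orbitRel.Quotient M X)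
  have hfree : ∀ x : X, MulAction.stabilizer M x = ⊥ := fun x =>
    eq_bot_iff.mpr fun g hg => Subgroup.mem_bot.mpr (h g x hg)
  rw [Nat.card_congr (MulAction.selfEquivSigmaOrbitsQuotientStabilizer M X), Nat.card_sigma]
  refine Finset.dvd_sum fun q _ => ?_
  rw [hfree, ← Subgroup.index_eq_card, Subgroup.index_bot]

theorem arith_regular {p m M e : ℕ} (hp : p.Prime) (hp7 : 7 ≤ p) (hm : 1 ≤ m) (he : e = 1 ∨ e = 2)
    (hMd : M ∣ p ^ m - 1) (hM : (p ^ m) * (p ^ m) - 1 = e * (120 * M)) (hco : M.Coprime 30) :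
    e = 1 ∧ m = 1 ∧ ((p = 11 ∧ M = 1) ∨ (p = 29 ∧ M = 7) ∨ (p = 59 ∧ M = 29)) := by
  set q := p ^ m with hq
  have hq7 : 7 ≤ q := hp7.trans (Nat.le_self_pow (by omega) p)
  obtain ⟨c, hc⟩ := hMd
  have hM0 : 0 < M := by
    rcases Nat.eq_zero_or_pos M with h | h
    · rw [h, zero_mul] at hc; omega
    · exact h
  -- the order is a multiple of `q + 1`
  have hM' := hM
  have hkey : (q + 1) * c = 120 * e := by
    have e1 : q * q - 1 = (q + 1) * (q - 1) := by
      cases q with
      | zero => omega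
      | succ r => simp only [Nat.add_sub_cancel]; ring_nf; omega
    rw [e1, hc, show e * (120 * M) = M * (120 * e) by ring, ← mul_assoc, mul_comm (q + 1) M,
      mul_assoc] at hM
    exact Nat.eq_of_mul_eq_mul_left hM0 hM
  have hc0 : 0 < c := by
    rcases Nat.eq_zero_or_pos c with h | h
    · rw [h, mul_zero] at hc; omega
    · exact h
  have hq240 : q + 1 ≤ 240 := by
    have : q + 1 ≤ (q + 1) * c := Nat.le_mul_of_pos_right _ hc0
    rcases he with rfl | rfl <;> omega
  have hm2 : m ≤ 2 := by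
    by_contra hcon
    have : p ^ 3 ≤ q := Nat.pow_le_pow_right hp.pos (by omega)
    have : 7 ^ 3 ≤ p ^ 3 := Nat.pow_le_pow_left hp7 3
    omega
  have hd : q + 1 ∣ 240 := by
    rcases he with rfl | rfl
    · exact (Dvd.intro c hkey).trans (by norm_num)
    · exact Dvd.intro c hkey
  have hdiv : q + 1 ∈ Nat.divisors 240 := Nat.mem_divisors.mpr ⟨hd, by norm_num⟩
  rw [show Nat.divisors 240 = {1, 2, 3, 4, 5, 6, 8, 10, 12, 15, 16, 20, 24, 30, 40, 48, 60, 80, 120, 240}
    by decide +kernel] at hdiv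
  simp only [Finset.mem_insert, Finset.mem_singleton] at hdiv
  obtain rfl | rfl : m = 1 ∨ m = 2 := by omega
  · rw [hq, pow_one] at hdiv hM'
    have nd : ∀ d, 1 < d → d ∣ 30 → M % d ≠ 0 := fun d hd h30 h =>
      hd.ne' (Nat.eq_one_of_dvd_coprimes hco (Nat.dvd_of_mod_eq_zero h) h30)
    have n2 := nd 2 (by norm_num) (by norm_num)
    have n3 := nd 3 (by norm_num) (by norm_num)
    have n5 := nd 5 (by norm_num) (by norm_num)
    have : p ≠ 9 ∧ p ≠ 14 ∧ p ≠ 15 ∧ p ≠ 39 ∧ p ≠ 119 :=
      ⟨fun e => by norm_num [e] at hp, fun e => by norm_num [e] at hp, fun e => by norm_num [e] at hp,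
        fun e => by norm_num [e] at hp, fun e => by norm_num [e] at hp⟩
    have hps : p = 7 ∨ p = 11 ∨ p = 19 ∨ p = 23 ∨ p = 29 ∨ p = 47 ∨ p = 59 ∨ p = 79 ∨ p = 239 := by
      omega
    rcases hps with rfl | rfl | rfl | rfl | rfl | rfl | rfl | rfl | rfl <;>
      rcases he with rfl | rfl <;> norm_num at hM' ⊢ <;> omega
  · exfalso
    have : p ≤ 15 := by nlinarith
    interval_cases p <;> norm_num at hp <;> norm_num [hq] at hdiv

variable {p : ℕ} [Fact p.Prime] {V : Type*} [AddCommGroup V] [Module (ZMod p) V] [Finite V]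

/-- nonsolvable groups regular on nonzero vectors -/
theorem regular_nonsolvable (H : Subgroup (V ≃ₗ[ZMod p] V))
    (hreg : ∀ v w : V, v ≠ 0 → w ≠ 0 → ∃! h : H, (h : V ≃ₗ[ZMod p] V) v = w)
    (hns : ¬ Group.IsSolvable H) : ∃ m : ℕ,
      ((p = 11 ∧ m = 1) ∨ (p = 29 ∧ m = 7) ∨ (p = 59 ∧ m = 29)) ∧ Nat.card V = p ^ 2 ∧
      ∃ M : Subgroup H, Nat.card M = m ∧ IsCyclic M ∧ Nonempty (SL25 × M ≃* H) := by
  classical
  haveI : Finite (V ≃ₗ[ZMod p] V) := Finite.of_injective (fun e => (e : V → V)) DFunLike.coe_injective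
  have hp : p.Prime := Fact.out
  haveI : Nontrivial V := by
    by_contra hV
    haveI := not_nontrivial_iff_subsingleton.mp hV
    haveI : Subsingleton H := ⟨fun a b => Subtype.ext (LinearEquiv.ext fun v => Subsingleton.elim _ _)⟩
    exact hns inferInstance
  have hfix : ∀ (h : H) (v : V), v ≠ 0 → (h : V ≃ₗ[ZMod p] V) v = v → h = 1 := fun h v hv e =>
    (hreg v v hv hv).unique e (by simp)
  -- the order of the group
  obtain ⟨v0, hv0⟩ := exists_ne (0 : V)
  have hcardH : Nat.card H = Nat.card V - 1 := by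
    haveI := Fintype.ofFinite V
    rw [Nat.card_eq_of_bijective (fun h : H => (⟨(h : V ≃ₗ[ZMod p] V) v0,
      fun e => hv0 ((h : V ≃ₗ[ZMod p] V).map_eq_zero_iff.mp e)⟩ : {v : V // v ≠ 0}))
      ⟨fun a b e => (hreg v0 _ hv0 (fun e' => hv0 ((b : V ≃ₗ[ZMod p] V).map_eq_zero_iff.mp e'))).unique
          (congrArg Subtype.val e) rfl,
       fun ⟨w, hw⟩ => by
        obtain ⟨h, hh, -⟩ := hreg v0 w hv0 hw
        exact ⟨h, Subtype.ext hh⟩⟩, Nat.card_eq_fintype_card, Fintype.card_subtype_compl,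
      Fintype.card_subtype_eq, Nat.card_eq_fintype_card]
  -- the representation
  let ψ : H →* MulAut (Multiplicative V) := MonoidHom.mk'
    (fun h => (AddEquiv.toMultiplicative (h : V ≃ₗ[ZMod p] V).toAddEquiv))
    (fun a b => MulEquiv.ext fun v => rfl)
  have hFC : FC H := fc_of_action_elementary (W := Multiplicative V) (q := p)
    (fun w => Multiplicative.toAdd.injective (show p • w.toAdd = 0 by
      rw [← Nat.cast_smul_eq_nsmul (ZMod p), ZMod.natCast_self, zero_smul]))
    ψ fun h hh w hw => Multiplicative.toAdd.injective (by_contra fun hne =>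
      hh (hfix h w.toAdd hne (congrArg Multiplicative.toAdd hw)))
  obtain ⟨θ, M, hθ, hN, hM, hidx, hdis, hcomm, hZ, hcop⟩ := hFC.structure_of_nonsolvable hns
  haveI := hN
  haveI := hM
  -- the order of `θ.range ⊔ M`
  let Φ : SL25 × M →* H := MonoidHom.mk' (fun x => θ x.1 * x.2) (fun x y => by
    show θ (x.1 * y.1) * ((x.2 * y.2 : M) : H) = θ x.1 * x.2 * (θ y.1 * y.2)
    rw [map_mul, Subgroup.coe_mul, mul_assoc, ← mul_assoc (θ y.1),
      hcomm (θ y.1) ⟨y.1, rfl⟩ x.2 x.2.2]
    simp only [mul_assoc])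
  have hΦ : Function.Injective Φ := by
    refine (injective_iff_map_eq_one Φ).mpr fun x hx => ?_
    change θ x.1 * x.2 = 1 at hx
    have hm : θ x.1 ∈ θ.range ⊓ M := Subgroup.mem_inf.mpr ⟨⟨x.1, rfl⟩, by
      rw [eq_inv_of_mul_eq_one_left hx]; exact inv_mem x.2.2⟩
    rw [hdis, Subgroup.mem_bot] at hm
    rw [hm, one_mul] at hx
    exact Prod.ext (hθ (hm.trans (map_one θ).symm)) (Subtype.ext hx)
  have hrange : Φ.range = θ.range ⊔ M := by
    refine le_antisymm ?_ (sup_le ?_ ?_)
    · rintro _ ⟨x, rfl⟩; exact mul_mem (mem_sup_left ⟨x.1, rfl⟩) (mem_sup_right x.2.2)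
    · rintro _ ⟨u, rfl⟩; exact ⟨(u, 1), by simp [Φ]⟩
    · intro m hm; exact ⟨(1, ⟨m, hm⟩), by simp [Φ]⟩
  set ε := (θ.range ⊔ M).index with hεdef
  have hcard2 : Nat.card H = ε * (120 * Nat.card M) := by
    rw [hεdef, ← Subgroup.index_mul_card (θ.range ⊔ M), ← hrange,
      ← Nat.card_congr (MonoidHom.ofInjective hΦ).toEquiv, Nat.card_prod, card_SL25]
  have hε : ε = 1 ∨ ε = 2 := by
    have := (θ.range ⊔ M).index_ne_zero_of_finite
    omega
  -- `p ≥ 7`
  obtain ⟨n, hn⟩ : ∃ n, Nat.card V = p ^ n :=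
    ⟨_, (Module.natCard_eq_pow_finrank (K := ZMod p) (V := V)).trans (by rw [Nat.card_zmod])⟩
  have hV1 : 1 < Nat.card V := Finite.one_lt_card
  have hn0 : n ≠ 0 := fun e => by rw [hn, e, pow_zero] at hV1; omega
  have hp7 : 7 ≤ p := by
    have h30 : ∀ d, d ∣ 30 → d ≠ 1 → d ≠ p := by
      rintro d hd hd1 rfl
      have h1 : d ∣ Nat.card H := by
        rw [hcard2]; exact ((hd.trans (by norm_num : 30 ∣ 120)).mul_right _).mul_left _
      have h2 : d ∣ Nat.card H + 1 := by
        rw [hcardH, Nat.sub_add_cancel hV1.le, hn]; exact dvd_pow_self d hn0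
      exact hd1 (Nat.dvd_one.mp ((Nat.dvd_add_right h1).mp h2))
    have := h30 2 (by norm_num) (by norm_num)
    have := h30 3 (by norm_num) (by norm_num)
    have := h30 5 (by norm_num) (by norm_num)
    have : p ≠ 4 := by rintro rfl; norm_num at hp
    have : p ≠ 6 := by rintro rfl; norm_num at hp
    have := hp.two_le
    omega
  -- an operator with square one anticommuting with a quaternion
  obtain ⟨qa, qb, z, hz1, hz2, -, -, hqa, hqb, hqba⟩ := exists_quat
  let T : H →* Module.End (ZMod p) V :=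
    { toFun := fun h => ((h : V ≃ₗ[ZMod p] V) : V →ₗ[ZMod p] V)
      map_one' := rfl
      map_mul' := fun _ _ => rfl }
  have hTfix : ∀ h : H, ∀ v : V, v ≠ 0 → T h v = v → h = 1 := hfix
  have hzT : T (θ z) = -1 := by
    refine LinearMap.ext fun v => ?_
    have hzz : θ z * θ z = 1 := by rw [← map_mul, ← pow_two, hz2, map_one]
    have h1 : T (θ z) (T (θ z) v) = v := by rw [← Module.End.mul_apply, ← map_mul, hzz, map_one]; rfl
    by_contra hne
    refine hz1 (hθ ((hTfix (θ z) (T (θ z) v + v) (fun e => hne ?_) ?_).trans (map_one θ).symm))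
    · show T (θ z) v = (-1 : Module.End (ZMod p) V) v
      rw [LinearMap.neg_apply, Module.End.one_apply]; exact eq_neg_of_add_eq_zero_left e
    · rw [map_add, h1, add_comm]
  set I := T (θ qa) with hI
  set J := T (θ qb) with hJ
  have hII : I * I = -1 := by rw [hI, ← map_mul, ← map_mul, hqa, hzT]
  have hJJ : J * J = -1 := by rw [hJ, ← map_mul, ← map_mul, hqb, hzT]
  have hJI : J * I = -(I * J) := by
    rw [hI, hJ, ← map_mul, ← map_mul, hqba, map_mul, map_mul, hzT, neg_one_mul, map_mul, map_mul]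
  obtain ⟨a, b, hab⟩ := ZMod.sq_add_sq p (-1)
  set U := a • I + b • J with hU
  have hUU : U * U = 1 := by
    rw [hU]
    simp only [add_mul, mul_add, smul_mul_smul_comm, hII, hJJ, hJI, smul_neg, mul_comm b a]
    rw [show -((a * a) • (1 : Module.End (ZMod p) V)) + -((a * b) • (I * J)) + ((a * b) • (I * J) + -((b * b) • 1))
      = -((a * a + b * b) • (1 : Module.End (ZMod p) V)) by rw [add_smul]; abel,
      ← pow_two, ← pow_two, hab]
    simp
  set K' := I * J with hK'
  have hKU : K' * U = -(U * K') := by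
    rw [hU, hK']
    simp only [mul_add, add_mul, mul_smul_comm, smul_mul_assoc, neg_add, ← smul_neg]
    congr 1
    · rw [mul_assoc, hJI, mul_neg, ← mul_assoc]
    · rw [← mul_assoc J, hJI, neg_mul, neg_neg]
  have h2 : (2 : ZMod p) ≠ 0 := by
    intro h
    rw [show (2 : ZMod p) = ((2 : ℕ) : ZMod p) from Nat.cast_ofNat.symm, ZMod.natCast_eq_zero_iff] at h
    have := Nat.le_of_dvd (by norm_num) h
    omega
  have hKinj : Function.Injective K' := by
    intro u v e
    have hK2 : K' * K' = -1 := by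
      rw [hK', mul_assoc, ← mul_assoc J, hJI, neg_mul, mul_assoc, hJJ, mul_neg_one, neg_neg, hII]
    have := congrArg K' e
    rw [← Module.End.mul_apply, ← Module.End.mul_apply, hK2] at this
    simpa using this
  let Vp : Submodule (ZMod p) V := LinearMap.ker (U - 1)
  let Vm : Submodule (ZMod p) V := LinearMap.ker (U + 1)
  have hmem_p : ∀ v, v ∈ Vp ↔ U v = v := fun v => by simp [Vp, sub_eq_zero]
  have hmem_m : ∀ v, v ∈ Vm ↔ U v = -v := fun v => by simp [Vm, eq_neg_iff_add_eq_zero]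
  have hUUv : ∀ v, U (U v) = v := fun v => by rw [← Module.End.mul_apply, hUU]; rfl
  have hswap : ∀ v, U (K' v) = -(K' (U v)) := fun v => by
    rw [← Module.End.mul_apply, ← Module.End.mul_apply, hKU, LinearMap.neg_apply, neg_neg]
  have hpm : Nat.card Vp = Nat.card Vm := le_antisymm
    (Nat.card_le_card_of_injective (fun v : Vp => (⟨K' v, (hmem_m _).mpr (by
      rw [hswap, (hmem_p _).mp v.2])⟩ : Vm)) (fun u v e => Subtype.ext (hKinj (congrArg Subtype.val e))))
    (Nat.card_le_card_of_injective (fun v : Vm => (⟨K' v, (hmem_p _).mpr (by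
      rw [hswap, (hmem_m _).mp v.2, map_neg, neg_neg])⟩ : Vp))
      (fun u v e => Subtype.ext (hKinj (congrArg Subtype.val e))))
  have hsplit : Nat.card V = Nat.card Vp * Nat.card Vm := by
    rw [← Nat.card_prod]
    refine (Nat.card_eq_of_bijective (fun x : Vp × Vm => (x.1 : V) + x.2) ⟨?_, ?_⟩).symm
    · rintro ⟨⟨u, hu⟩, ⟨w, hw⟩⟩ ⟨⟨u', hu'⟩, ⟨w', hw'⟩⟩ e
      simp only at e
      have e' := congrArg U e
      rw [map_add, map_add, (hmem_p u).mp hu, (hmem_m w).mp hw, (hmem_p u').mp hu', (hmem_m w').mp hw'] at e'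
      have e2 : (2 : ZMod p) • u = (2 : ZMod p) • u' := by
        rw [two_smul, two_smul]
        calc u + u = (u + w) + (u + -w) := by abel
          _ = (u' + w') + (u' + -w') := by rw [e, e']
          _ = u' + u' := by abel
      have eu := smul_right_injective V h2 e2
      subst eu
      exact Prod.ext rfl (Subtype.ext (add_left_cancel e))
    · intro v
      refine ⟨(⟨(2 : ZMod p)⁻¹ • (v + U v), (hmem_p _).mpr ?_⟩, ⟨(2 : ZMod p)⁻¹ • (v - U v), (hmem_m _).mpr ?_⟩), ?_⟩
      · rw [map_smul, map_add, hUUv, add_comm]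
      · rw [map_smul, map_sub, hUUv, ← smul_neg, neg_sub]
      · show _ • _ + _ • _ = v
        rw [← smul_add, show v + U v + (v - U v) = (2 : ZMod p) • v by rw [two_smul]; abel, smul_smul,
          inv_mul_cancel₀ h2, one_smul]
  obtain ⟨m, hm⟩ : ∃ m, Nat.card Vp = p ^ m :=
    ⟨_, (Module.natCard_eq_pow_finrank (K := ZMod p) (V := Vp)).trans (by rw [Nat.card_zmod])⟩
  have hq1 : 1 < p ^ m := by
    rw [← hm]
    by_contra hle
    rw [hsplit, ← hpm] at hV1
    have : Nat.card Vp = 1 := by have := Nat.card_pos (α := Vp); omega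
    rw [this] at hV1; omega
  have hm1 : 1 ≤ m := by
    rcases Nat.eq_zero_or_pos m with e | e
    · rw [e, pow_zero] at hq1; omega
    · exact e
  -- `M` acts freely on nonzero vectors of `Vp`
  have hMI : ∀ (x : M) (u : SL25), Commute (T x) (T (θ u)) := fun x u => by
    show _ = _
    rw [← map_mul, ← map_mul, hcomm (θ u) ⟨u, rfl⟩ x x.2]
  have hMU : ∀ x : M, Commute (T x) U := fun x =>
    ((hMI x qa).smul_right a).add_right ((hMI x qb).smul_right b)
  have hMstab : ∀ (x : M) (v : V), v ∈ Vp → T x v ∈ Vp := fun x v hv => by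
    rw [hmem_p, ← Module.End.mul_apply, ← (hMU x).eq, Module.End.mul_apply, (hmem_p v).mp hv]
  have hMdvd : Nat.card M ∣ p ^ m - 1 := by
    haveI := Fintype.ofFinite Vp
    let X := {v : Vp // v ≠ 0}
    letI : MulAction M X :=
      { smul := fun x v => ⟨⟨T x v.1.1, hMstab x _ v.1.2⟩, fun e => v.2 (Subtype.ext
          (((x : H) : V ≃ₗ[ZMod p] V).map_eq_zero_iff.mp (congrArg Subtype.val e)))⟩
        one_smul := fun v => Subtype.ext (Subtype.ext (by show T ((1 : M) : H) v.1.1 = _; simp))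
        mul_smul := fun x y v => Subtype.ext (Subtype.ext (by
          show T ((x * y : M) : H) v.1.1 = T x (T y v.1.1)
          rw [Subgroup.coe_mul, map_mul]; rfl)) }
    have hd := card_dvd_of_free (M := M) (X := X) fun x v e => Subtype.ext (hTfix x v.1.1
      (fun e0 => v.2 (Subtype.ext e0)) (congrArg (fun w : X => (w.1 : V)) e))
    rwa [Nat.card_eq_fintype_card (α := X), Fintype.card_subtype_compl, Fintype.card_subtype_eq,
      ← Nat.card_eq_fintype_card, hm] at hd
  have hVq : Nat.card V = p ^ m * p ^ m := by rw [hsplit, ← hpm, hm]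
  obtain ⟨he1, hm1', hcases⟩ := arith_regular hp hp7 hm1 hε hMdvd
    (by rw [← hVq, ← hcardH, hcard2]) hcop
  refine ⟨Nat.card M, hcases, by rw [hVq, hm1', pow_one, pow_two], M, rfl, ?_, ?_⟩
  · rcases hcases with ⟨-, e⟩ | ⟨-, e⟩ | ⟨-, e⟩
    · haveI := (Nat.card_eq_one_iff_unique.mp e).1; infer_instance
    · haveI : Fact (Nat.Prime 7) := ⟨by norm_num⟩; exact isCyclic_of_prime_card e
    · haveI : Fact (Nat.Prime 29) := ⟨by norm_num⟩; exact isCyclic_of_prime_card e
  · refine ⟨MulEquiv.ofBijective Φ ⟨hΦ, MonoidHom.range_eq_top.mp ?_⟩⟩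
    rw [hrange]
    exact Subgroup.index_eq_one.mp he1

end Cfsg.Agent.Zassenhaus
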