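import Cfsg.Agent.Lib.Zassenhaus.Rep
import Cfsg.Agent.Lib.Zassenhaus.QuatAut
import Cfsg.Agent.Lib.Root.Small

/-!
Recognition of `SL(2,3)` and subgroups of index two.
-/

set_option autoImplicit false

namespace Cfsg.Agent.Zassenhaus

open Subgroup QuaternionGroup

section IndexTwo

variable {G : Type*} [Group G]

/-- `G` has a normal subgroup of index two -/
def HasIndexTwo (G : Type*) [Group G] : Prop := ∃ N : Subgroup G, N.Normal ∧ N.index = 2

theorem HasIndexTwo.comap {H : Type*} [Group H] (h : HasIndexTwo H) (f : G →* H)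
    (hf : Function.Surjective f) : HasIndexTwo G := by
  obtain ⟨N, hN, hN2⟩ := h
  haveI := hN
  exact ⟨N.comap f, inferInstance, (N.index_comap_of_surjective hf).trans hN2⟩

theorem hasIndexTwo_of_comm {A : Type*} [CommGroup A] [Finite A] (h : 2 ∣ Nat.card A) :
    HasIndexTwo A := by
  haveI := Fact.mk Nat.prime_two
  set P : A →* A := powMonoidHom 2 with hP
  have hne : P.range ≠ ⊤ := by
    intro htop
    obtain ⟨x, hx⟩ := exists_prime_orderOf_dvd_card' (G := A) 2 h
    have hinj : Function.Injective P :=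
      Finite.injective_iff_surjective.mpr (MonoidHom.range_eq_top.mp htop)
    have h1 : x = 1 := hinj (by rw [map_one, hP, powMonoidHom_apply, ← hx, pow_orderOf_eq_one])
    rw [h1, orderOf_one] at hx
    norm_num at hx
  obtain ⟨M, hM, hle⟩ := (eq_top_or_exists_le_coatom P.range).resolve_left hne
  refine ⟨M, inferInstance, ?_⟩
  obtain ⟨x, hx⟩ : ∃ x, x ∉ M := by
    by_contra hall
    push Not at hall
    exact hM.1 (eq_top_iff.mpr fun x _ => hall x)
  have hlt : M < M ⊔ zpowers x :=
    lt_of_le_of_ne le_sup_left fun e => hx (e ▸ mem_sup_right (mem_zpowers x))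
  have hsup := hM.2 _ hlt
  have hgen : zpowers (QuotientGroup.mk' M x) = ⊤ := by
    rw [← MonoidHom.map_zpowers, ← Subgroup.map_top_of_surjective _ (QuotientGroup.mk'_surjective M), ← hsup,
      Subgroup.map_sup, QuotientGroup.map_mk'_self, bot_sup_eq]
  have ho : orderOf (QuotientGroup.mk' M x) = 2 := by
    refine orderOf_eq_prime ?_ fun e => hx ((QuotientGroup.eq_one_iff x).mp e)
    rw [← map_pow]
    exact (QuotientGroup.eq_one_iff _).mpr (hle ⟨x, rfl⟩)
  rw [Subgroup.index_eq_card, ← Subgroup.card_top, ← hgen, Nat.card_zpowers, ho]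

theorem hasIndexTwo_of_abelianization [Finite G] (h : 2 ∣ Nat.card (Abelianization G)) : HasIndexTwo G :=
  (hasIndexTwo_of_comm h).comap Abelianization.of QuotientGroup.mk_surjective

theorem hasIndexTwo_of_isPGroup [Finite G] [Nontrivial G] (h : IsPGroup 2 G) : HasIndexTwo G := by
  haveI := Fact.mk Nat.prime_two
  haveI : Group.IsNilpotent G := h.isNilpotent
  refine hasIndexTwo_of_abelianization ?_
  haveI : Nontrivial (Abelianization G) := by
    rw [← Finite.one_lt_card_iff_nontrivial]
    have h1 : commutator G < ⊤ := Group.IsSolvable.commutator_lt_top_of_nontrivial G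
    have h2 : (commutator G).index ≠ 1 := fun e => h1.ne (Subgroup.index_eq_one.mp e)
    have h3 := (commutator G).index_ne_zero_of_finite
    show 1 < Nat.card (G ⧸ commutator G)
    rw [← Subgroup.index_eq_card]
    omega
  obtain ⟨k, hk0, hk⟩ := (IsPGroup.of_surjective (H := Abelianization G) h Abelianization.of QuotientGroup.mk_surjective).nontrivial_iff_card.mp
    inferInstance
  rw [hk]
  exact dvd_pow_self 2 (by omega)

end IndexTwo

theorem q8_braid : ∀ u j k : QuaternionGroup 2, u * u ≠ 1 → u * j ≠ j * u → j * k ≠ k * j → k * u ≠ u * k →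
    j * k⁻¹ = u * j⁻¹ * (k * u⁻¹) ∧ (u * j⁻¹) * (j * k⁻¹) ≠ (j * k⁻¹) * (u * j⁻¹) := by
  decide +kernel

theorem q8_comm : ∀ u j : QuaternionGroup 2, u * u ≠ 1 → j * j ≠ 1 → u * j = j * u → j = u ∨ j = u⁻¹ := by
  decide +kernel

theorem q8_gen : ∀ d e : QuaternionGroup 2, d * e ≠ e * d → ∀ x, ∃ s t : Fin 4, x = d ^ (s : ℕ) * e ^ (t : ℕ) := by
  decide +kernel

theorem card_SL23 : Nat.card (Matrix.SpecialLinearGroup (Fin 2) (ZMod 3)) = 24 := by
  rw [Nat.card_eq_fintype_card]; decide +kernel

/-- the upper unipotent generator -/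
def gu3 : Matrix.SpecialLinearGroup (Fin 2) (ZMod 3) := ⟨!![1, 1; 0, 1], by decide⟩

/-- the lower unipotent generator -/
def gl3 : Matrix.SpecialLinearGroup (Fin 2) (ZMod 3) := ⟨!![1, 0; 2, 1], by decide⟩

theorem gu3_gl3 : gu3 ^ 3 = 1 ∧ gl3 ^ 3 = 1 ∧ gu3 * gl3 * gu3 = gl3 * gu3 * gl3 := by decide +kernel

theorem gu3_bij : Function.Bijective (RootLib.smallWord3 gu3 (gu3 * gl3 * gu3)) := by decide +kernel

/-- fixed-point-free groups of order 24 without subgroup of index two -/
theorem sl23_of_fc {H : Type*} [Group H] [Finite H] (hFC : FC H) (hcard : Nat.card H = 24)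
    (hno : ¬ HasIndexTwo H) : Nonempty (H ≃* Matrix.SpecialLinearGroup (Fin 2) (ZMod 3)) := by
  classical
  haveI := Fact.mk Nat.prime_two
  haveI := Fact.mk Nat.prime_three
  obtain ⟨P⟩ := (inferInstance : Nonempty (Sylow 2 H))
  have hP8 : Nat.card (P : Subgroup H) = 8 := by
    obtain ⟨j, hj⟩ := P.2.exists_card_eq
    have h1 : 2 ^ 3 ∣ Nat.card (P : Subgroup H) := P.pow_dvd_card_of_pow_dvd_card (by rw [hcard]; norm_num)
    have h2 : Nat.card (P : Subgroup H) ∣ 24 := hcard ▸ Subgroup.card_subgroup_dvd_card _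
    rw [hj] at h1 h2 ⊢
    have hj4 : j < 4 := by
      by_contra h4
      have := (pow_dvd_pow 2 (Nat.le_of_not_lt h4)).trans h2
      norm_num at this
    have : 3 ≤ j := (Nat.pow_dvd_pow_iff_le_right (by norm_num)).mp h1
    rw [show j = 3 by omega]; norm_num
  have hidx : (P : Subgroup H).index = 3 := by
    have := (P : Subgroup H).index_mul_card
    rw [hP8, hcard] at this; omega
  -- the Sylow subgroup is normal
  have hsub : Subsingleton (Sylow 2 H) := by
    by_contra hns
    have hn3 : Nat.card (Sylow 2 H) = 3 := by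
      have hd : Nat.card (Sylow 2 H) ∣ 3 := hidx ▸ P.card_dvd_index
      exact ((Nat.dvd_prime Nat.prime_three).mp hd).resolve_left fun h => hns (Nat.card_eq_one_iff_unique.mp h).1
    haveI : Nontrivial (Sylow 2 H) := by rw [← Finite.one_lt_card_iff_nontrivial, hn3]; norm_num
    let f : H →* Equiv.Perm (Sylow 2 H) := MulAction.toPermHom H (Sylow 2 H)
    haveI := Fintype.ofFinite (Sylow 2 H)
    by_cases hs : ∃ g, Equiv.Perm.sign (f g) ≠ 1
    · refine hno ⟨(Equiv.Perm.sign.comp f).ker, inferInstance, ?_⟩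
      rw [Subgroup.index_ker, MonoidHom.range_eq_top.mpr, Subgroup.card_top, Nat.card_eq_fintype_card,
        Fintype.card_units_int]
      intro y
      obtain ⟨g, hg⟩ := hs
      rcases Int.units_eq_one_or y with rfl | rfl
      · exact ⟨1, map_one _⟩
      · exact ⟨g, (Int.units_eq_one_or _).resolve_left hg⟩
    · push Not at hs
      have hA : f.range ≤ alternatingGroup (Sylow 2 H) := by
        rintro _ ⟨g, rfl⟩
        exact Equiv.Perm.mem_alternatingGroup.mpr (hs g)
      have hle : Nat.card f.range ≤ 3 := by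
        refine (Subgroup.card_le_of_le hA).trans ?_
        have := two_mul_nat_card_alternatingGroup (α := Sylow 2 H)
        rw [Nat.card_perm, hn3, show Nat.factorial 3 = 6 from rfl] at this
        omega
      have hkle : f.ker ≤ normalizer ((P : Subgroup H) : Set H) := fun k hk =>
        Sylow.smul_eq_iff_mem_normalizer.mp (Equiv.ext_iff.mp (MonoidHom.mem_ker.mp hk) P)
      have hN8 : Nat.card (normalizer ((P : Subgroup H) : Set H)) = 8 := by
        have h1 := (normalizer ((P : Subgroup H) : Set H)).index_mul_card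
        have h2 : Nat.card (Sylow 2 H) = (normalizer ((P : Subgroup H) : Set H)).index := P.card_eq_index_normalizer
        rw [hn3] at h2
        rw [hcard, ← h2] at h1
        omega
      have hk8 : 8 ≤ Nat.card f.ker := by
        have := f.ker.index_mul_card
        rw [Subgroup.index_ker, hcard] at this
        nlinarith
      have e1 := Subgroup.eq_of_le_of_card_ge hkle (by omega)
      have e2 : (P : Subgroup H) = normalizer ((P : Subgroup H) : Set H) :=
        Subgroup.eq_of_le_of_card_ge Subgroup.le_normalizer (by omega)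
      haveI : (P : Subgroup H).Normal := by rw [e2, ← e1]; infer_instance
      exact hns (Sylow.unique_of_normal P inferInstance).instSubsingleton
  haveI hPn : (P : Subgroup H).Normal := Sylow.normal_of_subsingleton (P := P)
  obtain ⟨a, ha⟩ := exists_prime_orderOf_dvd_card' (G := H) 3 (by rw [hcard]; norm_num)
  have ha3 : a ^ 3 = 1 := ha ▸ pow_orderOf_eq_one a
  set ψ : MulAut (P : Subgroup H) := MulAut.conjNormal a with hψ
  have hψ3 : ψ ^ 3 = 1 := by rw [hψ, ← map_pow, ha3, map_one]
  have hψodd : Odd (orderOf ψ) := (show Odd 3 by decide).of_dvd_nat (orderOf_dvd_of_pow_eq_one hψ3)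
  have hψapp : ∀ x : (P : Subgroup H), (ψ x : H) = a * x * a⁻¹ := fun x => MulAut.conjNormal_apply a x
  have hψne : ψ ≠ 1 := by
    intro h1
    have hc : ∀ x : (P : Subgroup H), Commute a (x : H) := fun x => by
      have := hψapp x
      rw [h1, MulAut.one_apply] at this
      exact mul_inv_eq_iff_eq_mul.mp this.symm
    set A : Subgroup H := zpowers a with hAdef
    have hA3 : Nat.card A = 3 := by rw [Nat.card_zpowers, ha]
    have hdisj : (Nat.card A).Coprime (Nat.card (P : Subgroup H)) := by rw [hA3, hP8]; norm_num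
    have hPA := Subgroup.isComplement'_of_coprime (H := A) (K := (P : Subgroup H))
      (by rw [hA3, hP8, hcard]) hdisj
    haveI : A.Normal := ⟨by
      intro n hn g
      obtain ⟨⟨⟨u, hu⟩, ⟨w, hw⟩⟩, hg⟩ := hPA.2 g
      simp only at hg
      obtain ⟨i, rfl⟩ := mem_zpowers_iff.mp hn
      obtain ⟨k, rfl⟩ := mem_zpowers_iff.mp hu
      subst hg
      have hw' : Commute w (a ^ i) := ((hc ⟨w, hw⟩).symm).zpow_right i
      rw [mul_inv_rev, show a ^ k * w * a ^ i * (w⁻¹ * (a ^ k)⁻¹) = a ^ k * (w * a ^ i * w⁻¹) * (a ^ k)⁻¹ by group,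
        hw'.eq, mul_inv_cancel_right]
      exact mul_mem (mul_mem (zpow_mem (mem_zpowers a) _) (zpow_mem (mem_zpowers a) _))
        (inv_mem (zpow_mem (mem_zpowers a) _))⟩
    have hA8 : A.index = 8 := by
      have := A.index_mul_card
      rw [hA3, hcard] at this; omega
    haveI : Nontrivial (H ⧸ A) := by
      rw [← Finite.one_lt_card_iff_nontrivial, ← Subgroup.index_eq_card, hA8]; norm_num
    exact hno ((hasIndexTwo_of_isPGroup (IsPGroup.of_card (n := 3)
      (by rw [← Subgroup.index_eq_card, hA8]; norm_num))).comap (QuotientGroup.mk' A)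
      (QuotientGroup.mk'_surjective A))
  rcases (hFC.subgroup (P : Subgroup H)).two_group P.2 with hc | ⟨n, ⟨e⟩⟩
  · exfalso
    haveI : IsCyclic (⊤ : Subgroup (P : Subgroup H)) := topEquiv.isCyclic.mpr hc
    exact hψne (eq_one_of_stable P.2 (C := ⊤) (fun x y hx _ => absurd (mem_top x) hx) ψ hψodd
      (Subgroup.map_top_of_surjective _ ψ.surjective))
  obtain rfl : n = 1 := quaternion_n_eq_one e ψ hψodd hψne
  let φ : QuaternionGroup 2 ≃* QuaternionGroup 2 := e.symm.trans ((ψ : (P : Subgroup H) ≃* _).trans e)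
  have hφ3 : ∀ u, φ (φ (φ u)) = u := by
    intro u
    show e (ψ (e.symm (e (ψ (e.symm (e (ψ (e.symm u)))))))) = u
    rw [e.symm_apply_apply, e.symm_apply_apply, ← MulAut.mul_apply, ← MulAut.mul_apply,
      show ψ * ψ * ψ = ψ ^ 3 by rw [pow_three'], hψ3, MulAut.one_apply, e.apply_symm_apply]
  obtain ⟨-, -, ⟨-, -, -, -, t5, -⟩, tinv⟩ := q8_table
  obtain ⟨u, hu2, huφ⟩ : ∃ u, u * u ≠ 1 ∧ φ u ≠ u := by
    by_contra hall
    push Not at hall
    refine hψne (MulEquiv.ext fun x => e.injective ?_)
    rw [MulAut.one_apply]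
    have hfix : φ (e x) = e x := by
      by_cases h : e x * e x = 1
      · rcases tinv _ h with h' | h'
        · rw [h', map_one]
        · rw [h']
          rcases tinv (φ (QuaternionGroup.a 2)) (by rw [← map_mul, ← h', h, map_one]) with h'' | h''
          · exact absurd (φ.injective (h''.trans (map_one φ).symm)) t5
          · exact h''
      · exact hall _ h
    calc e (ψ x) = φ (e x) := by simp [φ]
      _ = e x := hfix
  set j := φ u with hj
  set k := φ j with hk
  have hku : φ k = u := hφ3 u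
  have hj2 : j * j ≠ 1 := fun h => hu2 (φ.injective (by rw [map_mul, map_one]; exact h))
  have huj : u * j ≠ j * u := by
    intro h
    rcases q8_comm u j hu2 hj2 h with h' | h'
    · exact huφ h'
    · have hk' : k = u := by rw [hk, h', map_inv, ← hj, h', inv_inv]
      exact huφ (by rw [hk'] at hku; exact hku)
  have hjk : j * k ≠ k * j := fun h => huj (φ.injective (by rw [map_mul, map_mul]; exact h))
  have hki : k * u ≠ u * k := by
    intro h
    exact hjk (φ.injective (by rw [map_mul, map_mul, ← hk, hku]; exact h))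
  obtain ⟨hbr, hnc⟩ := q8_braid u j k hu2 huj hjk hki
  set r : (P : Subgroup H) := e.symm u with hr
  set d : (P : Subgroup H) := r * (ψ r)⁻¹ with hd
  have eψ : ∀ x, e (ψ x) = φ (e x) := fun x => by simp [φ]
  have hed : e d = u * j⁻¹ := by rw [hd, map_mul, map_inv, eψ, hr, e.apply_symm_apply]
  have heψd : e (ψ d) = j * k⁻¹ := by rw [eψ, hed, map_mul, map_inv, ← hj, ← hk]
  have heψψd : e (ψ (ψ d)) = k * u⁻¹ := by rw [eψ, heψd, map_mul, map_inv, ← hk, hku]
  have hbraid : ψ d = d * ψ (ψ d) := e.injective (by rw [map_mul e d (ψ (ψ d)), heψψd, heψd, hed, hbr])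
  set c : H := (r : H) * a * (r : H)⁻¹ with hcdef
  have hcd : c = (d : H) * a := by
    rw [hcdef, hd, Subgroup.coe_mul, Subgroup.coe_inv, hψapp]; group
  have hc3 : c ^ 3 = 1 := by rw [hcdef, conj_pow, ha3, mul_one, mul_inv_cancel]
  have hb : a * c * a = c * a * c := by
    have h1 : a * c * a = (ψ d : H) * a ^ 3 := by rw [hcd, hψapp, pow_three]; group
    have h2 : c * a * c = (d : H) * (ψ (ψ d) : H) * a ^ 3 := by rw [hcd, hψapp, hψapp, pow_three]; group
    rw [h1, h2, ha3, mul_one, mul_one, ← Subgroup.coe_mul, ← hbraid]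
  have hclosure : closure ({a, c} : Set H) = ⊤ := by
    have hca : a ∈ closure ({a, c} : Set H) := subset_closure (Or.inl rfl)
    have hcc : c ∈ closure ({a, c} : Set H) := subset_closure (Or.inr rfl)
    have hdm : (d : H) ∈ closure ({a, c} : Set H) := by
      rw [show (d : H) = c * a⁻¹ by rw [hcd, mul_inv_cancel_right]]
      exact mul_mem hcc (inv_mem hca)
    have hψdm : (ψ d : H) ∈ closure ({a, c} : Set H) := by
      rw [hψapp]; exact mul_mem (mul_mem hca hdm) (inv_mem hca)
    have hPle : (P : Subgroup H) ≤ closure ({a, c} : Set H) := by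
      intro x hx
      obtain ⟨s, t, hst⟩ := q8_gen (e d) (e (ψ d)) (by rw [hed, heψd]; exact hnc) (e ⟨x, hx⟩)
      rw [← map_pow, ← map_pow, ← map_mul] at hst
      have := congrArg Subtype.val (e.injective hst)
      rw [show x = ((⟨x, hx⟩ : (P : Subgroup H)) : H) from rfl, this, Subgroup.coe_mul, Subgroup.coe_pow,
        Subgroup.coe_pow]
      exact mul_mem (pow_mem hdm _) (pow_mem hψdm _)
    refine Subgroup.eq_top_of_card_eq _ (le_antisymm (Subgroup.card_le_card_group _) ?_)
    refine Nat.le_of_dvd Nat.card_pos ?_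
    rw [hcard, show 24 = 8 * 3 from rfl]
    refine Nat.Coprime.mul_dvd_of_dvd_of_dvd (by norm_num) (hP8 ▸ Subgroup.card_dvd_of_le hPle) ?_
    exact ha ▸ Subgroup.orderOf_dvd_natCard _ hca
  -- the homomorphism
  obtain ⟨hu3, hl3, hbul⟩ := gu3_gl3
  set nn := gu3 * gl3 * gu3 with hnn
  set m := a * c * a with hm
  have hprod : ∀ w, RootLib.smallWord3 ((gu3, a) : _ × H) (nn, m) w =
      (RootLib.smallWord3 gu3 nn w, RootLib.smallWord3 a m w) :=
    fun w => by simp [RootLib.smallWord3, RootLib.smallWord_prod]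
  obtain ⟨F, hF⟩ := RootLib.exists_hom_of_words (K := Matrix.SpecialLinearGroup (Fin 2) (ZMod 3)) (X := H)
    (RootLib.smallWord3 gu3 nn) (RootLib.smallWord3 a m) {(gu3, a), (gl3, c)}
    (fun g hg => by
      obtain ⟨w, hw⟩ := RootLib.three_word_closed (a := ((gu3, a) : _ × H)) (c := (gl3, c))
        (Prod.ext hu3 ha3) (Prod.ext hl3 hc3) (Prod.ext hbul hb) hg
      exact ⟨w, by rw [← hw]; exact (hprod w).symm⟩)
    (fun w => by
      rw [← hprod]
      have hua : ((gu3, a) : Matrix.SpecialLinearGroup (Fin 2) (ZMod 3) × H) ∈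
          closure {((gu3, a) : Matrix.SpecialLinearGroup (Fin 2) (ZMod 3) × H), (gl3, c)} :=
        subset_closure (Or.inl rfl)
      have hlc : ((gl3, c) : Matrix.SpecialLinearGroup (Fin 2) (ZMod 3) × H) ∈
          closure {((gu3, a) : Matrix.SpecialLinearGroup (Fin 2) (ZMod 3) × H), (gl3, c)} :=
        subset_closure (Or.inr rfl)
      exact mul_mem (RootLib.smallWord_mem hua hlc w.1)
        (pow_mem (mul_mem (mul_mem (mul_mem hua hlc) hua) (mul_mem (mul_mem hua hlc) hua)) _))
    gu3_bij
  have hsurj : Function.Surjective F := fun x => by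
    obtain ⟨w, hw⟩ := RootLib.three_word_closed ha3 hc3 hb (hclosure ▸ mem_top x)
    exact ⟨_, (hF w).trans hw⟩
  exact ⟨(MulEquiv.ofBijective F
    ((Nat.bijective_iff_surjective_and_card F).mpr ⟨hsurj, by rw [card_SL23, hcard]⟩)).symm⟩

end Cfsg.Agent.Zassenhaus
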