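import Cfsg.Agent.Lib.Zassenhaus.SixTypes
import Cfsg.Agent.Lib.Zassenhaus.KernelSquare
import Cfsg.Agent.Lib.Zassenhaus.Regular
import Cfsg.Agent.Lib.Zassenhaus.Sl23

/-!
Solvable linear groups regular on the nonzero vectors: subgroups of index two.
-/

set_option autoImplicit false

namespace Cfsg.Agent.Zassenhaus

open Subgroup

theorem commutator_le_centralizer_of_cyclic {G : Type*} [Group G] (A : Subgroup G) [A.Normal]
    [IsCyclic A] : commutator G ≤ centralizer (A : Set G) := by
  letI : CommGroup (MulAut A) :=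
    { (inferInstance : Group (MulAut A)) with
      mul_comm := fun f g => by
        apply (IsCyclic.mulAutMulEquiv A).injective
        rw [map_mul, map_mul, mul_comm] }
  intro c hc
  have h := MonoidHom.mem_ker.mp (Abelianization.commutator_subset_ker (MulAut.conjNormal (H := A)) hc)
  refine mem_centralizer_iff.mpr fun a ha => ?_
  have := congrArg Subtype.val (DFunLike.congr_fun h ⟨a, ha⟩)
  simp only [MulAut.conjNormal_apply, MulAut.one_apply] at this
  exact (mul_inv_eq_iff_eq_mul.mp this).symm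

theorem conj_pow_fixed {G : Type*} [Group G] {r o c : G} (h1 : r * o * r⁻¹ = o * c)
    (h2 : Commute r c) : ∀ k : ℕ, r ^ k * o * (r ^ k)⁻¹ = o * c ^ k := by
  intro k
  induction k with
  | zero => simp
  | succ k ih =>
    calc r ^ (k + 1) * o * (r ^ (k + 1))⁻¹ = r * (r ^ k * o * (r ^ k)⁻¹) * r⁻¹ := by
          rw [pow_succ']; group
      _ = (r * o * r⁻¹) * (r * c ^ k * r⁻¹) := by rw [ih]; group
      _ = o * c * c ^ k := by rw [h1, (h2.pow_right k).eq, mul_inv_cancel_right]
      _ = o * c ^ (k + 1) := by rw [pow_succ']; group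

theorem arith_solvable {Q0 M : ℕ} (hQodd : Odd Q0) (hM : Odd M) (hd : M ∣ Q0 - 1)
    (he : 24 * M = Q0 * Q0 - 1) : (Q0 = 5 ∧ M = 1) ∨ (Q0 = 11 ∧ M = 5) := by
  obtain ⟨c, hc⟩ := hd
  have h1 : 1 ≤ Q0 := hQodd.pos
  have hM0 : 0 < M := hM.pos
  have hkey : (Q0 + 1) * c = 24 := by
    have e1 : Q0 * Q0 - 1 = (Q0 + 1) * (Q0 - 1) := by
      rcases Q0 with _ | r
      · omega
      · simp only [Nat.add_sub_cancel]; ring_nf; omega
    rw [e1, hc, ← mul_assoc, mul_comm (Q0 + 1) M, mul_assoc, mul_comm 24 M] at he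
    exact (Nat.eq_of_mul_eq_mul_left hM0 he).symm
  have hc0 : 0 < c := by
    rcases Nat.eq_zero_or_pos c with h | h
    · rw [h, mul_zero] at hkey; omega
    · exact h
  have hle : Q0 ≤ 23 := by
    have : Q0 + 1 ≤ (Q0 + 1) * c := Nat.le_mul_of_pos_right _ hc0
    omega
  obtain ⟨s, hs⟩ := hQodd
  obtain ⟨t, ht⟩ := hM
  interval_cases Q0 <;> omega

variable {q : ℕ} [Fact q.Prime] {V : Type*} [AddCommGroup V] [Module (ZMod q) V] [Finite V] [Nontrivial V]
  {G : Type*} [Group G] [Finite G] (ρ : G →* (V ≃ₗ[ZMod q] V))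

theorem regular_card (htrans : ∀ v w : V, v ≠ 0 → w ≠ 0 → ∃ g : G, ρ g v = w)
    (hreg : ∀ v : V, v ≠ 0 → ∀ g : G, ρ g v = v → g = 1) : Nat.card G = Nat.card V - 1 := by
  classical
  obtain ⟨v0, hv0⟩ := exists_ne (0 : V)
  haveI := Fintype.ofFinite V
  rw [Nat.card_eq_of_bijective (fun g : G => (⟨ρ g v0, fun e => hv0 ((ρ g).map_eq_zero_iff.mp e)⟩ :
      {v : V // v ≠ 0})) ⟨fun a b e => ?_, fun ⟨w, hw⟩ => ?_⟩, Nat.card_eq_fintype_card,
    Fintype.card_subtype_compl, Fintype.card_subtype_eq, Nat.card_eq_fintype_card]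
  · have e' : ρ a v0 = ρ b v0 := congrArg Subtype.val e
    refine (inv_mul_eq_one.mp (hreg v0 hv0 (b⁻¹ * a) ?_)).symm
    rw [map_mul, LinearEquiv.mul_apply, e', ← LinearEquiv.mul_apply, ← map_mul, inv_mul_cancel, map_one]
    rfl
  · obtain ⟨g, hg⟩ := htrans v0 w hv0 hw
    exact ⟨g, Subtype.ext hg⟩

theorem regular_fc (hreg : ∀ v : V, v ≠ 0 → ∀ g : G, ρ g v = v → g = 1) : FC G := by
  let ψ : G →* MulAut (Multiplicative V) := MonoidHom.mk'
    (fun g => (AddEquiv.toMultiplicative (ρ g).toAddEquiv))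
    (fun a b => MulEquiv.ext fun v => by
      show Multiplicative.ofAdd (ρ (a * b) v.toAdd) = Multiplicative.ofAdd (ρ a (ρ b v.toAdd))
      rw [map_mul]; rfl)
  exact fc_of_action_elementary (W := Multiplicative V) (q := q)
    (fun w => Multiplicative.toAdd.injective (show q • w.toAdd = 0 by
      rw [← Nat.cast_smul_eq_nsmul (ZMod q), ZMod.natCast_self, zero_smul]))
    ψ fun g hg w hw => Multiplicative.toAdd.injective (by_contra fun hne =>
      hg (hreg w.toAdd hne g (congrArg Multiplicative.toAdd hw)))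

theorem regular_index_two [Group.IsSolvable G]
    (htrans : ∀ v w : V, v ≠ 0 → w ≠ 0 → ∃ g : G, ρ g v = w)
    (hreg : ∀ v : V, v ≠ 0 → ∀ g : G, ρ g v = v → g = 1) (hq : q ≠ 2) :
    HasIndexTwo G ∨ (Nat.card V = 25 ∧ Nonempty (G ≃* Matrix.SpecialLinearGroup (Fin 2) (ZMod 3))) ∨
      (Nat.card V = 121 ∧
        Nonempty (G ≃* Matrix.SpecialLinearGroup (Fin 2) (ZMod 3) × Multiplicative (ZMod 5))) := by
  classical
  haveI := Fact.mk Nat.prime_two
  haveI := Fact.mk Nat.prime_three
  by_cases hno : HasIndexTwo G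
  · exact Or.inl hno
  right
  have hqp : q.Prime := Fact.out
  have hFC := regular_fc ρ hreg
  have hcard := regular_card ρ htrans hreg
  obtain ⟨nV, hnV⟩ : ∃ n, Nat.card V = q ^ n :=
    ⟨_, (Module.natCard_eq_pow_finrank (K := ZMod q) (V := V)).trans (by rw [Nat.card_zmod])⟩
  have hV1 : 1 < Nat.card V := Finite.one_lt_card
  have hVodd : Odd (Nat.card V) := hnV ▸ (hqp.odd_of_ne_two hq).pow
  have hGeven : 2 ∣ Nat.card G := by
    obtain ⟨k, hk⟩ := hVodd
    omega
  set O := Cfsg.pPrimeCore 2 G with hOdef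
  have hOodd : (Nat.card O).Coprime 2 := Basics.pPrimeCore_coprime 2
  let π : G →* G ⧸ O := QuotientGroup.mk' O
  have hπ : Function.Surjective π := QuotientGroup.mk'_surjective O
  have hinj : ∀ S : Subgroup G, IsPGroup 2 S → Function.Injective (π.comp S.subtype) := fun S hS =>
    (injective_iff_map_eq_one _).mpr fun u hu => by
      have hm : (u : G) ∈ O := (QuotientGroup.eq_one_iff _).mp hu
      obtain ⟨j, hj⟩ := hS u
      exact Subtype.ext (orderOf_eq_one_iff.mp (Nat.eq_one_of_dvd_coprimes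
        (Nat.Coprime.pow_right j hOodd).symm (orderOf_dvd_of_pow_eq_one (congrArg Subtype.val hj))
        (Subgroup.orderOf_dvd_natCard O hm)))
  have h2 : TwoQuat (G ⧸ O) := by
    intro D hD
    obtain ⟨S⟩ := (inferInstance : Nonempty (Sylow 2 (D.comap π)))
    let S' : Subgroup G := (S : Subgroup (D.comap π)).map (D.comap π).subtype
    have hS' : IsPGroup 2 S' := S.2.map _
    have hle : S'.map π ≤ D := by
      rintro _ ⟨u, ⟨v, -, rfl⟩, rfl⟩
      exact v.2
    obtain ⟨j, hj⟩ := hD.exists_card_eq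
    have hc : Nat.card D ≤ Nat.card (S'.map π) := by
      have h1 : Nat.card (S'.map π) = Nat.card S' := by
        rw [Nat.card_congr (MonoidHom.ofInjective (hinj S' hS')).toEquiv, MonoidHom.range_comp,
          Subgroup.range_subtype]
      rw [h1, Subgroup.card_map_of_injective (D.comap π).subtype_injective, hj]
      refine Nat.le_of_dvd Nat.card_pos (S.pow_dvd_card_of_pow_dvd_card ?_)
      rw [Basics.card_comap_mk', hj]
      exact dvd_mul_left _ _
    have he : S'.map π = D := Subgroup.eq_of_le_of_card_ge hle hc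
    let e : S' ≃* D := (MonoidHom.ofInjective (hinj S' hS')).trans
      (MulEquiv.subgroupCongr (by rw [MonoidHom.range_comp, Subgroup.range_subtype, he]))
    rcases (hFC.subgroup S').two_group hS' with hc | ⟨n, ⟨q⟩⟩
    · exact Or.inl (e.isCyclic.mp hc)
    · exact Or.inr ⟨n, ⟨e.symm.trans q⟩⟩
  have hcore : Cfsg.pPrimeCore 2 (G ⧸ O) = ⊥ := Basics.pPrimeCore_quotient_eq_bot 2
  have hGO : Nat.card G = Nat.card (G ⧸ O) * Nat.card O := by
    rw [← Subgroup.index_eq_card, Subgroup.index_mul_card]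
  have hOo : Odd (Nat.card O) := Nat.coprime_two_right.mp hOodd
  have hp : ¬ IsPGroup 2 (G ⧸ O) := by
    intro hp
    haveI : Nontrivial (G ⧸ O) := by
      rw [← Finite.one_lt_card_iff_nontrivial]
      have h0 := Nat.card_pos (α := G ⧸ O)
      by_contra h1
      obtain ⟨k, hk⟩ := hOo
      rw [hGO, show Nat.card (G ⧸ O) = 1 by omega, one_mul] at hGeven
      omega
    exact hno ((hasIndexTwo_of_isPGroup hp).comap π hπ)
  obtain ⟨f, hfc, hfi, -, -⟩ := types_of_odd hcore h2 hp
  have hfi2 : f.range.index = 2 := by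
    have hi := f.range.index_ne_zero_of_finite
    rcases (show f.range.index = 1 ∨ f.range.index = 2 by omega) with h | h
    · exfalso
      have hs : Function.Surjective (Equiv.Perm.sign.comp f) :=
        (Equiv.Perm.sign_surjective (Fin 4)).comp (MonoidHom.range_eq_top.mp (Subgroup.index_eq_one.mp h))
      refine hno (HasIndexTwo.comap ⟨(Equiv.Perm.sign.comp f).ker, inferInstance, ?_⟩ π hπ)
      rw [Subgroup.index_ker, MonoidHom.range_eq_top.mpr hs, Subgroup.card_top, Nat.card_eq_fintype_card,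
        Fintype.card_units_int]
    · exact h
  have hA := Equiv.Perm.eq_alternatingGroup_of_index_eq_two hfi2
  have hQ24 : Nat.card (G ⧸ O) = 24 := by
    rw [← Subgroup.index_mul_card f.ker, Subgroup.index_ker, hfc, hA, card_A4]
  set M := Nat.card O with hMdef
  rw [hQ24] at hGO
  -- a Sylow 2-subgroup
  obtain ⟨R⟩ := (inferInstance : Nonempty (Sylow 2 G))
  have hR8 : Nat.card (R : Subgroup G) = 8 := by
    obtain ⟨j, hj⟩ := R.2.exists_card_eq
    have h1 : 2 ^ 3 ∣ Nat.card (R : Subgroup G) :=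
      R.pow_dvd_card_of_pow_dvd_card (by rw [hGO]; exact dvd_mul_of_dvd_left (by norm_num) _)
    have h3 : Nat.card (R : Subgroup G) ∣ 24 * M := hGO ▸ Subgroup.card_subgroup_dvd_card _
    rw [hj] at h1 h3 ⊢
    have h4 : 2 ^ j ∣ 24 := (Nat.Coprime.dvd_mul_right (Nat.Coprime.pow_left j hOodd.symm)).mp h3
    have hj4 : j < 4 := by
      by_contra hc
      have := (pow_dvd_pow 2 (Nat.le_of_not_lt hc)).trans h4
      norm_num at this
    have : 3 ≤ j := (Nat.pow_dvd_pow_iff_le_right (by norm_num)).mp h1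
    rw [show j = 3 by omega]; norm_num
  have hRcomm : (R : Subgroup G) ≤ commutator G := by
    intro r hr
    rw [← Abelianization.ker_of (G := G), MonoidHom.mem_ker]
    obtain ⟨k, hk⟩ := R.2 ⟨r, hr⟩
    have hk' : r ^ 2 ^ k = 1 := congrArg Subtype.val hk
    have hodd : ¬ 2 ∣ Nat.card (Abelianization G) := fun h => hno (hasIndexTwo_of_abelianization h)
    refine orderOf_eq_one_iff.mp (Nat.eq_one_of_dvd_coprimes
      (Nat.Coprime.pow_left k ((Nat.prime_two.coprime_iff_not_dvd).mpr hodd))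
      (orderOf_dvd_of_pow_eq_one (by rw [← map_pow, hk', map_one])) (orderOf_dvd_natCard _))
  -- `R` centralises the core
  haveI hOz : IsZGroup O := ⟨fun p hp P => by
    haveI := Fact.mk hp
    by_cases h2' : p = 2
    · subst h2'
      obtain ⟨j, hj⟩ := P.2.exists_card_eq
      haveI : Subsingleton (P : Subgroup O) := Finite.card_le_one_iff_subsingleton.mp (by
        have hd : Nat.card (P : Subgroup O) ∣ M := Subgroup.card_subgroup_dvd_card _
        rw [hj] at hd ⊢
        exact le_of_eq (Nat.eq_one_of_dvd_coprimes (Nat.Coprime.pow_left j hOodd.symm) dvd_rfl hd))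
      infer_instance
    · exact (hFC.subgroup O).isCyclic_sylow h2' P⟩
  set O' : Subgroup G := (commutator O).map O.subtype with hO'
  haveI : O'.Normal := by rw [hO']; infer_instance
  haveI : IsCyclic O' := by
    haveI := IsZGroup.isCyclic_commutator O
    exact ((commutator O).equivMapOfInjective _ O.subtype_injective).isCyclic.mp inferInstance
  have hO'le : O' ≤ O := Subgroup.map_subtype_le _
  let π' : G →* G ⧸ O' := QuotientGroup.mk' O'
  haveI : (O.map π').Normal := Subgroup.Normal.map inferInstance π' (QuotientGroup.mk'_surjective O')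
  haveI : IsCyclic (O.map π') := by
    let g : Abelianization O →* G ⧸ O' := QuotientGroup.lift (commutator O) (π'.comp O.subtype)
      (fun x hx => (QuotientGroup.eq_one_iff _).mpr ⟨x, hx, rfl⟩)
    haveI : IsCyclic g.range := isCyclic_of_surjective g.rangeRestrict g.rangeRestrict_surjective
    refine Subgroup.isCyclic_of_le (H' := g.range) ?_
    rintro _ ⟨o, ho, rfl⟩
    exact ⟨Abelianization.of ⟨o, ho⟩, rfl⟩
  have hcentO : ∀ r ∈ (R : Subgroup G), ∀ o ∈ O, r * o = o * r := by
    intro r hr o ho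
    have hrc := hRcomm hr
    have hπr : π' r ∈ commutator (G ⧸ O') := by
      have h : π' r ∈ (commutator G).map π' := Subgroup.mem_map_of_mem _ hrc
      rw [_root_.commutator_def, Subgroup.map_commutator] at h
      exact Subgroup.commutator_mono le_top le_top h
    have h1 := mem_centralizer_iff.mp (commutator_le_centralizer_of_cyclic (O.map π') hπr) (π' o)
      (Subgroup.mem_map_of_mem _ ho)
    set c := o⁻¹ * (r * o * r⁻¹) with hc
    have hcm : c ∈ O' := by
      rw [← QuotientGroup.ker_mk' O', MonoidHom.mem_ker]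
      show π' c = 1
      rw [hc, map_mul, map_inv, map_mul, map_mul, map_inv, ← h1, mul_inv_cancel_right, inv_mul_cancel]
    have hrcc : Commute r c := (mem_centralizer_iff.mp (commutator_le_centralizer_of_cyclic O' hrc) c hcm).symm
    obtain ⟨k, hk⟩ := R.2 ⟨r, hr⟩
    have hk' : r ^ 2 ^ k = 1 := congrArg Subtype.val hk
    have hpow := conj_pow_fixed (show r * o * r⁻¹ = o * c by rw [hc, mul_inv_cancel_left]) hrcc (2 ^ k)
    rw [hk', inv_one, one_mul, mul_one] at hpow
    have hc1 : c = 1 := orderOf_eq_one_iff.mp (Nat.eq_one_of_dvd_coprimes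
      (Nat.Coprime.pow_left k hOodd.symm) (orderOf_dvd_of_pow_eq_one (mul_left_cancel (hpow.symm.trans (mul_one o).symm)))
      (Subgroup.orderOf_dvd_natCard O (hO'le hcm)))
    have := inv_mul_eq_one.mp (hc ▸ hc1)
    exact (mul_inv_eq_iff_eq_mul.mp this.symm)
  -- the Sylow subgroup is quaternion
  obtain ⟨nq, ⟨e⟩⟩ : ∃ n, Nonempty ((R : Subgroup G) ≃* QuaternionGroup (2 ^ n)) := by
    refine ((hFC.subgroup (R : Subgroup G)).two_group R.2).resolve_left fun hcy => ?_
    obtain ⟨r, hr⟩ := isCyclic_iff_exists_zpowers_eq_top.mp hcy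
    have ho : orderOf r = 8 := by rw [← Nat.card_zpowers, hr, Subgroup.card_top, hR8]
    set x := π (r : G) with hx
    have hxo : orderOf x = 8 := by
      rw [hx]
      exact (orderOf_injective (π.comp (R : Subgroup G).subtype) (hinj _ R.2) r).trans ho
    have hA4 : ∀ y : Equiv.Perm (Fin 4), Equiv.Perm.sign y = 1 → y ^ 8 = 1 → y ^ 2 = 1 := by decide +kernel
    have hy := hA4 (f x) (Equiv.Perm.mem_alternatingGroup.mp (hA.le ⟨x, rfl⟩))
      (by rw [← map_pow, ← hxo, pow_orderOf_eq_one, map_one])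
    have h4 : x ^ 4 = 1 := by
      have hk := pow_card_eq_one' (x := (⟨x ^ 2, by rw [MonoidHom.mem_ker, map_pow]; exact hy⟩ : f.ker))
      rw [hfc] at hk
      rw [show 4 = 2 * 2 from rfl, pow_mul]
      exact congrArg Subtype.val hk
    have := Nat.le_of_dvd (by norm_num) (orderOf_dvd_of_pow_eq_one h4)
    omega
  obtain rfl : nq = 1 := by
    haveI : NeZero (2 ^ nq) := ⟨by positivity⟩
    have h := Nat.card_congr e.toEquiv
    rw [hR8, Nat.card_eq_fintype_card, QuaternionGroup.card] at h
    have : 2 ^ nq = 2 ^ 1 := by omega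
    exact Nat.pow_right_injective le_rfl this
  obtain ⟨-, -, ⟨t1, t2, t3, t4, t5, -⟩, -⟩ := q8_table
  let T : G →* Module.End (ZMod q) V :=
    { toFun := fun g => ((ρ g : V ≃ₗ[ZMod q] V) : V →ₗ[ZMod q] V)
      map_one' := by rw [map_one]; rfl
      map_mul' := fun a b => by rw [map_mul]; rfl }
  let ι : QuaternionGroup 2 →* G := (R : Subgroup G).subtype.comp e.symm.toMonoidHom
  have hι : Function.Injective ι := (R : Subgroup G).subtype_injective.comp e.symm.injective
  have hz : T (ι (QuaternionGroup.a 2)) = -1 := by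
    refine LinearMap.ext fun v => ?_
    set z := ι (QuaternionGroup.a 2)
    have hz1 : z ≠ 1 := fun h => t5 (hι (h.trans (map_one ι).symm))
    have hzz : z * z = 1 := by rw [← map_mul, t4, map_one]
    have h1 : T z (T z v) = v := by rw [← Module.End.mul_apply, ← map_mul, hzz, map_one]; rfl
    by_contra hne
    refine hz1 (hreg (T z v + v) (fun e => hne ?_) z ?_)
    · rw [LinearMap.neg_apply, Module.End.one_apply]; exact eq_neg_of_add_eq_zero_left e
    · show T z (T z v + v) = _
      rw [map_add, h1, add_comm]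
  obtain ⟨Vp, hVp, hstab⟩ := eigen_split hq (T (ι (QuaternionGroup.a 1))) (T (ι (QuaternionGroup.xa 0)))
    (by rw [← map_mul, ← map_mul, t1, hz]) (by rw [← map_mul, ← map_mul, t2, hz])
    (by rw [← map_mul, ← map_mul, t3, map_mul, map_mul, hz, neg_one_mul, map_mul, map_mul])
  -- the core acts freely
  have hOstab : ∀ (o : O) (v : V), v ∈ Vp → T o v ∈ Vp := fun o v hv =>
    hstab (T o) (by
      show T (o : G) * T _ = T _ * T (o : G)
      rw [← map_mul, ← map_mul, show (o : G) * ι (QuaternionGroup.a 1) = ι (QuaternionGroup.a 1) * o from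
        (hcentO _ (e.symm (QuaternionGroup.a 1)).2 o o.2).symm]) (by
      show T (o : G) * T _ = T _ * T (o : G)
      rw [← map_mul, ← map_mul, show (o : G) * ι (QuaternionGroup.xa 0) = ι (QuaternionGroup.xa 0) * o from
        (hcentO _ (e.symm (QuaternionGroup.xa 0)).2 o o.2).symm]) v hv
  have hMdvd : M ∣ Nat.card Vp - 1 := by
    haveI := Fintype.ofFinite Vp
    let X := {v : Vp // v ≠ 0}
    letI : MulAction O X :=
      { smul := fun o v => ⟨⟨T o v.1.1, hOstab o _ v.1.2⟩, fun e => v.2 (Subtype.ext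
          ((ρ (o : G)).map_eq_zero_iff.mp (congrArg Subtype.val e)))⟩
        one_smul := fun v => Subtype.ext (Subtype.ext (by show T ((1 : O) : G) v.1.1 = _; simp))
        mul_smul := fun x y v => Subtype.ext (Subtype.ext (by
          show T ((x * y : O) : G) v.1.1 = T x (T y v.1.1)
          rw [Subgroup.coe_mul, map_mul]; rfl)) }
    have hd := card_dvd_of_free (M := O) (X := X) fun x v e => Subtype.ext (hreg v.1.1
      (fun e0 => v.2 (Subtype.ext e0)) x (congrArg (fun w : X => (w.1 : V)) e))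
    rwa [Nat.card_eq_fintype_card (α := X), Fintype.card_subtype_compl, Fintype.card_subtype_eq,
      ← Nat.card_eq_fintype_card] at hd
  have hQodd : Odd (Nat.card Vp) := by
    rw [hVp] at hVodd
    exact (Nat.odd_mul.mp hVodd).1
  have hrel : 24 * M = Nat.card Vp * Nat.card Vp - 1 := by rw [← hGO, hcard, hVp]
  rcases arith_solvable hQodd hOo hMdvd hrel with ⟨hQ, hM⟩ | ⟨hQ, hM⟩
  · exact Or.inl ⟨by rw [hVp, hQ], sl23_of_fc hFC (by rw [hGO, hM]) hno⟩
  -- the case of `121`
  refine Or.inr ⟨by rw [hVp, hQ], ?_⟩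
  haveI := Fact.mk (by norm_num : Nat.Prime 5)
  haveI : IsCyclic O := isCyclic_of_prime_card hM
  have hOcenter : O ≤ center G := by
    set c := MulAut.conjNormal (H := O) with hcdef
    have hle : (R : Subgroup G) ⊔ O ≤ c.ker := by
      refine sup_le (fun r hr => ?_) fun o ho => ?_ <;>
        refine MonoidHom.mem_ker.mpr (MulEquiv.ext fun u => Subtype.ext ?_) <;>
        rw [hcdef, MulAut.conjNormal_apply, MulAut.one_apply]
      · rw [hcentO r hr u u.2, mul_inv_cancel_right]
      · letI := IsCyclic.commGroup (α := O)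
        have := congrArg Subtype.val (mul_comm (⟨o, ho⟩ : O) u)
        simp only [Subgroup.coe_mul] at this
        rw [this, mul_inv_cancel_right]
    have h40 : 40 ∣ Nat.card c.ker :=
      Nat.Coprime.mul_dvd_of_dvd_of_dvd (show Nat.Coprime 8 5 by norm_num)
        (hR8 ▸ Subgroup.card_dvd_of_le (le_sup_left.trans hle))
        (hM ▸ Subgroup.card_dvd_of_le (le_sup_right.trans hle))
    have h4 : Nat.card c.range ∣ 4 := by
      refine (Subgroup.card_subgroup_dvd_card _).trans ?_
      rw [IsCyclic.card_mulAut, show Nat.card O = 5 from hM]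
      decide
    have h1 := c.ker.index_mul_card
    rw [Subgroup.index_ker, hGO, hM] at h1
    obtain ⟨k, hk⟩ := h40
    have h3 : Nat.card c.range ∣ 3 := ⟨k, by rw [hk] at h1; nlinarith⟩
    have hbot : c.range = ⊥ :=
      Subgroup.card_eq_one.mp (Nat.eq_one_of_dvd_coprimes (show Nat.Coprime 4 3 by norm_num) h4 h3)
    intro o ho
    refine mem_center_iff.mpr fun g => ?_
    have hg : c g = 1 := Subgroup.mem_bot.mp (hbot ▸ ⟨g, rfl⟩)
    have := congrArg Subtype.val (DFunLike.congr_fun hg ⟨o, ho⟩)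
    rw [hcdef, MulAut.conjNormal_apply, MulAut.one_apply] at this
    exact mul_inv_eq_iff_eq_mul.mp this
  obtain ⟨H, hH⟩ := Subgroup.exists_right_complement'_of_coprime (N := O)
    (by rw [Subgroup.index_eq_card, hQ24, show Nat.card O = 5 from hM]; norm_num)
  let eH : H ≃* G ⧸ O := (hH.symm.QuotientMulEquiv).symm
  obtain ⟨s⟩ := sl23_of_fc ((hFC.subgroup H).congr eH.symm) hQ24 fun h => hno (h.comap π hπ)
  let Φ : H × O →* G := MonoidHom.mk' (fun x => (x.1 : G) * x.2) (fun x y => by
    show ((x.1 * y.1 : H) : G) * ((x.2 * y.2 : O) : G) = x.1 * x.2 * (y.1 * y.2)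
    have h := mem_center_iff.mp (hOcenter x.2.2) (y.1 : G)
    rw [Subgroup.coe_mul, Subgroup.coe_mul, mul_assoc, ← mul_assoc (y.1 : G), h]
    simp only [mul_assoc])
  have hΦ : Function.Bijective Φ := hH.symm
  exact ⟨(MulEquiv.ofBijective Φ hΦ).symm.trans ((eH.trans s).prodCongr
    (mulEquivOfPrimeCardEq hM (by simp)))⟩

end Cfsg.Agent.Zassenhaus
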