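import Cfsg.Agent.Lib.Zassenhaus.FiveAction
import Cfsg.Agent.Lib.Zassenhaus.OddCore

/-!
Fixed-point-free groups are extensions of a Z-group by one of six groups.
-/

set_option autoImplicit false

namespace Cfsg.Agent.Zassenhaus

open Subgroup
open scoped Pointwise

variable {G : Type*} [Group G] [Finite G]

theorem not_solvable_A5 : ¬ Group.IsSolvable (alternatingGroup (Fin 5)) := fun h =>
  Equiv.Perm.not_isSolvable_fin_5 (by
    haveI := h
    exact Group.isSolvable_of_ker_le_range (alternatingGroup (Fin 5)).subtype Equiv.Perm.sign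
      (le_of_eq (by rw [Subgroup.range_subtype]; rfl)))

theorem isZGroup_iff_sylow {N : Subgroup G} :
    (∀ (p : ℕ) [Fact p.Prime] (P : Sylow p N), IsCyclic P) ↔ IsZGroup N :=
  ⟨fun h => ⟨fun p hp P => haveI := Fact.mk hp; h p P⟩, fun h p hp P => h.isZGroup p hp.out P⟩

theorem hasFour_not_zgroup {T : Type*} [Group T] [Finite T] (h : HasFour T) (f : G →* T)
    (hf : Function.Surjective f) : ¬ IsZGroup G := fun hG =>
  haveI := hG
  not_isZGroup_of_hasFour h (IsZGroup.of_surjective hf)

theorem IsType.not_isZGroup {K : Subgroup G} (h : IsType K) : ¬ IsZGroup G := by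
  rcases h with ⟨f, hf, -⟩ | ⟨f, hf, -⟩ | ⟨f, hf, -⟩ | ⟨f, hf, -⟩ | ⟨f, hf, -⟩
  exacts [hasFour_not_zgroup hasFour_V4 f hf, hasFour_not_zgroup hasFour_A4 f hf,
    hasFour_not_zgroup hasFour_S4 f hf, hasFour_not_zgroup hasFour_A5 f hf,
    hasFour_not_zgroup hasFour_S5 f hf]

/-- an odd normal subgroup maps trivially to a group in which conjugates of odd elements give involutions -/
theorem odd_normal_map_trivial {T : Type*} [Group T] [Finite T]
    (hT : ∀ x : T, x ≠ 1 → Odd (orderOf x) → ∃ g : T, x⁻¹ * (g * x * g⁻¹) ≠ 1 ∧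
      x⁻¹ * (g * x * g⁻¹) * (x⁻¹ * (g * x * g⁻¹)) = 1)
    (f : G →* T) (hf : Function.Surjective f) {O : Subgroup G} [O.Normal]
    (hO : (Nat.card O).Coprime 2) : O ≤ f.ker := by
  intro o ho
  rw [MonoidHom.mem_ker]
  by_contra hne
  haveI : (O.map f).Normal := Subgroup.Normal.map inferInstance f hf
  have hodd : ∀ y ∈ O.map f, Odd (orderOf y) := fun y hy =>
    (Nat.coprime_two_right.mp hO).of_dvd_nat
      ((Subgroup.orderOf_dvd_natCard _ hy).trans (Subgroup.card_map_dvd _ f))
  have hm : f o ∈ O.map f := Subgroup.mem_map_of_mem f ho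
  obtain ⟨g, hg1, hg2⟩ := hT (f o) hne (hodd _ hm)
  have hy : (f o)⁻¹ * (g * f o * g⁻¹) ∈ O.map f :=
    mul_mem (inv_mem hm) (Subgroup.Normal.conj_mem inferInstance _ hm g)
  refine hg1 (orderOf_eq_one_iff.mp (Nat.eq_one_of_dvd_coprimes (Nat.coprime_two_left.mpr (hodd _ hy))
    (orderOf_dvd_of_pow_eq_one (n := 2) (by rw [pow_two]; exact hg2)) dvd_rfl))

theorem odd_order_three {T : Type*} [Group T] [Finite T] {x : T} (hx : x ≠ 1) (ho : Odd (orderOf x))
    (hT : Nat.card T ∣ 24) : orderOf x = 3 := by
  have hd : orderOf x ∣ 8 * 3 := (orderOf_dvd_natCard x).trans hT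
  have h3 : orderOf x ∣ 3 :=
    (Nat.Coprime.dvd_mul_left (Nat.Coprime.pow_right 3 (Nat.coprime_two_right.mpr ho))).mp hd
  exact ((Nat.dvd_prime Nat.prime_three).mp h3).resolve_left
    (fun h => hx (orderOf_eq_one_iff.mp h))

/-- the solvable case -/
theorem six_types_solvable [Group.IsSolvable G] (hFC : FC G) (hnZ : ¬ IsZGroup G) :
    ∃ N : Subgroup G, (N.Normal ∧ IsZGroup N ∧ IsType N) ∧
      ∀ K : Subgroup G, K.Normal → IsZGroup K → IsType K → K = N := by
  classical
  haveI := Fact.mk Nat.prime_two
  set O := Cfsg.pPrimeCore 2 G with hOdef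
  have hOodd : (Nat.card O).Coprime 2 := Basics.pPrimeCore_coprime 2
  let π : G →* G ⧸ O := QuotientGroup.mk' O
  have hπ : Function.Surjective π := QuotientGroup.mk'_surjective O
  have hinj : ∀ S : Subgroup G, IsPGroup 2 S → Function.Injective (π.comp S.subtype) := fun S hS =>
    (injective_iff_map_eq_one _).mpr fun u hu => by
      have hm : (u : G) ∈ O := (QuotientGroup.eq_one_iff _).mp hu
      obtain ⟨j, hj⟩ := hS u
      exact Subtype.ext (orderOf_eq_one_iff.mp (Nat.eq_one_of_dvd_coprimes
        (Nat.Coprime.pow_right j hOodd).symm (orderOf_dvd_of_pow_eq_one (congrArg Subtype.val hj))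
        (Subgroup.orderOf_dvd_natCard O hm)))
  have h2 : TwoQuat (G ⧸ O) := by
    intro D hD
    obtain ⟨S⟩ := (inferInstance : Nonempty (Sylow 2 (D.comap π)))
    let S' : Subgroup G := (S : Subgroup (D.comap π)).map (D.comap π).subtype
    have hS' : IsPGroup 2 S' := S.2.map _
    have hle : S'.map π ≤ D := by
      rintro _ ⟨u, ⟨v, -, rfl⟩, rfl⟩
      exact v.2
    obtain ⟨j, hj⟩ := hD.exists_card_eq
    have hcard : Nat.card D ≤ Nat.card (S'.map π) := by
      have h1 : Nat.card (S'.map π) = Nat.card S' := by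
        rw [Nat.card_congr (MonoidHom.ofInjective (hinj S' hS')).toEquiv, MonoidHom.range_comp,
          Subgroup.range_subtype]
      rw [h1, Subgroup.card_map_of_injective (D.comap π).subtype_injective, hj]
      refine Nat.le_of_dvd Nat.card_pos (S.pow_dvd_card_of_pow_dvd_card ?_)
      rw [Basics.card_comap_mk', hj]
      exact dvd_mul_left _ _
    have he : S'.map π = D := Subgroup.eq_of_le_of_card_ge hle hcard
    let e : S' ≃* D := (MonoidHom.ofInjective (hinj S' hS')).trans
      (MulEquiv.subgroupCongr (by rw [MonoidHom.range_comp, Subgroup.range_subtype, he]))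
    rcases (hFC.subgroup S').two_group hS' with hc | ⟨n, ⟨q⟩⟩
    · exact Or.inl (e.isCyclic.mp hc)
    · exact Or.inr ⟨n, ⟨e.symm.trans q⟩⟩
  have hnc : TwoNoncyclic (G ⧸ O) := by
    by_contra hcon
    refine hnZ ⟨fun p hp P => ?_⟩
    haveI := Fact.mk hp
    by_cases hp2 : p = 2
    · subst hp2
      by_contra hP
      refine hcon ⟨(P : Subgroup G).map π, P.2.map π, fun hc => hP ?_⟩
      exact ((MonoidHom.ofInjective (hinj P P.2)).trans
        (MulEquiv.subgroupCongr (by rw [MonoidHom.range_comp, Subgroup.range_subtype]))).isCyclic.mpr hc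
    · exact hFC.isCyclic_sylow hp2 P
  have hcore : Cfsg.pPrimeCore 2 (G ⧸ O) = ⊥ := Basics.pPrimeCore_quotient_eq_bot 2
  have hzcomap : ∀ C : Subgroup (G ⧸ O), IsCyclic C → IsZGroup (C.comap π) := by
    intro C hC
    refine ⟨fun p hp P => ?_⟩
    haveI := Fact.mk hp
    by_cases hp2 : p = 2
    · subst hp2
      haveI := hC
      let S' : Subgroup G := (P : Subgroup (C.comap π)).map (C.comap π).subtype
      have hle : S'.map π ≤ C := by
        rintro _ ⟨u, ⟨v, -, rfl⟩, rfl⟩
        exact v.2
      haveI : IsCyclic (S'.map π) := Subgroup.isCyclic_of_le hle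
      haveI : IsCyclic S' := ((MonoidHom.ofInjective (hinj S' (P.2.map _))).trans
        (MulEquiv.subgroupCongr (by rw [MonoidHom.range_comp, Subgroup.range_subtype]))).isCyclic.mpr
          inferInstance
      exact ((P : Subgroup (C.comap π)).equivMapOfInjective _ (Subgroup.subtype_injective _)).isCyclic.mpr
        inferInstance
    · exact (hFC.subgroup _).isCyclic_sylow hp2 P
  have hker : ∀ {T : Type} [Group T] [Finite T] (f : G →* T) (K : Subgroup G), f.ker = K →
      Function.Surjective f → O ≤ K →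
      ∃ g : G ⧸ O →* T, Function.Surjective g ∧ g.ker = K.map π := by
    intro T _ _ f K hfK hf hOK
    refine ⟨QuotientGroup.lift O f (hfK ▸ hOK), fun y => ?_, ?_⟩
    · obtain ⟨x, rfl⟩ := hf y; exact ⟨π x, rfl⟩
    · rw [QuotientGroup.ker_lift, hfK]
  have hOK : ∀ K : Subgroup G, IsType K → O ≤ K := by
    intro K hK
    rcases hK with ⟨f, hf, rfl⟩ | ⟨f, hf, rfl⟩ | ⟨f, hf, rfl⟩ | ⟨f, hf, rfl⟩ | ⟨f, hf, rfl⟩
    · intro o ho
      rw [MonoidHom.mem_ker, ← orderOf_eq_one_iff]
      have h4 : orderOf (f o) ∣ 2 ^ 2 := (_root_.orderOf_dvd_natCard _).trans (by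
        rw [Nat.card_eq_fintype_card, DihedralGroup.card]; norm_num)
      exact Nat.eq_one_of_dvd_coprimes (Nat.Coprime.pow_right 2 hOodd).symm h4
        ((orderOf_map_dvd f o).trans (Subgroup.orderOf_dvd_natCard O ho))
    · refine odd_normal_map_trivial (fun x hx ho => no_odd_normal_A4 x hx fun h => ?_) f hf hOodd
      exact hx (orderOf_eq_one_iff.mp (Nat.eq_one_of_dvd_coprimes (Nat.coprime_two_left.mpr ho)
        (orderOf_dvd_of_pow_eq_one (n := 2) (by rw [pow_two]; exact h)) dvd_rfl))
    · refine odd_normal_map_trivial (fun x hx ho => no_odd_normal_S4 x hx ?_) f hf hOodd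
      have h3 := odd_order_three hx ho (by rw [Nat.card_perm, Nat.card_fin]; decide)
      rw [← pow_three', ← h3, pow_orderOf_eq_one]
    · exact absurd (Group.isSolvable_of_surjective hf) not_solvable_A5
    · exact absurd (Group.isSolvable_of_surjective hf) Equiv.Perm.not_isSolvable_fin_5
  have hnotsolv5 : ∀ K : Subgroup G, IsType K →
      (∃ f : G →* DihedralGroup 2, Function.Surjective f ∧ f.ker = K) ∨
      (∃ f : G →* alternatingGroup (Fin 4), Function.Surjective f ∧ f.ker = K) ∨
      (∃ f : G →* Equiv.Perm (Fin 4), Function.Surjective f ∧ f.ker = K) := by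
    intro K hK
    rcases hK with h | h | h | ⟨f, hf, rfl⟩ | ⟨f, hf, rfl⟩
    · exact Or.inl h
    · exact Or.inr (Or.inl h)
    · exact Or.inr (Or.inr h)
    · exact absurd (Group.isSolvable_of_surjective hf) not_solvable_A5
    · exact absurd (Group.isSolvable_of_surjective hf) Equiv.Perm.not_isSolvable_fin_5
  have hback : ∀ K : Subgroup G, O ≤ K → (K.map π).comap π = K := fun K h => by
    rw [Subgroup.comap_map_eq_self]; rw [QuotientGroup.ker_mk']; exact h
  by_cases hp : IsPGroup 2 (G ⧸ O)
  · obtain ⟨f, hf, hfc, huniq⟩ := types_of_two_group h2 hnc hp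
    refine ⟨f.ker.comap π, ⟨inferInstance, hzcomap _ hfc,
      Or.inl ⟨f.comp π, hf.comp hπ, (MonoidHom.comap_ker f π).symm⟩⟩, fun K hKn hKz hKt => ?_⟩
    haveI := hKn
    haveI : (K.map π).Normal := Subgroup.Normal.map inferInstance π hπ
    have hOle := hOK K hKt
    rw [← hback K hOle]
    congr 1
    obtain ⟨j, hj⟩ := hp.exists_card_eq
    have h2pow : ∀ {T : Type} [Group T] [Finite T] (g : G ⧸ O →* T), Function.Surjective g →
        ¬ 3 ∣ Nat.card T := by
      intro T _ _ g hg h3
      have h := h3.trans (Subgroup.card_dvd_of_surjective g hg)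
      rw [hj] at h
      have := Nat.prime_three.dvd_of_dvd_pow h
      norm_num at this
    rcases hnotsolv5 K hKt with ⟨g, hg, hgK⟩ | ⟨g, hg, hgK⟩ | ⟨g, hg, hgK⟩
    · obtain ⟨g', hg', hgK'⟩ := hker g K hgK hg hOle
      refine huniq _ ?_ fun q => ?_
      · rw [← hgK', Subgroup.index_ker, MonoidHom.range_eq_top.mpr hg', Subgroup.card_top,
          Nat.card_eq_fintype_card, DihedralGroup.card]
      · rw [← hgK', MonoidHom.mem_ker, map_mul]
        generalize g' q = y
        revert y
        decide +kernel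
    · obtain ⟨g', hg', -⟩ := hker g K hgK hg hOle
      exact absurd (card_A4 ▸ (by norm_num : 3 ∣ 12)) (h2pow g' hg')
    · obtain ⟨g', hg', -⟩ := hker g K hgK hg hOle
      exact absurd (by rw [Nat.card_perm, Nat.card_fin]; decide) (h2pow g' hg')
  · obtain ⟨f, hfc, hfi, hfz, huniq⟩ := types_of_odd hcore h2 hp
    haveI : IsCyclic f.ker := isCyclic_of_prime_card hfc
    refine ⟨f.ker.comap π, ⟨inferInstance, hzcomap _ inferInstance, ?_⟩, fun K hKn hKz hKt => ?_⟩
    · have hi := f.range.index_ne_zero_of_finite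
      rcases (show f.range.index = 1 ∨ f.range.index = 2 by omega) with h | h
      · exact Or.inr (Or.inr (Or.inl ⟨f.comp π,
          (MonoidHom.range_eq_top.mp (Subgroup.index_eq_one.mp h)).comp hπ,
          (MonoidHom.comap_ker f π).symm⟩))
      · have hA := Equiv.Perm.eq_alternatingGroup_of_index_eq_two h
        let g : G ⧸ O →* alternatingGroup (Fin 4) := f.codRestrict _ fun x =>
          hA.le (MonoidHom.mem_range.mpr ⟨x, rfl⟩)
        refine Or.inr (Or.inl ⟨g.comp π, ?_, ?_⟩)
        · refine Function.Surjective.comp (g := g) (f := π) (fun y => ?_) hπ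
          obtain ⟨x, hx⟩ : (y : Equiv.Perm (Fin 4)) ∈ f.range := hA.ge y.2
          exact ⟨x, Subtype.ext hx⟩
        · rw [← MonoidHom.comap_ker, MonoidHom.ker_codRestrict]
    · haveI := hKn
      haveI := hKz
      haveI : (K.map π).Normal := Subgroup.Normal.map inferInstance π hπ
      have hOle := hOK K hKt
      rw [← hback K hOle]
      congr 1
      have hle : K.map π ≤ f.ker := huniq _ (IsZGroup.of_surjective (f := π.subgroupMap K)
        (π.subgroupMap_surjective K))
      rcases (show Nat.card (K.map π) = 1 ∨ Nat.card (K.map π) = 2 by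
        have := Nat.le_of_dvd Nat.card_pos (Subgroup.card_dvd_of_le hle)
        have := Nat.card_pos (α := K.map π)
        omega) with h1 | h1
      swap
      · exact Subgroup.eq_of_le_of_card_ge hle (by rw [hfc, h1])
      exfalso
      rw [Subgroup.card_eq_one] at h1
      obtain ⟨y, hy⟩ := exists_prime_orderOf_dvd_card' (G := f.ker) 2 (by rw [hfc])
      have hy1 : (y : G ⧸ O) ≠ 1 := fun e => by
        rw [← Subgroup.orderOf_coe, e, orderOf_one] at hy; omega
      have hycen := mem_center_iff.mp (hfz y.2)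
      have contra : ∀ {T : Type} [Group T] [Finite T] (g : G →* T), Function.Surjective g → g.ker = K →
          (∀ x : T, x ≠ 1 → ∃ u, x * u ≠ u * x) → False := by
        intro T _ _ g hg hgK hT
        obtain ⟨g', hg', hgK'⟩ := hker g K hgK hg hOle
        rw [h1] at hgK'
        obtain ⟨u, hu⟩ := hT (g' y) (fun e => hy1
          ((MonoidHom.ker_eq_bot_iff g').mp hgK' (e.trans (map_one g').symm)))
        obtain ⟨v, rfl⟩ := hg' u
        exact hu (by rw [← map_mul, ← map_mul, hycen v])
      rcases hnotsolv5 K hKt with ⟨g, hg, hgK⟩ | ⟨g, hg, hgK⟩ | ⟨g, hg, hgK⟩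
      · obtain ⟨g', hg', hgK'⟩ := hker g K hgK hg hOle
        rw [h1] at hgK'
        refine hp (IsPGroup.of_card (n := 2) ?_)
        rw [Nat.card_eq_of_bijective g' ⟨(MonoidHom.ker_eq_bot_iff g').mp hgK', hg'⟩,
          Nat.card_eq_fintype_card, DihedralGroup.card]
        norm_num
      · exact contra g hg hgK no_central_A4
      · exact contra g hg hgK no_central_S4

/-- the nonsolvable case -/
theorem six_types_nonsolvable (hFC : FC G) (hns : ¬ Group.IsSolvable G) :
    ∃ N : Subgroup G, (N.Normal ∧ IsZGroup N ∧ IsType N) ∧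
      ∀ K : Subgroup G, K.Normal → IsZGroup K → IsType K → K = N := by
  classical
  haveI := Fact.mk Nat.prime_two
  obtain ⟨θ, -, hθ, hN, -, -, -, -, -, -⟩ := hFC.structure_of_nonsolvable hns
  haveI := hN
  obtain ⟨f, hf⟩ := exists_five_action θ hθ
  set C := centralizer (θ.range : Set G) with hC
  haveI : C.Normal := hf ▸ MonoidHom.normal_ker f
  have hNC : ∀ u : SL25, θ u ∈ C → u ∈ center SL25 := fun u hu => mem_center_iff.mpr fun w => hθ (by
    rw [map_mul, map_mul]; exact mem_centralizer_iff.mp hu (θ w) ⟨w, rfl⟩)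
  have hzc : ∀ u : SL25, u ∈ center SL25 → u ^ 2 = 1 := by
    intro u hu
    have h1 : orderOf (⟨u, hu⟩ : center SL25) ∣ 2 := by
      refine (_root_.orderOf_dvd_natCard _).trans ?_
      have := Nat.card_pos (α := center SL25)
      have := card_centre
      rcases (show Nat.card (center SL25) = 1 ∨ Nat.card (center SL25) = 2 by omega) with e | e <;> rw [e]
      norm_num
    exact congrArg Subtype.val (orderOf_dvd_iff_pow_eq_one.mp h1)
  have hCZ : IsZGroup C := by
    obtain ⟨i0, hi4, hi2⟩ := exists_order_four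
    set i := θ i0 with hidef
    set z := i * i with hz
    have hz1 : z ≠ 1 := fun e => hi2 (hθ (by rw [pow_two, map_mul, map_one, ← hidef]; exact e))
    have hz2 : z ^ 2 = 1 := by rw [hz, ← pow_two, ← pow_mul, hidef, ← map_pow, hi4, map_one]
    have htwo : ∀ x ∈ C, ∀ j : ℕ, x ^ 2 ^ j = 1 → x = 1 ∨ x = z := by
      intro x hx j
      induction j generalizing x with
      | zero => intro e; exact Or.inl (by simpa using e)
      | succ j ih =>
        intro e
        rw [pow_succ', pow_mul] at e
        rcases ih (x ^ 2) (pow_mem hx 2) e with e2 | e2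
        · by_cases hx1 : x = 1
          · exact Or.inl hx1
          · exact Or.inr (hFC.invol_unique hx1 e2 hz1 hz2)
        · exfalso
          have hxi : Commute i x := mem_centralizer_iff.mp hx i ⟨i0, rfl⟩
          have hsq : (i * x⁻¹) ^ 2 = 1 := by
            rw [hxi.inv_right.mul_pow, inv_pow, e2, pow_two, ← hz, mul_inv_cancel]
          have hiC : i ∈ C := by
            by_cases h1 : i * x⁻¹ = 1
            · rw [mul_inv_eq_one.mp h1]; exact hx
            · rw [mul_inv_eq_iff_eq_mul.mp (hFC.invol_unique h1 hsq hz1 hz2)]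
              exact mul_mem (e2 ▸ pow_mem hx 2) hx
          exact hi2 (hzc i0 (hNC i0 hiC))
    refine ⟨fun p hp P => ?_⟩
    haveI := Fact.mk hp
    by_cases hp2 : p = 2
    · subst hp2
      have hcard : Nat.card (P : Subgroup C) ≤ 2 := by
        refine (Nat.card_le_card_of_injective
          (fun u : (P : Subgroup C) => (⟨((u : C) : G), by
            obtain ⟨j, hj⟩ := P.2 u
            exact htwo _ (u : C).2 j (congrArg (fun w : (P : Subgroup C) => ((w : C) : G)) hj)⟩ :
            ({1, z} : Set G)))
          (fun u v e => Subtype.ext (Subtype.ext (congrArg Subtype.val e :)))).trans ?_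
        exact (Nat.card_coe_set_eq _).le.trans ((Set.ncard_insert_le _ _).trans (by simp))
      refine isCyclic_of_card_dvd_prime (p := 2) ?_
      have := Nat.card_pos (α := (P : Subgroup C))
      rcases (show Nat.card (P : Subgroup C) = 1 ∨ Nat.card (P : Subgroup C) = 2 by omega) with e | e <;>
        rw [e]
      norm_num
    · exact (hFC.subgroup C).isCyclic_sylow hp2 P
  -- the image
  have h60 : 60 ≤ Nat.card f.range := by
    have h1 : Nat.card (f.comp θ).ker ≤ 2 := by
      refine le_trans (Nat.le_of_dvd Nat.card_pos (Subgroup.card_dvd_of_le fun u hu => ?_)) card_centre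
      rw [MonoidHom.mem_ker, MonoidHom.comp_apply, ← MonoidHom.mem_ker, hf] at hu
      exact hNC u hu
    have h2 := Subgroup.index_mul_card (f.comp θ).ker
    rw [Subgroup.index_ker, card_SL25] at h2
    have h3 : Nat.card (f.comp θ).range ≤ Nat.card f.range :=
      Nat.le_of_dvd Nat.card_pos (Subgroup.card_dvd_of_le (by rintro _ ⟨u, rfl⟩; exact ⟨θ u, rfl⟩))
    have h4 : 120 ≤ Nat.card (f.comp θ).range * 2 := h2 ▸ Nat.mul_le_mul_left _ h1
    omega
  have hCidx : C.index = Nat.card f.range := by rw [← hf, Subgroup.index_ker]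
  have hr2 : f.range.index = 1 ∨ f.range.index = 2 := by
    have h := Subgroup.index_mul_card f.range
    rw [card_S5] at h
    have := f.range.index_ne_zero_of_finite
    have : f.range.index ≤ 2 := by nlinarith
    omega
  have hrange : Nat.card f.range = if f.range.index = 1 then 120 else 60 := by
    have h := Subgroup.index_mul_card f.range
    rw [card_S5] at h
    rcases hr2 with e | e <;> rw [e] at h ⊢ <;> simp at h ⊢ <;> omega
  have hCtype : IsType C := by
    rcases hr2 with h | h
    · exact Or.inr (Or.inr (Or.inr (Or.inr ⟨f, MonoidHom.range_eq_top.mp (Subgroup.index_eq_one.mp h), hf⟩)))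
    · have hA := Equiv.Perm.eq_alternatingGroup_of_index_eq_two h
      refine Or.inr (Or.inr (Or.inr (Or.inl ⟨f.codRestrict _ fun x =>
        hA.le (MonoidHom.mem_range.mpr ⟨x, rfl⟩), ?_, ?_⟩)))
      · intro y
        obtain ⟨x, hx⟩ : (y : Equiv.Perm (Fin 5)) ∈ f.range := hA.ge y.2
        exact ⟨x, Subtype.ext hx⟩
      · rw [MonoidHom.ker_codRestrict, hf]
  refine ⟨C, ⟨inferInstance, hCZ, hCtype⟩, fun K hKn hKz hKt => ?_⟩
  haveI := hKn
  haveI := hKz
  have hKs : Group.IsSolvable K := inferInstance
  -- `K` centralises the copy of `SL(2, 5)`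
  have hKC : K ≤ C := by
    let R : Subgroup SL25 := K.comap θ
    haveI : Group.IsSolvable R := Group.isSolvable_of_isSolvable_injective
      (f := ((θ.comp R.subtype).codRestrict K fun u => u.2)) (fun u v e =>
        Subtype.ext (hθ (congrArg Subtype.val e :)))
    have hR : R ≤ center SL25 := by
      let g : SL25 →* alternatingGroup (Fin 5) := (f.comp θ).codRestrict _ fun u => by
        rw [Equiv.Perm.mem_alternatingGroup]
        have hv : u ∈ Subgroup.closure ({genA, genB} : Set SL25) := closure_gen ▸ mem_top u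
        obtain ⟨⟨-, ha3⟩, ⟨-, hb3⟩, -, -⟩ := isPair_gen
        have hcube : ∀ x : SL25, x ^ 3 = 1 → Equiv.Perm.sign (f (θ x)) = 1 := fun x hx => by
          have h := congrArg (fun y => Equiv.Perm.sign (f (θ y))) hx
          simp only [map_pow, map_one] at h
          rcases Int.units_eq_one_or (Equiv.Perm.sign (f (θ x))) with e | e
          · exact e
          · rw [e] at h; exact absurd h (by decide)
        induction hv using closure_induction with
        | mem x hx =>
          rcases hx with rfl | rfl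
          exacts [hcube _ ha3, hcube _ hb3]
        | one => simp
        | mul x y _ _ hx hy =>
          simp only [MonoidHom.comp_apply, map_mul] at hx hy ⊢
          rw [hx, hy, one_mul]
        | inv x _ hx =>
          simp only [MonoidHom.comp_apply, map_inv] at hx ⊢
          rw [hx, inv_one]
      have hgker : g.ker ≤ center SL25 := fun u hu => by
        rw [MonoidHom.ker_codRestrict, MonoidHom.mem_ker, MonoidHom.comp_apply, ← MonoidHom.mem_ker, hf] at hu
        exact hNC u hu
      have hgs : Function.Surjective g := by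
        rw [← MonoidHom.range_eq_top]
        refine Subgroup.eq_top_of_le_card _ ?_
        have h2 := Subgroup.index_mul_card g.ker
        rw [Subgroup.index_ker, card_SL25] at h2
        have h1 : Nat.card g.ker ≤ 2 :=
          (Nat.le_of_dvd Nat.card_pos (Subgroup.card_dvd_of_le hgker)).trans card_centre
        rw [card_A5]
        have h4 : 120 ≤ Nat.card g.range * 2 := h2 ▸ Nat.mul_le_mul_left _ h1
        omega
      haveI : R.Normal := inferInstance
      haveI : (R.map g).Normal := Subgroup.Normal.map inferInstance g hgs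
      rcases (inferInstance : (R.map g).Normal).eq_bot_or_eq_top with h | h
      · exact ((Subgroup.map_eq_bot_iff R).mp h).trans hgker
      · exfalso
        refine not_solvable_A5 ?_
        haveI : Group.IsSolvable (R.map g) := Group.isSolvable_of_surjective (g.subgroupMap_surjective R)
        haveI : Group.IsSolvable (⊤ : Subgroup (alternatingGroup (Fin 5))) := h ▸ ‹_›
        exact Group.isSolvable_of_surjective (f := (⊤ : Subgroup (alternatingGroup (Fin 5))).subtype)
          fun y => ⟨⟨y, Subgroup.mem_top y⟩, rfl⟩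
    intro x hx
    obtain ⟨⟨-, ha3⟩, ⟨-, hb3⟩, -, -⟩ := isPair_gen
    have h3 : ∀ u : SL25, u ^ 3 = 1 → x * θ u = θ u * x := by
      intro u hu
      obtain ⟨w, hw⟩ := hN.conj_mem _ (MonoidHom.mem_range.mpr ⟨u, rfl⟩) x
      have hwu : w * u⁻¹ ∈ R := by
        show θ (w * u⁻¹) ∈ K
        rw [map_mul, map_inv, hw, show x * θ u * x⁻¹ * (θ u)⁻¹ = x * (θ u * x⁻¹ * (θ u)⁻¹) by group]
        exact mul_mem hx (hKn.conj_mem _ (inv_mem hx) _)
      set c := w * u⁻¹ with hc
      have hcen := hR hwu
      have hw' : w = c * u := by rw [hc, inv_mul_cancel_right]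
      have hw3 : w ^ 3 = 1 := hθ (by rw [map_pow, hw, conj_pow, ← map_pow, hu, map_one, mul_one, mul_inv_cancel])
      have hcu : Commute c u := (mem_center_iff.mp hcen u).symm
      rw [hw', hcu.mul_pow, hu, mul_one, pow_succ, hzc c hcen, one_mul] at hw3
      rw [hw', hw3, one_mul] at hw
      exact (mul_inv_eq_iff_eq_mul.mp hw.symm)
    refine mem_centralizer_iff.mpr ?_
    rintro _ ⟨u, rfl⟩
    have hv : u ∈ Subgroup.closure ({genA, genB} : Set SL25) := closure_gen ▸ mem_top u
    induction hv using closure_induction with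
    | mem y hy =>
      rcases hy with rfl | rfl
      exacts [(h3 _ ha3).symm, (h3 _ hb3).symm]
    | one => simp
    | mul y y' _ _ hy hy' =>
      rw [map_mul, mul_assoc, hy', ← mul_assoc, hy, mul_assoc]
    | inv y _ hy =>
      rw [map_inv]
      exact (Commute.inv_left hy).eq
  have hsmall : ∀ {T : Type} [Group T] [Finite T] (g : G →* T), g.ker = K → Nat.card T ∣ 24 → False := by
    intro T _ _ g hg hT
    have h1 := Subgroup.index_dvd_of_le hKC
    rw [← hg, Subgroup.index_ker, hCidx] at h1
    have h2 : Nat.card f.range ≤ 24 := Nat.le_of_dvd (by norm_num)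
      ((h1.trans (Subgroup.card_subgroup_dvd_card g.range)).trans hT)
    omega
  have hidxK : ∀ {T : Type} [Group T] [Finite T] (g : G →* T), Function.Surjective g → g.ker = K →
      K.index = Nat.card T := fun g hg hgK => by
    rw [← hgK, Subgroup.index_ker, MonoidHom.range_eq_top.mpr hg, Subgroup.card_top]
  have hfin : K.index ≤ C.index → K = C := fun h => by
    refine Subgroup.eq_of_le_of_card_ge hKC ?_
    have h1 := K.index_mul_card
    have h2 := C.index_mul_card
    have := Nat.card_pos (α := C)
    nlinarith [K.index_ne_zero_of_finite]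
  rcases hKt with ⟨g, hg, hgK⟩ | ⟨g, hg, hgK⟩ | ⟨g, hg, hgK⟩ | ⟨g, hg, hgK⟩ | ⟨g, hg, hgK⟩
  · exact (hsmall g hgK (by rw [Nat.card_eq_fintype_card, DihedralGroup.card]; norm_num)).elim
  · exact (hsmall g hgK (by rw [card_A4]; norm_num)).elim
  · exact (hsmall g hgK (by rw [Nat.card_perm, Nat.card_fin]; decide)).elim
  · exact hfin (by rw [hidxK g hg hgK, card_A5, hCidx]; exact h60)
  · by_contra hne
    have h120 : K.index = 120 := (hidxK g hg hgK).trans card_S5
    have hC60 : C.index = 60 := by
      rw [hCidx, hrange]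
      split
      · next h => exact absurd (hfin (by rw [h120, hCidx, hrange, if_pos h])) hne
      · rfl
    -- the image of `C` would be a central subgroup of order two
    have hmap : Nat.card (C.map g) = 2 := by
      have h1 : (C.map g).index = C.index := by
        rw [Subgroup.index_map_eq C hg (hgK ▸ hKC)]
      have h2 := Subgroup.index_mul_card (C.map g)
      rw [h1, hC60, card_S5] at h2
      omega
    haveI : (C.map g).Normal := Subgroup.Normal.map inferInstance g hg
    obtain ⟨y, hy⟩ := exists_prime_orderOf_dvd_card' (G := C.map g) 2 (by rw [hmap])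
    have hy1 : (y : Equiv.Perm (Fin 5)) ≠ 1 := fun e => by
      rw [← Subgroup.orderOf_coe, e, orderOf_one] at hy; omega
    obtain ⟨u, hu⟩ := no_central_S5 y hy1
    have huy : u * y * u⁻¹ ∈ C.map g := Subgroup.Normal.conj_mem inferInstance _ y.2 u
    have e2 : ∀ w : C.map g, (w : Equiv.Perm (Fin 5)) ≠ 1 → w = y := by
      intro w hw
      by_contra hwy
      have : ({1, y, w} : Finset (C.map g)).card ≤ 2 := by
        haveI := Fintype.ofFinite (C.map g)
        exact (Finset.card_le_univ _).trans (by rw [← Nat.card_eq_fintype_card, hmap])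
      rw [Finset.card_eq_three.mpr ⟨1, y, w, ?_, ?_, Ne.symm hwy, rfl⟩] at this
      · omega
      · exact fun e => hy1 (congrArg Subtype.val e.symm)
      · exact fun e => hw (congrArg Subtype.val e.symm)
    have h := congrArg Subtype.val (e2 ⟨_, huy⟩ (fun e => hy1 (conj_eq_one_iff.mp e)))
    exact hu (mul_inv_eq_iff_eq_mul.mp h).symm

/-- the six types -/
theorem six_types (hFC : FC G) : ∃! N : Subgroup G, N.Normal ∧ IsZGroup N ∧ (N = ⊤ ∨ IsType N) := by
  by_cases hZ : IsZGroup G
  · haveI := hZ
    exact ⟨⊤, ⟨inferInstance, IsZGroup.of_injective (f := (⊤ : Subgroup G).subtype)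
      (Subgroup.subtype_injective _), Or.inl rfl⟩,
      fun K ⟨_, _, h⟩ => h.resolve_right fun h' => h'.not_isZGroup hZ⟩
  have key : ∃ N : Subgroup G, (N.Normal ∧ IsZGroup N ∧ IsType N) ∧
      ∀ K : Subgroup G, K.Normal → IsZGroup K → IsType K → K = N := by
    by_cases hs : Group.IsSolvable G
    · exact six_types_solvable hFC hZ
    · exact six_types_nonsolvable hFC hs
  obtain ⟨N, ⟨h1, h2, h3⟩, hu⟩ := key
  refine ⟨N, ⟨h1, h2, Or.inr h3⟩, fun K ⟨k1, k2, k3⟩ => hu K k1 k2 (k3.resolve_left ?_)⟩
  rintro rfl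
  haveI := k2
  exact hZ (IsZGroup.of_surjective (f := (⊤ : Subgroup G).subtype) fun y => ⟨⟨y, Subgroup.mem_top y⟩, rfl⟩)

end Cfsg.Agent.Zassenhaus
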