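import Cfsg.Agent.Lib.Zassenhaus.Fpf

/-!
Finite fixed-point-free subgroups of `GL(2)`: counting poles.
-/

set_option autoImplicit false
set_option maxHeartbeats 800000

namespace Cfsg.Agent.Zassenhaus

open Module

variable {K : Type*} [Group K] [Finite K] {k : Type*} [Field k] [IsAlgClosed k]
  {W : Type*} [AddCommGroup W] [Module k W] [FiniteDimensional k W] {f : K →* Module.End k W}

theorem eq_one_of_fixed (hf : IsFpf f) {g : K} {v : W} (hv : v ≠ 0) (h : f g v = v) : g = 1 := by
  by_contra hne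
  obtain ⟨u, hu⟩ := hf g hne
  have h0 : (f g - 1) v = 0 := by simp [h]
  rw [← hu] at h0
  have h1 := congrArg (fun z => (↑u⁻¹ : Module.End k W) z) h0
  simp only [map_zero, ← Module.End.mul_apply, Units.inv_mul, Module.End.one_apply] at h1
  exact hv h1

theorem map_ne_zero_vec (hf : IsFpf f) (g : K) {v : W} (hv : v ≠ 0) : f g v ≠ 0 := fun h => by
  have := congrArg (f g⁻¹) h
  rw [← Module.End.mul_apply, ← map_mul, inv_mul_cancel, map_one, map_zero] at this
  exact hv this

theorem exists_two_eigen (hf : IsFpf f) (hdim : finrank k W = 2) (g : K) :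
    ∃ (v w : W) (a b : k), LinearIndependent k ![v, w] ∧ f g v = a • v ∧ f g w = b • w := by
  haveI : Nontrivial W := Module.nontrivial_of_finrank_eq_succ hdim
  obtain ⟨a, ha⟩ := Module.End.exists_eigenvalue (f g)
  obtain ⟨v, hv⟩ := ha.exists_hasEigenvector
  have hv1 : f g v = a • v := hv.apply_eq_smul
  obtain ⟨w, hw⟩ := exists_linearIndependent_pair_of_one_lt_finrank (R := k) (by omega) hv.2
  have hspan : Submodule.span k (Set.range ![v, w]) = ⊤ :=
    hw.span_eq_top_of_card_eq_finrank (by simp [hdim])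
  have hmem : f g w ∈ Submodule.span k (Set.range ![v, w]) := hspan ▸ Submodule.mem_top
  rw [Matrix.range_cons_cons_empty, Submodule.mem_span_pair] at hmem
  obtain ⟨c, b, hcb⟩ := hmem
  by_cases hab : a = b
  · subst hab
    have key : ∀ n : ℕ, (f g ^ n) w = a ^ n • w + (n * a ^ (n - 1) * c) • v := by
      intro n
      induction n with
      | zero => simp
      | succ n ih =>
        rw [pow_succ', Module.End.mul_apply, ih, map_add, map_smul, map_smul, ← hcb, hv1,
          Nat.succ_sub_one, Nat.cast_succ]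
        rcases n with _ | m
        · simp [add_comm]
        · simp only [Nat.succ_sub_one, Nat.cast_succ, pow_succ]
          module
    have hn := key (orderOf g)
    rw [← map_pow, pow_orderOf_eq_one, map_one, Module.End.one_apply] at hn
    have hpow : ∀ n : ℕ, (f g ^ n) v = a ^ n • v := by
      intro n
      induction n with
      | zero => simp
      | succ n ih =>
        rw [pow_succ', Module.End.mul_apply, ih, map_smul, hv1, smul_smul, pow_succ]
    have ha1 : a ^ orderOf g = 1 := by
      have h1 := hpow (orderOf g)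
      rw [← map_pow, pow_orderOf_eq_one, map_one, Module.End.one_apply] at h1
      exact (smul_left_injective k hv.2 ((one_smul k v).trans h1)).symm
    rw [ha1, one_smul, left_eq_add, smul_eq_zero] at hn
    have hc : c = 0 := by
      rcases hn.resolve_right hv.2 |> mul_eq_zero.mp with h | h
      · rcases mul_eq_zero.mp h with h | h
        · exact absurd h (hf.natCast_ne_zero (k := k) (orderOf_dvd_natCard g))
        · have : a = 0 := eq_zero_of_pow_eq_zero h
          rw [this, zero_pow (orderOf_pos g).ne'] at ha1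
          exact absurd ha1 zero_ne_one
      · exact h
    exact ⟨v, w, a, a, hw, hv1, by rw [← hcb, hc, zero_smul, zero_add]⟩
  · refine ⟨v, w + (c / (b - a)) • v, a, b, ?_, hv1, ?_⟩
    · rw [LinearIndependent.pair_iff] at hw ⊢
      intro s t hst
      have h1 : (s + t * (c / (b - a))) • v + t • w = 0 := by rw [← hst]; module
      obtain ⟨h2, h3⟩ := hw _ _ h1
      rw [h3, zero_mul, add_zero] at h2
      exact ⟨h2, h3⟩
    · have hba : b - a ≠ 0 := sub_ne_zero.mpr (Ne.symm hab)
      rw [map_add, map_smul, ← hcb, hv1, smul_smul, smul_add, smul_smul]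
      have e : b * (c / (b - a)) = c + c / (b - a) * a := by field_simp; ring
      rw [e, add_smul]
      abel

/-- `g` acts as a scalar -/
def IsScalar (f : K →* Module.End k W) (g : K) : Prop := ∃ c : k, f g = c • (1 : Module.End k W)

theorem eigvec_cases (hf : IsFpf f) (hdim : finrank k W = 2) {g : K} (hg : ¬ IsScalar f g) :
    ∃ v w : W, v ≠ 0 ∧ w ≠ 0 ∧ Submodule.span k {v} ≠ Submodule.span k {w} ∧
      (∃ a : k, f g v = a • v) ∧ (∃ b : k, f g w = b • w) ∧
      ∀ u : W, u ≠ 0 → (∃ c : k, f g u = c • u) →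
        Submodule.span k {u} = Submodule.span k {v} ∨ Submodule.span k {u} = Submodule.span k {w} := by
  obtain ⟨v, w, a, b, hli, hv, hw⟩ := exists_two_eigen hf hdim g
  have hspan : Submodule.span k (Set.range ![v, w]) = ⊤ :=
    hli.span_eq_top_of_card_eq_finrank (by simp [hdim])
  have hv0 : v ≠ 0 := hli.ne_zero 0
  have hw0 : w ≠ 0 := hli.ne_zero 1
  have hall : ∀ u : W, ∃ s t : k, s • v + t • w = u := fun u => by
    have : u ∈ Submodule.span k (Set.range ![v, w]) := hspan ▸ Submodule.mem_top
    rwa [Matrix.range_cons_cons_empty, Submodule.mem_span_pair] at this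
  have hab : a ≠ b := fun e => hg ⟨a, LinearMap.ext fun u => by
    obtain ⟨s, t, rfl⟩ := hall u
    rw [map_add, map_smul, map_smul, hv, hw, ← e, LinearMap.smul_apply, Module.End.one_apply]
    module⟩
  rw [LinearIndependent.pair_iff] at hli
  refine ⟨v, w, hv0, hw0, fun e => ?_, ⟨a, hv⟩, ⟨b, hw⟩, fun u hu ⟨c, hc⟩ => ?_⟩
  · have : v ∈ Submodule.span k {w} := e ▸ Submodule.mem_span_singleton_self v
    obtain ⟨s, hs⟩ := Submodule.mem_span_singleton.mp this
    exact one_ne_zero (hli 1 (-s) (by rw [one_smul, neg_smul, hs, add_neg_cancel])).1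
  · obtain ⟨s, t, rfl⟩ := hall u
    rw [map_add, map_smul, map_smul, hv, hw] at hc
    obtain ⟨h1, h2⟩ := hli (s * a - c * s) (t * b - c * t) (by linear_combination (norm := module) hc)
    by_cases hs : s = 0
    · right
      have ht : t ≠ 0 := fun e => hu (by simp [hs, e])
      rw [hs, zero_smul, zero_add, Submodule.span_singleton_smul_eq (Ne.isUnit ht)]
    · left
      have hc' : c = a := by
        have : s * (a - c) = 0 := by linear_combination h1
        exact (sub_eq_zero.mp ((mul_eq_zero.mp this).resolve_left hs)).symm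
      have ht : t = 0 := by
        have : t * (b - a) = 0 := by rw [hc'] at h2; linear_combination h2
        exact (mul_eq_zero.mp this).resolve_right (sub_ne_zero.mpr hab.symm)
      rw [ht, zero_smul, add_zero, Submodule.span_singleton_smul_eq (Ne.isUnit hs)]

theorem map_span (hf : IsFpf f) (h : K) (v : W) :
    (Submodule.span k {v}).map (f h) = Submodule.span k {f h v} := by
  rw [Submodule.map_span, Set.image_singleton]

/-- the poles -/
abbrev Pole (f : K →* Module.End k W) : Type _ :=
  {L : Submodule k W // ∃ (g : K) (v : W) (a : k), ¬ IsScalar f g ∧ v ≠ 0 ∧ f g v = a • v ∧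
    L = Submodule.span k {v}}

theorem isScalar_conj {h g : K} (hg : IsScalar f (h * g * h⁻¹)) : IsScalar f g := by
  obtain ⟨c, hc⟩ := hg
  refine ⟨c, ?_⟩
  have e : f g = f h⁻¹ * f (h * g * h⁻¹) * f h := by
    rw [← map_mul, ← map_mul]
    group
  rw [e, hc, mul_smul_comm, mul_one, smul_mul_assoc, ← map_mul, inv_mul_cancel, map_one]

@[reducible] noncomputable def poleAction (hf : IsFpf f) : MulAction K (Pole f) where
  smul h L := ⟨L.1.map (f h), by
    obtain ⟨g, v, a, hg, hv, hga, hL⟩ := L.2
    refine ⟨h * g * h⁻¹, f h v, a, fun e => hg (isScalar_conj e), map_ne_zero_vec hf h hv, ?_, ?_⟩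
    · rw [← Module.End.mul_apply, ← map_mul, inv_mul_cancel_right, map_mul, Module.End.mul_apply, hga,
        map_smul]
    · rw [hL, map_span hf]⟩
  one_smul L := Subtype.ext (by
    show L.1.map (f 1) = L.1
    rw [map_one]; exact Submodule.map_id _)
  mul_smul a b L := Subtype.ext (by
    show L.1.map (f (a * b)) = (L.1.map (f b)).map (f a)
    rw [map_mul]; exact Submodule.map_comp _ _ _)

theorem finite_pole (hf : IsFpf f) (hdim : finrank k W = 2) : Finite (Pole f) := by
  classical
  let F : {g : K // ¬ IsScalar f g} × Bool → Pole f := fun gb =>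
    let e := eigvec_cases hf hdim gb.1.2
    let v := e.choose
    let hw := e.choose_spec
    bif gb.2 then ⟨Submodule.span k {v}, gb.1.1, v, hw.choose_spec.2.2.2.1.choose, gb.1.2,
      hw.choose_spec.1, hw.choose_spec.2.2.2.1.choose_spec, rfl⟩
    else ⟨Submodule.span k {hw.choose}, gb.1.1, hw.choose, hw.choose_spec.2.2.2.2.1.choose, gb.1.2,
      hw.choose_spec.2.1, hw.choose_spec.2.2.2.2.1.choose_spec, rfl⟩
  refine Finite.of_surjective F fun L => ?_
  obtain ⟨g, u, a, hg, hu, hga, hL⟩ := L.2
  rcases (eigvec_cases hf hdim hg).choose_spec.choose_spec.2.2.2.2.2 u hu ⟨a, hga⟩ with h | h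
  · exact ⟨(⟨g, hg⟩, true), Subtype.ext (h.symm.trans hL.symm)⟩
  · exact ⟨(⟨g, hg⟩, false), Subtype.ext (h.symm.trans hL.symm)⟩

theorem orbit_equation_arith {g0 : ℕ} {q a : Fin 3 → ℕ} (hsum : q 0 + q 1 + q 2 = g0 + 2)
    (h : ∀ i, a i * q i = g0 ∧ 2 ≤ a i ∧ 3 ≤ q i) : (∀ i, a i ≤ 5) ∧ ∃ i, a i = 2 := by
  obtain ⟨e0, a0, q0⟩ := h 0
  obtain ⟨e1, a1, q1⟩ := h 1
  obtain ⟨e2, a2, q2⟩ := h 2
  have bnd : ∀ i, a i = 2 ∧ 2 * q i = g0 ∨ 3 * q i ≤ g0 ∧ 3 ≤ a i := by
    intro i
    obtain ⟨e, ha, hq⟩ := h i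
    rcases Nat.lt_or_ge (a i) 3 with h' | h'
    · have : a i = 2 := by omega
      exact Or.inl ⟨this, by rw [← e, this]⟩
    · exact Or.inr ⟨e ▸ Nat.mul_le_mul_right _ h', h'⟩
  have six : ∀ i, 6 ≤ a i → 6 * q i ≤ g0 := fun i h' => (h i).1 ▸ Nat.mul_le_mul_right _ h'
  refine ⟨fun i => ?_, ?_⟩
  · by_contra hlt
    push Not at hlt
    have h6 := six i hlt
    have b0 := bnd 0
    have b1 := bnd 1
    have b2 := bnd 2
    rcases (by omega : i = 0 ∨ i = 1 ∨ i = 2) with rfl | rfl | rfl <;> omega
  · rcases bnd 0 with b0 | b0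
    · exact ⟨0, b0.1⟩
    rcases bnd 1 with b1 | b1
    · exact ⟨1, b1.1⟩
    rcases bnd 2 with b2 | b2
    · exact ⟨2, b2.1⟩
    omega

/-- A two-dimensional group generated by two elements of order three. -/
theorem twoDim_core (hf : IsFpf f) (hdim : finrank k W = 2) (x y : K)
    (hgen : Subgroup.closure {x, y} = ⊤) (hx3 : x ^ 3 = 1) (hy3 : y ^ 3 = 1) (hne : ¬ Commute x y) :
    2 ∣ Nat.card K ∧ ∀ g : K, ∃ a : ℕ, 1 ≤ a ∧ a ≤ 5 ∧ IsScalar f (g ^ a) := by
  classical
  letI := poleAction (f := f) hf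
  haveI := finite_pole hf hdim
  haveI : Nontrivial W := Module.nontrivial_of_finrank_eq_succ hdim
  haveI := Fintype.ofFinite K
  haveI := Fintype.ofFinite (Pole f)
  have finj := hf.injective
  let Z : Subgroup K :=
    { carrier := {g | IsScalar f g}
      one_mem' := ⟨1, by rw [map_one, one_smul]⟩
      mul_mem' := fun {a b} ⟨c, hc⟩ ⟨d, hd⟩ => ⟨c * d, by
        rw [map_mul, hc, hd, smul_mul_assoc, one_mul, smul_smul]⟩
      inv_mem' := fun {a} ⟨c, hc⟩ => ⟨c⁻¹, by
        have h1 : f a⁻¹ * f a = 1 := by rw [← map_mul, inv_mul_cancel, map_one]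
        rw [hc, mul_smul_comm, mul_one] at h1
        have hc0 : c ≠ 0 := fun e => one_ne_zero (α := Module.End k W) (by rw [← h1, e, zero_smul])
        calc f a⁻¹ = c⁻¹ • c • f a⁻¹ := by rw [smul_smul, inv_mul_cancel₀ hc0, one_smul]
          _ = c⁻¹ • 1 := by rw [h1]⟩ }
  haveI hZn : Z.Normal := ⟨fun g hg h => by
    obtain ⟨c, hc⟩ := hg
    exact ⟨c, by rw [map_mul, map_mul, hc, mul_smul_comm, mul_one, smul_mul_assoc, ← map_mul,
      mul_inv_cancel, map_one]⟩⟩
  -- stabilisers are abelian
  have hstab_comm : ∀ (L : Pole f) (a b : K), a ∈ MulAction.stabilizer K L →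
      b ∈ MulAction.stabilizer K L → Commute a b := by
    intro L a b ha hb
    obtain ⟨g, v, c, -, hv, -, hL⟩ := L.2
    have eig : ∀ s : K, s ∈ MulAction.stabilizer K L → ∃ d : k, f s v = d • v := by
      intro s hs
      have h1 : L.1.map (f s) = L.1 := congrArg Subtype.val (MulAction.mem_stabilizer_iff.mp hs)
      rw [hL, map_span hf] at h1
      obtain ⟨d, hd⟩ := Submodule.mem_span_singleton.mp (h1 ▸ Submodule.mem_span_singleton_self (f s v))
      exact ⟨d, hd.symm⟩
    obtain ⟨da, hda⟩ := eig a ha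
    obtain ⟨db, hdb⟩ := eig b hb
    have : (b * a)⁻¹ * (a * b) = 1 := by
      refine eq_one_of_fixed hf hv ?_
      have e1 : f (a * b) v = f (b * a) v := by
        rw [map_mul, map_mul, Module.End.mul_apply, Module.End.mul_apply, hdb, hda, map_smul,
          map_smul, hda, hdb, smul_smul, smul_smul, mul_comm]
      rw [map_mul, Module.End.mul_apply, e1, ← Module.End.mul_apply, ← map_mul, inv_mul_cancel,
        map_one, Module.End.one_apply]
    exact (inv_mul_eq_one.mp this).symm
  have hindex : ∀ L : Pole f, 3 ≤ (MulAction.stabilizer K L).index := by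
    intro L
    set S := MulAction.stabilizer K L
    by_contra hlt
    have hpos : S.index ≠ 0 := Subgroup.index_ne_zero_of_finite
    have hin : ∀ u : K, u ^ 3 = 1 → u ∈ S := by
      intro u hu
      rcases (by omega : S.index = 1 ∨ S.index = 2) with h | h
      · rw [Subgroup.index_eq_one.mp h]; exact Subgroup.mem_top u
      · have h2 := Subgroup.sq_mem_of_index_two h u
        have : u = (u ^ 2) ^ 2 := by rw [← pow_mul]; calc u = u * u ^ 3 := by rw [hu, mul_one]
                                       _ = _ := (pow_succ' u 3).symm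
        rw [this]
        exact pow_mem h2 2
    exact hne (hstab_comm L x y (hin x hx3) (hin y hy3))
  have hZle : ∀ L : Pole f, Z ≤ MulAction.stabilizer K L := by
    rintro L s ⟨c, hc⟩
    obtain ⟨g, v, -, -, hv, -, hL⟩ := L.2
    refine MulAction.mem_stabilizer_iff.mpr (Subtype.ext ?_)
    show L.1.map (f s) = L.1
    have hc0 : c ≠ 0 := fun e => map_ne_zero_vec hf s hv (by rw [hc, e, zero_smul]; rfl)
    rw [hL, map_span hf, hc, LinearMap.smul_apply, Module.End.one_apply,
      Submodule.span_singleton_smul_eq (Ne.isUnit hc0)]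
  set z := Nat.card Z with hz
  set g0 := Z.index with hg0
  have hN : Nat.card K = z * g0 := Z.card_mul_index.symm
  have hzpos : 0 < z := Nat.card_pos
  -- counting fixed points
  have hfix : ∀ g : K, Nat.card (MulAction.fixedBy (Pole f) g) =
      if g ∈ Z then Nat.card (Pole f) else 2 := by
    intro g
    split_ifs with hg
    · refine Nat.card_congr (Equiv.subtypeUnivEquiv fun L => ?_)
      exact MulAction.mem_stabilizer_iff.mp (hZle L hg)
    · obtain ⟨v, w, hv, hw, hvw, ⟨a, ha⟩, ⟨b, hb⟩, hall⟩ := eigvec_cases hf hdim hg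
      let P1 : Pole f := ⟨Submodule.span k {v}, g, v, a, hg, hv, ha, rfl⟩
      let P2 : Pole f := ⟨Submodule.span k {w}, g, w, b, hg, hw, hb, rfl⟩
      have hset : MulAction.fixedBy (Pole f) g = {P1, P2} := by
        ext L
        rw [MulAction.mem_fixedBy, Set.mem_insert_iff, Set.mem_singleton_iff]
        constructor
        · intro hL
          obtain ⟨g', u, c, -, hu, -, hLu⟩ := L.2
          have h1 : L.1.map (f g) = L.1 := congrArg Subtype.val hL
          rw [hLu, map_span hf] at h1
          obtain ⟨d, hd⟩ := Submodule.mem_span_singleton.mp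
            (h1 ▸ Submodule.mem_span_singleton_self (f g u))
          rcases hall u hu ⟨d, hd.symm⟩ with h | h
          · exact Or.inl (Subtype.ext (hLu.trans h))
          · exact Or.inr (Subtype.ext (hLu.trans h))
        · have key : ∀ (u : W) (d : k), u ≠ 0 → f g u = d • u →
              (Submodule.span k {u}).map (f g) = Submodule.span k {u} := by
            intro u d hu hd
            have hd0 : d ≠ 0 := fun e => map_ne_zero_vec hf g hu (by rw [hd, e, zero_smul])
            rw [map_span hf, hd, Submodule.span_singleton_smul_eq (Ne.isUnit hd0)]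
          rintro (rfl | rfl)
          · exact Subtype.ext (key v a hv ha)
          · exact Subtype.ext (key w b hw hb)
      rw [hset, Nat.card_coe_set_eq, Set.ncard_pair]
      exact fun e => hvw (congrArg Subtype.val e)
  set Ω := Quotient (MulAction.orbitRel K (Pole f)) with hΩ
  haveI := Fintype.ofFinite Ω
  have hburn : ∑ g : K, Nat.card (MulAction.fixedBy (Pole f) g) = Fintype.card Ω * Nat.card K := by
    simp only [Nat.card_eq_fintype_card]
    exact MulAction.sum_card_fixedBy_eq_card_orbits_mul_card_group K (Pole f)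
  simp only [hfix] at hburn
  rw [Finset.sum_ite, Finset.sum_const, Finset.sum_const, smul_eq_mul, smul_eq_mul] at hburn
  have hzc : (Finset.univ.filter (fun g : K => g ∈ Z)).card = z := by
    rw [hz, Nat.card_eq_fintype_card]
    exact (Fintype.card_subtype _).symm
  have hnzc : (Finset.univ.filter (fun g : K => g ∉ Z)).card = Nat.card K - z := by
    rw [Finset.filter_not, Finset.card_sdiff_of_subset (Finset.filter_subset _ _), hzc,
      Finset.card_univ, Nat.card_eq_fintype_card]
  rw [hzc, hnzc] at hburn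
  let rep : Ω → Pole f := fun ω => ω.out
  let a : Ω → ℕ := fun ω => Z.relIndex (MulAction.stabilizer K (rep ω))
  let q : Ω → ℕ := fun ω => (MulAction.stabilizer K (rep ω)).index
  have haq : ∀ ω, a ω * q ω = g0 := fun ω => Subgroup.relIndex_mul_index (hZle _)
  have hq3 : ∀ ω, 3 ≤ q ω := fun ω => hindex _
  have ha2 : ∀ ω, 2 ≤ a ω := by
    intro ω
    obtain ⟨g, v, c, hg, hv, hgc, hL⟩ := (rep ω).2
    have hgS : g ∈ MulAction.stabilizer K (rep ω) := by
      refine MulAction.mem_stabilizer_iff.mpr (Subtype.ext ?_)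
      show (rep ω).1.map (f g) = (rep ω).1
      have hc0 : c ≠ 0 := fun e => map_ne_zero_vec hf g hv (by rw [hgc, e, zero_smul])
      rw [hL, map_span hf, hgc, Submodule.span_singleton_smul_eq (Ne.isUnit hc0)]
    have h1 : a ω ≠ 1 := fun e => hg (Subgroup.relIndex_eq_one.mp e hgS)
    have h2 : a ω ≠ 0 := Subgroup.index_ne_zero_of_finite
    omega
  have hP : Nat.card (Pole f) = ∑ ω : Ω, q ω := by
    rw [Nat.card_congr (MulAction.selfEquivSigmaOrbitsQuotientStabilizer K (Pole f)), Nat.card_sigma]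
    exact Finset.sum_congr rfl fun ω _ => (Subgroup.index_eq_card _).symm
  have heq : (∑ ω : Ω, q ω) + 2 * g0 = Fintype.card Ω * g0 + 2 := by
    rw [hP, hN] at hburn
    have h1 : z * ((∑ ω : Ω, q ω) + 2 * g0) = z * (Fintype.card Ω * g0 + 2) := by
      have h2 : z ≤ z * g0 := Nat.le_mul_of_pos_right _ (Nat.pos_of_ne_zero Subgroup.index_ne_zero_of_finite)
      have h3 : (z * g0 - z) * 2 + z * 2 = z * g0 * 2 := by rw [← add_mul, Nat.sub_add_cancel h2]
      calc z * ((∑ ω : Ω, q ω) + 2 * g0) = z * (∑ ω : Ω, q ω) + z * g0 * 2 := by ring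
        _ = z * (∑ ω : Ω, q ω) + ((z * g0 - z) * 2 + z * 2) := by rw [h3]
        _ = Fintype.card Ω * (z * g0) + z * 2 := by rw [← hburn]; ring
        _ = _ := by ring
    exact Nat.eq_of_mul_eq_mul_left hzpos h1
  have hg0pos : 2 ≤ g0 := by
    by_contra hlt
    have h1 : Z.index = 1 := by
      have : Z.index ≠ 0 := Subgroup.index_ne_zero_of_finite
      omega
    obtain ⟨c, hc⟩ := (Subgroup.index_eq_one.mp h1 ▸ Subgroup.mem_top x : x ∈ Z)
    refine hne (finj ?_)
    rw [map_mul, map_mul, hc, smul_mul_assoc, one_mul, mul_smul_comm, mul_one]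
  have h2q : ∀ ω, 2 * q ω ≤ g0 := fun ω => haq ω ▸ Nat.mul_le_mul_right _ (ha2 ω)
  have hr : Fintype.card Ω = 3 := by
    have h1 : 2 * (∑ ω : Ω, q ω) ≤ Fintype.card Ω * g0 := by
      rw [Finset.mul_sum]
      refine (Finset.sum_le_card_nsmul _ _ g0 fun ω _ => h2q ω).trans ?_
      rw [smul_eq_mul, Finset.card_univ]
    have h3 : Fintype.card Ω * 3 ≤ ∑ ω : Ω, q ω := by
      have := Finset.card_nsmul_le_sum Finset.univ q 3 (fun ω _ => hq3 ω)
      rwa [smul_eq_mul, Finset.card_univ] at this
    generalize Fintype.card Ω = r at *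
    rcases r with _ | _ | _ | _ | r
    · omega
    · omega
    · omega
    · rfl
    · exfalso; nlinarith
  let e := (Fintype.equivFinOfCardEq hr).symm
  obtain ⟨hall, hex⟩ := orbit_equation_arith (g0 := g0) (q := q ∘ e) (a := a ∘ e) (by
    have h1 : ∑ ω : Ω, q ω = (q ∘ e) 0 + (q ∘ e) 1 + (q ∘ e) 2 := by
      rw [← Equiv.sum_comp e q, Fin.sum_univ_three]; rfl
    rw [hr, h1] at heq
    omega) (fun i => ⟨haq _, ha2 _, hq3 _⟩)
  have hbound : ∀ ω, a ω ≤ 5 := fun ω => by simpa using hall (e.symm ω)
  refine ⟨?_, fun g => ?_⟩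
  · obtain ⟨i, hi⟩ := hex
    have hi' : Z.relIndex (MulAction.stabilizer K (rep (e i))) = 2 := hi
    refine dvd_trans ?_ (Subgroup.card_subgroup_dvd_card (MulAction.stabilizer K (rep (e i))))
    rw [← hi', Subgroup.relIndex]
    exact Subgroup.index_dvd_card _
  · by_cases hg : IsScalar f g
    · exact ⟨1, le_rfl, by omega, by rwa [pow_one]⟩
    obtain ⟨v, w, hv, -, -, ⟨c, hc⟩, -, -⟩ := eigvec_cases hf hdim hg
    let L : Pole f := ⟨Submodule.span k {v}, g, v, c, hg, hv, hc, rfl⟩
    have hgL : g ∈ MulAction.stabilizer K L := by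
      refine MulAction.mem_stabilizer_iff.mpr (Subtype.ext ?_)
      show (Submodule.span k {v}).map (f g) = Submodule.span k {v}
      have hc0 : c ≠ 0 := fun e => map_ne_zero_vec hf g hv (by rw [hc, e, zero_smul])
      rw [map_span hf, hc, Submodule.span_singleton_smul_eq (Ne.isUnit hc0)]
    set ω : Ω := Quotient.mk'' L
    obtain ⟨h, hh⟩ : L ∈ MulAction.orbit K (rep ω) :=
      Quotient.exact' (show (Quotient.mk'' L : Ω) = Quotient.mk'' (rep ω) from (Quotient.out_eq' ω).symm)
    have hg' : h⁻¹ * g * h ∈ MulAction.stabilizer K (rep ω) := by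
      rw [MulAction.mem_stabilizer_iff, mul_smul, mul_smul, show h • rep ω = L from hh,
        MulAction.mem_stabilizer_iff.mp hgL, ← hh, inv_smul_smul]
    haveI : (Z.subgroupOf (MulAction.stabilizer K (rep ω))).Normal := inferInstance
    have hp := Subgroup.pow_index_mem (Z.subgroupOf (MulAction.stabilizer K (rep ω)))
      (⟨_, hg'⟩ : MulAction.stabilizer K (rep ω))
    rw [Subgroup.mem_subgroupOf, SubgroupClass.coe_pow] at hp
    refine ⟨a ω, le_of_lt (ha2 ω), hbound ω, ?_⟩
    have hpz : (h⁻¹ * g * h) ^ a ω ∈ Z := hp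
    have h5 := hZn.conj_mem _ hpz h
    rwa [← conj_pow, show h * (h⁻¹ * g * h) * h⁻¹ = g by group] at h5

end Cfsg.Agent.Zassenhaus
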