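import Mathlib

/-!
Presentations of Z-groups in which elements of prime order normalising each other commute.
-/

set_option autoImplicit false

namespace Cfsg.Agent.Zassenhaus

open Subgroup
open scoped commutatorElement

/-- the relations of a metacyclic group -/
def zRels (n m r : ℕ) : Set (FreeGroup (Fin 2)) :=
  {FreeGroup.of (0 : Fin 2) ^ n, FreeGroup.of (1 : Fin 2) ^ m,
    (FreeGroup.of (0 : Fin 2))⁻¹ * FreeGroup.of 1 * FreeGroup.of 0 * (FreeGroup.of (1 : Fin 2) ^ r)⁻¹}

/-- the presented metacyclic group has at most `n * m` elements -/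
theorem zRels_card {n m r : ℕ} (hn : 0 < n) (hm : 0 < m) :
    Finite (PresentedGroup (zRels n m r)) ∧ Nat.card (PresentedGroup (zRels n m r)) ≤ n * m := by
  classical
  set X : PresentedGroup (zRels n m r) := PresentedGroup.of 0 with hX
  set Y : PresentedGroup (zRels n m r) := PresentedGroup.of 1 with hY
  have hXn : X ^ n = 1 := by
    have := PresentedGroup.one_of_mem (rels := zRels n m r) (x := FreeGroup.of (0 : Fin 2) ^ n) (Or.inl rfl)
    rwa [map_pow] at this
  have hYm : Y ^ m = 1 := by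
    have := PresentedGroup.one_of_mem (rels := zRels n m r) (x := FreeGroup.of (1 : Fin 2) ^ m)
      (Or.inr (Or.inl rfl))
    rwa [map_pow] at this
  have hrel : Y * X = X * Y ^ r := by
    have := PresentedGroup.one_of_mem (rels := zRels n m r)
      (x := (FreeGroup.of (0 : Fin 2))⁻¹ * FreeGroup.of 1 * FreeGroup.of 0 * (FreeGroup.of (1 : Fin 2) ^ r)⁻¹)
      (Or.inr (Or.inr rfl))
    rw [map_mul, map_mul, map_mul, map_inv, map_inv, map_pow, mul_inv_eq_one] at this
    change X⁻¹ * Y * X = Y ^ r at this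
    rw [← this]; group
  have hYX : ∀ j : ℕ, Y ^ j * X = X * Y ^ (r * j) := fun j => by
    induction j with
    | zero => simp
    | succ j ih => rw [pow_succ, mul_assoc, hrel, ← mul_assoc, ih, mul_assoc, ← pow_add, Nat.mul_succ]
  let S : Fin n × Fin m → PresentedGroup (zRels n m r) := fun p => X ^ (p.1 : ℕ) * Y ^ (p.2 : ℕ)
  have hmem : ∀ i j : ℕ, X ^ i * Y ^ j ∈ Set.range S := fun i j =>
    ⟨(⟨i % n, Nat.mod_lt _ hn⟩, ⟨j % m, Nat.mod_lt _ hm⟩), by
      simp only [S]; rw [← pow_eq_pow_mod i hXn, ← pow_eq_pow_mod j hYm]⟩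
  have hsurj : Function.Surjective S := by
    intro g
    have hg : g ∈ Subgroup.closure (Set.range (PresentedGroup.of (rels := zRels n m r))) := by
      rw [PresentedGroup.closure_range_of]; exact mem_top g
    have hstep : ∀ a ∈ Set.range (PresentedGroup.of (rels := zRels n m r)),
        ∀ s ∈ Set.range S, s * a ∈ Set.range S := by
      rintro _ ⟨i, rfl⟩ _ ⟨⟨p, q⟩, rfl⟩
      fin_cases i
      · show X ^ (p : ℕ) * Y ^ (q : ℕ) * X ∈ _
        rw [mul_assoc, hYX, ← mul_assoc, ← pow_succ]; exact hmem _ _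
      · show X ^ (p : ℕ) * Y ^ (q : ℕ) * Y ∈ _
        rw [mul_assoc, ← pow_succ]; exact hmem _ _
    have hpow : ∀ a ∈ Set.range (PresentedGroup.of (rels := zRels n m r)), ∀ k : ℕ,
        ∀ s ∈ Set.range S, s * a ^ k ∈ Set.range S := by
      intro a ha k
      induction k with
      | zero => intro s hs; simpa using hs
      | succ k ih => intro s hs; rw [pow_succ, ← mul_assoc]; exact hstep a ha _ (ih s hs)
    refine (Subgroup.closure_induction_right (p := fun g _ => g ∈ Set.range S) ?_ ?_ ?_ hg)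
    · simpa using hmem 0 0
    · exact fun x _ a ha hx => hstep a ha x hx
    · intro x _ a ha hx
      obtain ⟨N, hN, hN1⟩ : ∃ N, 0 < N ∧ a ^ N = 1 := by
        obtain ⟨i, rfl⟩ := ha
        fin_cases i
        · exact ⟨n, hn, hXn⟩
        · exact ⟨m, hm, hYm⟩
      have : a⁻¹ = a ^ (N - 1) := inv_eq_of_mul_eq_one_right (by
        rw [← pow_succ', Nat.sub_add_cancel hN, hN1])
      rw [this]
      exact hpow a ha _ x hx
  haveI := Finite.of_surjective S hsurj
  refine ⟨inferInstance, (Nat.card_le_card_of_surjective S hsurj).trans ?_⟩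
  simp

variable {G : Type*} [Group G] [Finite G]

/-- the presentation -/
theorem zgroup_presentation [IsZGroup G]
    (hpq : ∀ (p q : ℕ) [Fact p.Prime] [Fact q.Prime] (a b : G), orderOf a = p → orderOf b = q →
      a * b * a⁻¹ ∈ zpowers b → Commute a b) :
    ∃ n m r : ℕ, 0 < n ∧ 0 < m ∧ Nat.Coprime (r - 1) m ∧ Nat.Coprime n m ∧ 1 ≤ r ∧
      r ^ (n / ∏ p ∈ n.primeFactors, p) % m = 1 % m ∧ Nonempty (G ≃* PresentedGroup (zRels n m r)) := by
  classical
  obtain ⟨y0, hy0⟩ := isCyclic_iff_exists_zpowers_eq_top.mp (IsZGroup.isCyclic_commutator G)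
  set y : G := (y0 : G) with hydef
  have hy : zpowers y = commutator G := by
    have := congrArg (Subgroup.map (commutator G).subtype) hy0
    rw [MonoidHom.map_zpowers, ← MonoidHom.range_eq_map, Subgroup.range_subtype] at this
    exact this
  set m := orderOf y with hm
  have hmC : Nat.card (commutator G) = m := by rw [← hy, Nat.card_zpowers]
  set n := (commutator G).index with hn
  have hcop : m.Coprime n := hmC ▸ IsZGroup.coprime_commutator_index G
  obtain ⟨H, hH⟩ := Subgroup.exists_right_complement'_of_coprime (IsZGroup.coprime_commutator_index G)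
  let eH : Abelianization G ≃* H := hH.symm.QuotientMulEquiv
  haveI : IsCyclic H := eH.isCyclic.mp inferInstance
  obtain ⟨x0, hx0⟩ := isCyclic_iff_exists_zpowers_eq_top.mp (inferInstance : IsCyclic H)
  set x : G := (x0 : G) with hx
  have hxo : orderOf x = n := by
    rw [hx, Subgroup.orderOf_coe, ← Nat.card_zpowers, hx0, Subgroup.card_top, hn,
      hH.symm.index_eq_card]
  have hn0 : 0 < n := hxo ▸ orderOf_pos x
  have hm0 : 0 < m := orderOf_pos y
  haveI hYn : (zpowers y).Normal := hy ▸ inferInstance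
  obtain ⟨r0, hr0⟩ : ∃ r0 : ℕ, x⁻¹ * y * x = y ^ r0 := by
    have := hYn.conj_mem y (mem_zpowers y) x⁻¹
    rw [inv_inv] at this
    obtain ⟨k, hk⟩ := (isOfFinOrder_of_finite y).mem_powers_iff_mem_zpowers.mpr this
    exact ⟨k, hk.symm⟩
  set r := r0 + m with hr
  have hr1 : 1 ≤ r := by omega
  have hxr : x⁻¹ * y * x = y ^ r := by rw [hr, pow_add, pow_orderOf_eq_one, mul_one, hr0]
  -- `x` and `y` generate
  have hgen : Subgroup.closure ({x, y} : Set G) = ⊤ := by
    rw [eq_top_iff, ← hH.sup_eq_top, sup_le_iff, ← hy]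
    refine ⟨zpowers_le.mpr (subset_closure (Set.mem_insert_of_mem _ rfl)), fun u hu => ?_⟩
    have : (⟨u, hu⟩ : H) ∈ zpowers x0 := hx0 ▸ mem_top _
    obtain ⟨i, hi⟩ := mem_zpowers_iff.mp this
    rw [show u = x ^ i from (congrArg Subtype.val hi).symm.trans (by rw [Subgroup.coe_zpow])]
    exact zpow_mem (subset_closure (Set.mem_insert _ _)) _
  have hrm : (r - 1).Coprime m := by
    -- the subgroup generated by `y ^ (r - 1)` is normal with commutative quotient
    set D := zpowers (y ^ (r - 1)) with hD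
    have hconj : ∀ i : ℕ, x⁻¹ * y ^ i * x = y ^ (r * i) := fun i => by
      have h := conj_pow (a := x⁻¹) (b := y) (i := i)
      rw [inv_inv] at h
      rw [← h, hxr, ← pow_mul]
    have hxD : x⁻¹ * y ^ (r - 1) * x ∈ D := by
      rw [hconj, Nat.mul_comm, pow_mul]; exact pow_mem (mem_zpowers _) _
    haveI hDn : D.Normal := by
      rw [← normalizer_eq_top_iff, eq_top_iff, ← hgen, closure_le]
      have key : ∀ g : G, g⁻¹ * y ^ (r - 1) * g ∈ D → g ∈ normalizer (D : Set G) := by
        intro g hg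
        have hle : D.map (MulAut.conj g⁻¹).toMonoidHom ≤ D := by
          rw [hD, MonoidHom.map_zpowers, zpowers_le]
          simpa using hg
        have heq := Subgroup.eq_of_le_of_card_ge hle
          (Subgroup.card_map_of_injective (MulAut.conj g⁻¹).injective).ge
        rw [← inv_mem_iff]
        refine mem_normalizer_iff.mpr fun u => ?_
        rw [inv_inv]
        conv_rhs => rw [← heq]
        constructor
        · intro hu; exact ⟨u, hu, by simp⟩
        · rintro ⟨v, hv, e⟩
          simp at e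
          rwa [← e]
      rintro g (rfl | rfl)
      · exact key _ hxD
      · refine key _ ?_
        rw [show y⁻¹ * y ^ (r - 1) * y = y ^ (r - 1) by
          rw [mul_assoc, (Commute.pow_self y (r - 1)).eq, inv_mul_cancel_left]]
        exact mem_zpowers _
    have hle : commutator G ≤ D := by
      haveI : IsMulCommutative (Subgroup.closure ((QuotientGroup.mk' D) '' {x, y})) := by
        refine isMulCommutative_closure ?_
        have hxy : (QuotientGroup.mk' D) y * (QuotientGroup.mk' D) x =
            (QuotientGroup.mk' D) x * (QuotientGroup.mk' D) y := by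
          rw [← map_mul, ← map_mul]
          refine (QuotientGroup.eq.mpr ?_).symm
          rw [show (x * y)⁻¹ * (y * x) = y⁻¹ * (x⁻¹ * y * x) by group, hxr,
            show y⁻¹ * y ^ r = y ^ (r - 1) by
              rw [inv_mul_eq_iff_eq_mul, ← pow_succ', Nat.sub_add_cancel hr1]]
          exact mem_zpowers _
        rintro _ ⟨u, (rfl | rfl), rfl⟩ _ ⟨v, (rfl | rfl), rfl⟩
        exacts [rfl, hxy.symm, hxy, rfl]
      rw [← QuotientGroup.ker_mk' D]
      refine fun c hc => ?_
      rw [MonoidHom.mem_ker]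
      have hall : ∀ u : G, QuotientGroup.mk' D u ∈ Subgroup.closure ((QuotientGroup.mk' D) '' {x, y}) := by
        intro u
        rw [← MonoidHom.map_closure, hgen]
        exact mem_map_of_mem _ (mem_top u)
      let Q := Subgroup.closure ((QuotientGroup.mk' D) '' {x, y})
      let f : G →* Q := (QuotientGroup.mk' D).codRestrict Q hall
      letI : CommGroup Q := { (inferInstance : Group Q) with mul_comm := mul_comm' }
      exact congrArg Subtype.val (MonoidHom.mem_ker.mp (Abelianization.commutator_subset_ker f hc))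
    rw [← hy, zpowers_le] at hle
    obtain ⟨k, hk⟩ := (isOfFinOrder_of_finite _).mem_powers_iff_mem_zpowers.mpr hle
    simp only at hk
    rw [← pow_mul] at hk
    nth_rewrite 2 [← pow_one y] at hk
    rw [pow_eq_pow_iff_modEq] at hk
    refine Nat.coprime_of_dvd fun p hp hp1 hp2 => ?_
    have h1 : p ∣ 1 := ((hk.of_dvd hp2).dvd_iff dvd_rfl).mp (hp1.trans (dvd_mul_right _ _))
    exact hp.one_lt.ne' (Nat.dvd_one.mp h1)
  -- the order of `r`
  have hconjx : ∀ i : ℕ, (x ^ i)⁻¹ * y * x ^ i = y ^ (r ^ i) := fun i => by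
    induction i with
    | zero => simp
    | succ i ih =>
      rw [pow_succ, mul_inv_rev, show x⁻¹ * (x ^ i)⁻¹ * y * (x ^ i * x) = x⁻¹ * ((x ^ i)⁻¹ * y * x ^ i) * x by
        group, ih]
      have h := conj_pow (a := x⁻¹) (b := y) (i := r ^ i)
      rw [inv_inv] at h
      rw [← h, hxr, ← pow_mul, pow_succ']
  have hrn : r ^ n ≡ 1 [MOD m] := by
    have h := hconjx n
    rw [← hxo, pow_orderOf_eq_one, inv_one, one_mul, mul_one, hxo] at h
    nth_rewrite 1 [← pow_one y] at h
    exact (pow_eq_pow_iff_modEq.mp h).symm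
  have hrp : ∀ p ∈ n.primeFactors, r ^ (n / p) ≡ 1 [MOD m] := by
    intro p hp
    obtain ⟨hpp, hpn, -⟩ := Nat.mem_primeFactors.mp hp
    haveI := Fact.mk hpp
    set u := r ^ (n / p) with hu
    have hup : u ^ p ≡ 1 [MOD m] := by
      rw [hu, ← pow_mul, Nat.div_mul_cancel hpn]; exact hrn
    have hmain : ∀ q, q.Prime → q ∣ m → u ≡ 1 [MOD q] := by
      intro q hq hqm
      haveI := Fact.mk hq
      have ha : orderOf (x ^ (n / p))⁻¹ = p := by
        rw [orderOf_inv, ← hxo, orderOf_pow, hxo,
          Nat.gcd_eq_right (Nat.div_dvd_of_dvd hpn), Nat.div_div_self hpn hn0.ne']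
      have hb : orderOf (y ^ (m / q)) = q := by
        rw [orderOf_pow, ← hm, Nat.gcd_eq_right (Nat.div_dvd_of_dvd hqm), Nat.div_div_self hqm hm0.ne']
      have hc' : (x ^ (n / p))⁻¹ * y ^ (m / q) * x ^ (n / p) = (y ^ (m / q)) ^ u := by
        have h := conj_pow (a := (x ^ (n / p))⁻¹) (b := y) (i := m / q)
        rw [inv_inv] at h
        rw [← h, hconjx, ← pow_mul, ← pow_mul, mul_comm]
      have hcomm := hpq p q _ _ ha hb (by rw [inv_inv, hc']; exact pow_mem (mem_zpowers _) _)
      have e : (y ^ (m / q)) ^ u = y ^ (m / q) := by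
        rw [← hc', hcomm.eq, inv_mul_cancel_right]
      nth_rewrite 2 [← pow_one (y ^ (m / q))] at e
      rw [pow_eq_pow_iff_modEq, hb] at e
      exact e
    have hu1 : 1 ≤ u := Nat.one_le_pow _ _ hr1
    have hd : m ∣ (u - 1) * ∑ i ∈ Finset.range p, u ^ i := by
      rw [mul_comm, geom_sum_mul_of_one_le hu1 p]
      exact (Nat.modEq_iff_dvd' (Nat.one_le_pow _ _ hu1)).mp hup.symm
    refine ((Nat.modEq_iff_dvd' hu1).mpr ((Nat.Coprime.dvd_mul_right ?_).mp hd)).symm
    refine Nat.coprime_of_dvd fun q hq hqm hqs => ?_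
    have h1 : ∑ i ∈ Finset.range p, u ^ i ≡ p [MOD q] := by
      have h2 : ∀ i ∈ Finset.range p, u ^ i ≡ 1 [MOD q] := fun i _ => by
        simpa using (hmain q hq hqm).pow i
      have := Nat.ModEq.sum h2
      simpa using this
    have hqp : q ∣ p := (h1.dvd_iff dvd_rfl).mp hqs
    obtain rfl := (Nat.prime_dvd_prime_iff_eq hq hpp).mp hqp
    exact hq.one_lt.ne' (Nat.eq_one_of_dvd_coprimes hcop hqm hpn)
  have hfinal : r ^ (n / ∏ p ∈ n.primeFactors, p) % m = 1 % m := by
    haveI : NeZero m := ⟨hm0.ne'⟩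
    have key : ∀ j : ℕ, r ^ j ≡ 1 [MOD m] ↔ orderOf (r : ZMod m) ∣ j := fun j => by
      rw [orderOf_dvd_iff_pow_eq_one, ← ZMod.natCast_eq_natCast_iff]
      push_cast; rfl
    set d := orderOf (r : ZMod m) with hd
    have hdn : d ∣ n := (key n).mp hrn
    have hprodn : (∏ p ∈ n.primeFactors, p) ∣ n := Nat.prod_primeFactors_dvd n
    refine (key _).mpr ((Nat.dvd_div_iff_mul_dvd hprodn).mpr ?_)
    have hd0 : d ≠ 0 := fun e => by rw [e, zero_dvd_iff] at hdn; omega
    have hP0 : (∏ p ∈ n.primeFactors, p) ≠ 0 :=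
      Finset.prod_ne_zero_iff.mpr fun p hp => (Nat.prime_of_mem_primeFactors hp).ne_zero
    rw [← Nat.factorization_prime_le_iff_dvd (mul_ne_zero hP0 hd0) hn0.ne']
    intro p hp
    rw [Nat.factorization_mul hP0 hd0, Finsupp.add_apply,
      Nat.factorization_prod (fun q hq => (Nat.prime_of_mem_primeFactors hq).ne_zero), Finsupp.finsetSum_apply]
    rw [Finset.sum_congr rfl (fun q hq => by
      rw [(Nat.prime_of_mem_primeFactors hq).factorization, Finsupp.single_apply])]
    rw [Finset.sum_ite_eq' n.primeFactors p (fun _ => 1)]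
    by_cases hpn : p ∈ n.primeFactors
    · rw [if_pos hpn]
      have hdvd : d ∣ n / p := (key _).mp (hrp p hpn)
      have h := (Nat.factorization_prime_le_iff_dvd hd0
        (Nat.div_pos (Nat.le_of_dvd hn0 (Nat.mem_primeFactors.mp hpn).2.1) hp.pos).ne').mpr hdvd p hp
      rw [Nat.factorization_div (Nat.mem_primeFactors.mp hpn).2.1, Finsupp.tsub_apply, hp.factorization,
        Finsupp.single_eq_same] at h
      have h1 : 1 ≤ n.factorization p :=
        hp.factorization_pos_of_dvd hn0.ne' (Nat.mem_primeFactors.mp hpn).2.1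
      omega
    · rw [if_neg hpn, zero_add]
      exact ((Nat.factorization_prime_le_iff_dvd hd0 hn0.ne').mpr hdn) p hp
  refine ⟨n, m, r, hn0, hm0, hrm, hcop.symm, hr1, hfinal, ?_⟩
  let g : Fin 2 → G := ![x, y]
  have hrels : ∀ w ∈ zRels n m r, FreeGroup.lift g w = 1 := by
    rintro w (rfl | rfl | rfl)
    · simp [g, ← hxo, pow_orderOf_eq_one]
    · simp [g, hm, pow_orderOf_eq_one]
    · simp [g, hxr]
  let F := PresentedGroup.toGroup hrels
  obtain ⟨hfin, hcard⟩ := zRels_card (r := r) hn0 hm0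
  have hF : Function.Surjective F := by
    rw [← MonoidHom.range_eq_top, eq_top_iff, ← hgen, closure_le]
    rintro u (rfl | rfl)
    · exact ⟨PresentedGroup.of 0, PresentedGroup.toGroup.of hrels⟩
    · exact ⟨PresentedGroup.of 1, PresentedGroup.toGroup.of hrels⟩
  have hG : Nat.card G = n * m := by rw [← (commutator G).index_mul_card, hmC]
  haveI := hfin
  refine ⟨(MulEquiv.ofBijective F ((Nat.bijective_iff_surjective_and_card F).mpr ⟨hF, ?_⟩)).symm⟩
  exact le_antisymm (hcard.trans hG.ge) (Nat.card_le_card_of_surjective F hF)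

end Cfsg.Agent.Zassenhaus
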